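import Groth.Agent.Surf.K664.RelWeier
import Groth.Agent.Curves.K322.CurveIso
import Groth.Agent.Dix.EllAff

/-!
# Curves of genus one with the same invariant

* `exists_iso_of_open`: proper curves with isomorphic open parts are isomorphic.
* `exists_iso_of_jInv`: over an algebraically closed field, pointed curves of genus one with the same invariant are
  isomorphic.
-/

set_option autoImplicit false
universe u

open CategoryTheory CategoryTheory.Limits AlgebraicGeometry Opposite TopologicalSpace IsLocalRing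
open Groth.Agent.Fdesc.LocGen Groth.Agent.Picfga.ZeroDef Groth.Agent.Picfga.ZeroDiv
open Groth.Agent Groth.Agent.Divis.EffCartier Groth.Agent.Divis.IdealComap Groth.Agent.CurvesB.HZero
open Groth.Agent.Grpsch.PicGrp K532.CurvePic K532.CurvePts

namespace K664.CurveIsoJ

open K664.PoleFilt K664.WeierFilt K664.FieldFilt K664.RelPole

/-- Proper curves with isomorphic open parts are isomorphic. -/
theorem exists_iso_of_open {S X Y : Scheme.{u}} (p : X ⟶ S) (q : Y ⟶ S) [IsIntegral X] [IsIntegral Y] [IsProper p]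
    [IsProper q] (hvX : ∀ x : X, ValuationRing (X.presheaf.stalk x)) (hvY : ∀ y : Y, ValuationRing (Y.presheaf.stalk y))
    {U V : Scheme.{u}} (i : U ⟶ X) (j : V ⟶ Y) [IsOpenImmersion i] [IsOpenImmersion j] [Nonempty U] (e : U ≅ V)
    (he : e.hom ≫ j ≫ q = i ≫ p) : ∃ e' : X ≅ Y, e'.hom ≫ q = p := by
  have hne : Nonempty V := ⟨e.hom (Classical.arbitrary U)⟩
  have key : ∀ {Z W : Scheme.{u}} (w : W ⟶ Z) [IsIntegral Z] [IsOpenImmersion w] [Nonempty W],
      ∃ g : Spec Z.functionField ⟶ W, g ≫ w = Z.fromSpecStalk (genericPoint Z) := by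
    intro Z W w _ _ _
    have h1 : Set.range (Z.fromSpecStalk (genericPoint Z)) ⊆ Set.range w := by
      rw [Scheme.range_fromSpecStalk]
      intro y hy
      have h2 : y = genericPoint Z := by
        have h3 : y ⤳ genericPoint Z := hy
        exact (h3.antisymm (genericPoint_specializes y)).eq
      rw [h2]
      have h4 := (genericPoint_spec Z).mem_open_set_iff w.isOpenEmbedding.isOpen_range
      exact h4.2 (by
        rw [Set.univ_inter]
        exact Set.range_nonempty _)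
    exact ⟨IsOpenImmersion.lift w _ h1, IsOpenImmersion.lift_fac _ _ _⟩
  obtain ⟨gX, hgX⟩ := key i
  obtain ⟨gY, hgY⟩ := key j
  obtain ⟨f, hf1, hf2⟩ := K322.CurveIso.exists_hom_of_generic p q hvX (gX ≫ e.hom ≫ j) (by
    rw [Category.assoc, Category.assoc, he, ← Category.assoc, hgX])
  obtain ⟨g, hg1, hg2⟩ := K322.CurveIso.exists_hom_of_generic q p hvY (gY ≫ e.inv ≫ i) (by
    rw [Category.assoc, Category.assoc, ← he, e.inv_hom_id_assoc, ← Category.assoc, hgY])
  have hf3 : i ≫ f = e.hom ≫ j := by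
    refine Dix.EllScheme.ext_of_generic i q gX hgX _ _ ?_ ?_
    · rw [Category.assoc, hf1, Category.assoc, he]
    · rw [← Category.assoc, hgX, hf2]
  have hg3 : j ≫ g = e.inv ≫ i := by
    refine Dix.EllScheme.ext_of_generic j p gY hgY _ _ ?_ ?_
    · rw [Category.assoc, hg1, Category.assoc, ← he, e.inv_hom_id_assoc]
    · rw [← Category.assoc, hgY, hg2]
  refine ⟨⟨f, g, ?_, ?_⟩, hf1⟩
  · apply Dix.EllScheme.hom_ext_generic p p
    · rw [Category.assoc, hg1, hf1]
    · exact Category.id_comp _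
    · rw [← hgX, Category.assoc, Category.assoc, ← Category.assoc i, hf3, Category.assoc, hg3, e.hom_inv_id_assoc,
        Category.comp_id]
  · apply Dix.EllScheme.hom_ext_generic q q
    · rw [Category.assoc, hf1, hg1]
    · exact Category.id_comp _
    · rw [← hgY, Category.assoc, Category.assoc, ← Category.assoc j, hg3, Category.assoc, hf3, e.inv_hom_id_assoc,
        Category.comp_id]

section field

variable {k : Type u} [Field k]

theorem fromSpec_over {X : Scheme.{u}} [X.Over (Spec (CommRingCat.of k))] (I : X.IdealSheafData)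
    (hU : IsAffineOpen (cU I)) : hU.fromSpec ≫ (X ↘ Spec (CommRingCat.of k)) =
      Spec.map (CommRingCat.ofHom (algebraMap k (Fn k I))) := by
  have h1 := IsAffineOpen.SpecMap_appLE_fromSpec (X ↘ Spec (CommRingCat.of k))
    (isAffineOpen_top (Spec (CommRingCat.of k))) hU le_top
  rw [← h1, IsAffineOpen.fromSpec_top, Scheme.isoSpec_Spec_inv, ← Spec.map_comp]
  congr 1

/-- Good coordinates are not of smaller degree. -/
theorem gen_good {A : Type u} [CommRing A] [IsDomain A] [Algebra k A] {V : ℕ → Submodule k A} (h : EllFilt V)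
    {x y : A} (g : Gen V x y) : x ∉ V 1 ∧ y ∉ V 2 := by
  constructor
  · intro hx
    obtain ⟨c, hc⟩ := h.exists_const hx
    exact g.x_ne c hc
  · intro hy
    obtain ⟨α, β, he⟩ := g.two y hy
    exact g.y_ne α β he

theorem isAffineOpen_cU {X : Scheme.{u}} [X.Over (Spec (CommRingCat.of k))] {g : ℕ} (hX : Curve k X g)
    (x : KPt k X) : IsAffineOpen (cU x.1.ker) := by
  have h1 := hX.proper
  have h2 := hX.smooth
  have h3 := hX.integral
  have h4 : Module.Finite k (Coh.HH X (Coh.structureModule X) 1) :=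
    VarietyA.CurveFin.finite_HH_structure k X 1
  have h5 := nonempty_cU hX x
  refine Dix.EllAff.isAffineOpen_compl (K := k) hX.dim.le (x := pnt x) ?_ (cU x.1.ker) fun y => ?_
  · intro hcon
    obtain ⟨y, hy⟩ := h5
    have h6 : genericPoint X ∈ cU x.1.ker :=
      ((genericPoint_spec X).mem_open_set_iff (cU x.1.ker).isOpen).2 (by
        rw [Set.univ_inter]
        exact ⟨y, hy⟩)
    rw [← hcon] at h6
    exact (notMem_cU hX x).2 rfl h6
  · exact (not_iff_comm.1 (notMem_cU hX x (y := y))).symm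

/-- **Curves of genus one with the same invariant are isomorphic.** -/
theorem exists_iso_of_jInv [IsAlgClosed k] (h3 : (3 : k) ≠ 0) {X₁ X₂ : Scheme.{u}}
    [X₁.Over (Spec (CommRingCat.of k))] [X₂.Over (Spec (CommRingCat.of k))] (hX₁ : Curve k X₁ 1) (hX₂ : Curve k X₂ 1)
    (x₁ : KPt k X₁) (x₂ : KPt k X₂) {a₁ b₁ a₂ b₂ : k} (hw₁ : HasWeier k x₁.1.ker a₁ b₁)
    (hw₂ : HasWeier k x₂.1.ker a₂ b₂) (hd₁ : 4 * a₁ ^ 3 + 27 * b₁ ^ 2 ≠ 0) (hd₂ : 4 * a₂ ^ 3 + 27 * b₂ ^ 2 ≠ 0)
    (hj : jInv a₁ b₁ = jInv a₂ b₂) :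
    ∃ e : X₁ ≅ X₂, e.hom ≫ (X₂ ↘ Spec (CommRingCat.of k)) = (X₁ ↘ Spec (CommRingCat.of k)) := by
  have i₁ := hX₁.integral
  have i₂ := hX₂.integral
  have n₁ := nonempty_cU hX₁ x₁
  have n₂ := nonempty_cU hX₂ x₂
  have p₁ := hX₁.proper
  have p₂ := hX₂.proper
  have s₁ := hX₁.smooth
  have s₂ := hX₂.smooth
  have d₁ : IsDomain (Fn k x₁.1.ker) := inferInstanceAs (IsDomain Γ(X₁, cU x₁.1.ker))
  have d₂ : IsDomain (Fn k x₂.1.ker) := inferInstanceAs (IsDomain Γ(X₂, cU x₂.1.ker))
  have e₁ : EllFilt (poles k x₁.1.ker) := ellFilt hX₁ x₁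
  have e₂ : EllFilt (poles k x₂.1.ker) := ellFilt hX₂ x₂
  obtain ⟨u, v, g, he⟩ := hw₁
  obtain ⟨u', v', g', he'⟩ := hw₂
  obtain ⟨ε⟩ := nonempty_algEquiv h3 e₁ e₂ g.x_mem (gen_good e₁ g).1 g.y_mem (gen_good e₁ g).2 he
    g'.x_mem (gen_good e₂ g').1 g'.y_mem (gen_good e₂ g').2 he' hd₁ hd₂ hj
  have a₁ := isAffineOpen_cU hX₁ x₁
  have a₂ := isAffineOpen_cU hX₂ x₂
  let ι : Spec (CommRingCat.of (Fn k x₁.1.ker)) ≅ Spec (CommRingCat.of (Fn k x₂.1.ker)) :=
    Scheme.Spec.mapIso (ε.toRingEquiv.toCommRingCatIso.symm).op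
  have hne : Nonempty (Spec Γ(X₁, cU x₁.1.ker)) := inferInstance
  refine exists_iso_of_open _ _ (Groth.Agent.Picfga.CurvePts.valuationRing_stalk (X₁ ↘ Spec (CommRingCat.of k)) hX₁.dim.le)
    (Groth.Agent.Picfga.CurvePts.valuationRing_stalk (X₂ ↘ Spec (CommRingCat.of k)) hX₂.dim.le) a₁.fromSpec a₂.fromSpec ι ?_
  rw [fromSpec_over, fromSpec_over]
  change Spec.map ε.toRingEquiv.toCommRingCatIso.inv ≫ _ = _
  rw [← Spec.map_comp]
  congr 1
  ext r
  exact ε.symm.commutes r

end field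

end K664.CurveIsoJ
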