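import Groth.Agent.Surf.K664.PoleMod
import Groth.Agent.Picfga.SecGraph
import Groth.Agent.S0002
import Groth.Agent.VarietyA.CurveFin
import Mathlib.RingTheory.Nakayama
import Mathlib.RingTheory.Ideal.Colon

/-!
# Global functions on a proper family

* `exists_global`: a rational function defined at all closed points is a global function.
* `exists_eq_mul`: a global function vanishing on a principal fibre is divisible by the equation of the fibre.
* `prime_germ`: the equation of an integral fibre is a prime element of the local rings at the points of the fibre.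
* `gl_surjective`: if all closed fibres have only constant functions, the global functions come from the base.
-/

set_option autoImplicit false
universe u

open CategoryTheory CategoryTheory.Limits AlgebraicGeometry Opposite TopologicalSpace
open Groth.Agent.Fdesc.LocGen
open Groth.Agent Groth.Agent.Divis.IdealComap Groth.Agent.CurvesB.HZero

namespace K664.GlobFun

open K664.PoleFilt

section global

variable {Y : Scheme.{u}} [IsIntegral Y]

/-- **Rational functions defined at all closed points are global functions.** -/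
theorem exists_global [CompactSpace Y] (J : Y.functionField)
    (h : ∀ y : Y, IsClosed ({y} : Set Y) → ∃ a : Y.presheaf.stalk y, algebraMap _ Y.functionField a = J) :
    ∃ s : Γ(Y, ⊤), ∀ y : Y, algebraMap _ Y.functionField (Y.presheaf.germ ⊤ y trivial s) = J := by
  have H : ∀ x : Y, ∃ (W : Y.Opens) (t : Γ(Y, W)) (hx : x ∈ W),
      algebraMap _ Y.functionField (Y.presheaf.germ W x hx t) = J := by
    intro x
    obtain ⟨y, hy, hyc⟩ := (isClosed_closure (s := ({x} : Set Y))).exists_closed_singleton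
      ⟨x, subset_closure rfl⟩
    obtain ⟨a, ha⟩ := h y hyc
    obtain ⟨W, hyW, t, rfl⟩ := Y.presheaf.exists_germ_eq a
    have hxy : x ⤳ y := specializes_iff_mem_closure.2 hy
    have hxW : x ∈ W := hxy.mem_open W.isOpen hyW
    refine ⟨W, t, hxW, ?_⟩
    rw [← ha]
    change Y.presheaf.stalkSpecializes _ _ = Y.presheaf.stalkSpecializes _ _
    rw [TopCat.Presheaf.germ_stalkSpecializes_apply, TopCat.Presheaf.germ_stalkSpecializes_apply]
  choose W t hx ht using H
  have hgen : ∀ x, genericPoint Y ∈ W x := fun x =>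
    ((genericPoint_spec Y).mem_open_set_iff (W x).isOpen).2 ⟨x, trivial, hx x⟩
  have ht' : ∀ x, Y.presheaf.germ (W x) (genericPoint Y) (hgen x) (t x) = J := by
    intro x
    rw [← ht x]
    change _ = Y.presheaf.stalkSpecializes _ _
    rw [TopCat.Presheaf.germ_stalkSpecializes_apply]
  have hinj : ∀ (V : Y.Opens) (hV : genericPoint Y ∈ V) (a b : Γ(Y, V)),
      Y.presheaf.germ V (genericPoint Y) hV a = Y.presheaf.germ V (genericPoint Y) hV b → a = b := by
    intro V hV a b hab
    have : Nonempty V := ⟨⟨_, hV⟩⟩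
    exact germ_injective_of_isIntegral Y (genericPoint Y) hV hab
  obtain ⟨s, hs⟩ := ores_glue W (fun _ => le_top) (fun x _ => Opens.mem_iSup.2 ⟨x, hx x⟩) t (by
    intro i j
    apply hinj (W i ⊓ W j) ⟨hgen i, hgen j⟩
    have e1 := TopCat.Presheaf.germ_res_apply Y.presheaf (homOfLE (inf_le_left : W i ⊓ W j ≤ W i)) (genericPoint Y)
      ⟨hgen i, hgen j⟩ (t i)
    have e2 := TopCat.Presheaf.germ_res_apply Y.presheaf (homOfLE (inf_le_right : W i ⊓ W j ≤ W j)) (genericPoint Y)
      ⟨hgen i, hgen j⟩ (t j)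
    exact (e1.trans ((ht' i).trans (ht' j).symm)).trans e2.symm)
  refine ⟨s, fun y => ?_⟩
  change Y.presheaf.stalkSpecializes _ _ = J
  rw [TopCat.Presheaf.germ_stalkSpecializes_apply]
  rw [← ht' y, ← hs y]
  exact (TopCat.Presheaf.germ_res_apply Y.presheaf (homOfLE (le_top : W y ≤ ⊤)) (genericPoint Y) (hgen y) s).symm

end global

section fibre

variable {B : Type u} [CommRing B] {k : Type u} [Field k] {Y X₀ : Scheme.{u}} [Y.Over (Spec (CommRingCat.of B))]
  [X₀.Over (Spec (CommRingCat.of k))] {φ : B →+* k} (hφ : Function.Surjective φ) {π : B}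
  (hπ : RingHom.ker φ = Ideal.span {π}) {j : X₀ ⟶ Y}
  (H : IsPullback j (X₀ ↘ Spec (CommRingCat.of k)) (Y ↘ Spec (CommRingCat.of B)) (Spec.map (CommRingCat.ofHom φ)))

include hφ in
theorem isClosedImmersion_spec : IsClosedImmersion (Spec.map (CommRingCat.ofHom φ)) :=
  IsClosedImmersion.spec_of_surjective _ hφ

include hφ hπ H in
/-- The ideal of the fibre. -/
theorem ideal_ker (W : Y.affineOpens) : j.ker.ideal W = Ideal.span {ores (le_top : W.1 ≤ ⊤) (gl B Y π)} := by
  have h0 := isClosedImmersion_spec hφ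
  have h1 := Picfga.SecGraph.ker_eq_comap_of_isPullback H.flip
  have h2 : (Spec.map (CommRingCat.ofHom φ)).ker.ideal ⟨⊤, isAffineOpen_top _⟩ =
      Ideal.span {(Scheme.ΓSpecIso (CommRingCat.of B)).inv.hom π} := by
    rw [Scheme.Hom.ker_apply]
    have h3 : RingHom.ker ((Spec.map (CommRingCat.ofHom φ)).app ⊤).hom =
        (RingHom.ker φ).comap (Scheme.ΓSpecIso (CommRingCat.of B)).hom.hom := by
      ext b
      rw [RingHom.mem_ker, Ideal.mem_comap, RingHom.mem_ker]
      have h4 : (Spec.map (CommRingCat.ofHom φ)).app ⊤ ≫ (Scheme.ΓSpecIso (CommRingCat.of k)).hom =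
          (Scheme.ΓSpecIso (CommRingCat.of B)).hom ≫ CommRingCat.ofHom φ := Scheme.ΓSpecIso_naturality _
      have h5 := congrArg (fun ψ => ψ.hom b) h4
      change (Scheme.ΓSpecIso (CommRingCat.of k)).hom.hom (((Spec.map (CommRingCat.ofHom φ)).app ⊤).hom b) =
        φ ((Scheme.ΓSpecIso (CommRingCat.of B)).hom.hom b) at h5
      rw [← h5]
      constructor
      · intro h6
        rw [h6]
        exact map_zero _
      · intro h6
        have h7 : Function.Injective (Scheme.ΓSpecIso (CommRingCat.of k)).hom.hom :=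
          (ConcreteCategory.bijective_of_isIso (Scheme.ΓSpecIso (CommRingCat.of k)).hom).1
        exact h7 (h6.trans (map_zero _).symm)
    rw [h3, hπ]
    have e := (Scheme.ΓSpecIso (CommRingCat.of B)).commRingCatIsoToRingEquiv
    ext b
    rw [Ideal.mem_comap, Ideal.mem_span_singleton', Ideal.mem_span_singleton']
    constructor
    · rintro ⟨c, hc⟩
      refine ⟨(Scheme.ΓSpecIso (CommRingCat.of B)).inv.hom c, ?_⟩
      rw [← map_mul, hc]
      exact congrArg (fun ψ => ψ.hom b) (Scheme.ΓSpecIso (CommRingCat.of B)).hom_inv_id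
    · rintro ⟨c, rfl⟩
      refine ⟨(Scheme.ΓSpecIso (CommRingCat.of B)).hom.hom c, ?_⟩
      rw [map_mul]
      congr 1
      exact (congrArg (fun ψ => ψ.hom π) (Scheme.ΓSpecIso (CommRingCat.of B)).inv_hom_id).symm
  rw [h1, ideal_comap _ _ ⟨⊤, isAffineOpen_top _⟩ W le_top, h2, Ideal.map_span, Set.image_singleton]
  rfl

variable [IsIntegral Y] [IsIntegral X₀]

include hφ hπ H in
omit [IsIntegral X₀] in
/-- Global functions vanishing on the fibre are divisible by its equation. -/
theorem exists_eq_mul (hne : gl B Y π ≠ 0) (a : Γ(Y, ⊤)) (ha : (j.appTop).hom a = 0) :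
    ∃ c : Γ(Y, ⊤), a = gl B Y π * c := by
  have h0 := isClosedImmersion_spec hφ
  have hj : IsClosedImmersion j := MorphismProperty.of_isPullback H.flip h0
  have H1 : ∀ x : Y, ∃ (W : Y.Opens) (c : Γ(Y, W)), x ∈ W ∧
      ores (le_top : W ≤ ⊤) a = ores (le_top : W ≤ ⊤) (gl B Y π) * c := by
    intro x
    obtain ⟨W, hW, hx, -⟩ := exists_isAffineOpen_mem_and_subset (U := (⊤ : Y.Opens)) (x := x) trivial
    have h1 : ores (le_top : W ≤ ⊤) a ∈ j.ker.ideal ⟨W, hW⟩ := by
      rw [Scheme.Hom.ker_apply, RingHom.mem_ker]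
      change (Y.presheaf.map (homOfLE _).op ≫ j.app W).hom a = 0
      have h2 : Y.presheaf.map (homOfLE (le_top : W ≤ ⊤)).op ≫ j.app W =
          j.appTop ≫ X₀.presheaf.map (homOfLE le_top).op :=
        Scheme.Hom.naturality j (homOfLE (le_top : W ≤ ⊤)).op
      rw [h2]
      change (X₀.presheaf.map (homOfLE le_top).op).hom ((j.appTop).hom a) = 0
      rw [ha, map_zero]
    rw [ideal_ker hφ hπ H, Ideal.mem_span_singleton] at h1
    obtain ⟨c, hc⟩ := h1
    exact ⟨W, c, hx, hc⟩
  choose W c hx hc using H1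
  have hinj : ∀ (V V' : Y.Opens) (hV : V ≤ V') (_ : Nonempty V), Function.Injective (ores hV) := by
    intro V V' hV hne
    exact map_injective_of_isIntegral Y (homOfLE hV)
  have hdom : ∀ (V : Y.Opens) (b b' : Γ(Y, V)), Nonempty V →
      ores (le_top : V ≤ ⊤) (gl B Y π) * b = ores (le_top : V ≤ ⊤) (gl B Y π) * b' → b = b' := by
    intro V b b' hV hbb
    refine mul_left_cancel₀ ?_ hbb
    intro h0
    apply hne
    apply hinj V ⊤ le_top hV
    rw [h0, map_zero]
  have hnon : ∀ V : Y.Opens, V = ⊥ ∨ Nonempty V := by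
    intro V
    by_cases h : Nonempty V
    · exact Or.inr h
    · left
      rw [eq_bot_iff]
      intro x hx
      exact (h ⟨x, hx⟩).elim
  obtain ⟨d, hd⟩ := ores_glue W (fun _ => le_top) (fun x _ => Opens.mem_iSup.2 ⟨x, hx x⟩) c (by
    intro i i'
    have hne' : Nonempty (W i ⊓ W i' : Y.Opens) := by
      have h1 : ∀ x, genericPoint Y ∈ W x := fun x =>
        ((genericPoint_spec Y).mem_open_set_iff (W x).isOpen).2 ⟨x, trivial, hx x⟩
      exact ⟨⟨_, h1 i, h1 i'⟩⟩
    apply hdom _ _ _ hne'
    have e1 := congrArg (ores (inf_le_left : W i ⊓ W i' ≤ W i)) (hc i)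
    have e2 := congrArg (ores (inf_le_right : W i ⊓ W i' ≤ W i')) (hc i')
    rw [map_mul, ores_ores, ores_ores] at e1 e2
    rw [← e1, ← e2])
  refine ⟨d, ?_⟩
  obtain ⟨x⟩ : Nonempty Y := inferInstance
  apply hinj (W x) ⊤ le_top ⟨⟨x, hx x⟩⟩
  rw [map_mul, hd x, hc x]

include hφ hπ H in
/-- **The equation of an integral fibre is prime at the points of the fibre.** -/
theorem prime_germ (hne : gl B Y π ≠ 0) (x : X₀) : Prime (Y.presheaf.germ ⊤ (j x) trivial (gl B Y π)) := by
  have h0 := isClosedImmersion_spec hφ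
  have hj : IsClosedImmersion j := MorphismProperty.of_isPullback H.flip h0
  have hz : j.stalkMap x (Y.presheaf.germ ⊤ (j x) trivial (gl B Y π)) = 0 := by
    rw [Scheme.Hom.germ_stalkMap_apply]
    have h1 : (j.app ⊤).hom (gl B Y π) = 0 := by
      have h2 := gl_comm φ j H.w π
      have h3 : φ π = 0 := by
        rw [← RingHom.mem_ker, hπ]
        exact Ideal.mem_span_singleton_self π
      rw [h3, map_zero] at h2
      exact h2
    rw [h1]
    exact map_zero _
  have hker : ∀ a : Y.presheaf.stalk (j x), j.stalkMap x a = 0 →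
      Y.presheaf.germ ⊤ (j x) trivial (gl B Y π) ∣ a := by
    intro a ha
    obtain ⟨W₀, hxW₀, t₀, rfl⟩ := Y.presheaf.exists_germ_eq a
    obtain ⟨W, hW, hxW, hWW⟩ := exists_isAffineOpen_mem_and_subset (U := W₀) (x := j x) hxW₀
    have e0 : Y.presheaf.germ W (j x) hxW (ores hWW t₀) = Y.presheaf.germ W₀ (j x) hxW₀ t₀ :=
      TopCat.Presheaf.germ_res_apply Y.presheaf (homOfLE hWW) (j x) hxW t₀
    rw [← e0] at ha ⊢
    rw [Scheme.Hom.germ_stalkMap_apply] at ha
    have h1 : (j.app W).hom (ores hWW t₀) = 0 := by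
      apply germ_injective_of_isIntegral X₀ x (U := j ⁻¹ᵁ W) hxW
      exact ha.trans (map_zero _).symm
    have h2 : ores hWW t₀ ∈ j.ker.ideal ⟨W, hW⟩ := by
      rw [Scheme.Hom.ker_apply]
      exact h1
    rw [ideal_ker hφ hπ H, Ideal.mem_span_singleton] at h2
    obtain ⟨c, hc⟩ := h2
    rw [hc, map_mul]
    refine Dvd.intro (Y.presheaf.germ W (j x) hxW c) ?_
    congr 1
    exact (TopCat.Presheaf.germ_res_apply Y.presheaf (homOfLE (le_top : W ≤ ⊤)) (j x) hxW (gl B Y π)).symm
  refine ⟨?_, ?_, ?_⟩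
  · intro h0
    apply hne
    apply germ_injective_of_isIntegral Y (j x) (U := ⊤) trivial
    exact h0.trans (map_zero _).symm
  · intro hu
    have h1 := hu.map (j.stalkMap x).hom
    change IsUnit (j.stalkMap x (Y.presheaf.germ ⊤ (j x) trivial (gl B Y π))) at h1
    rw [hz] at h1
    exact not_isUnit_zero h1
  · rintro a b ⟨c, hc⟩
    have h1 : j.stalkMap x a * j.stalkMap x b = 0 := by
      have h2 := congrArg (j.stalkMap x).hom hc
      rw [map_mul, map_mul] at h2
      change j.stalkMap x a * j.stalkMap x b = j.stalkMap x (Y.presheaf.germ ⊤ (j x) trivial (gl B Y π)) *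
        j.stalkMap x c at h2
      rw [h2, hz, zero_mul]
    rcases mul_eq_zero.1 h1 with h2 | h2
    · exact Or.inl (hker a h2)
    · exact Or.inr (hker b h2)

end fibre

section surj

variable {B : Type u} [CommRing B] [IsNoetherianRing B] {Y : Scheme.{u}} [Y.Over (Spec (CommRingCat.of B))]
  [IsProper (Y ↘ Spec (CommRingCat.of B))]

/-- **Global functions come from the base.** -/
theorem gl_surjective (h : ∀ 𝔪 : Ideal B, 𝔪.IsMaximal → ∃ π ∈ 𝔪, ∀ a : Γ(Y, ⊤), ∃ (b : B) (c : Γ(Y, ⊤)),
    a = gl B Y b + gl B Y π * c) : Function.Surjective (gl B Y) := by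
  have hLN : IsLocallyNoetherian Y := LocallyOfFiniteType.isLocallyNoetherian (Y ↘ Spec (CommRingCat.of B))
  have hfin : Module.Finite B (Coh.HH Y (Coh.structureModule Y) 0) :=
    S0002.result B Y _ (CurvesC.UnitCoh.isCoh_unit Y) 0
  let e : Coh.HH Y (Coh.structureModule Y) 0 ≃+ Γ(Y, ⊤) := equivAdd (Coh.structureModule Y)
  have he : ∀ (b : B) (x : Coh.HH Y (Coh.structureModule Y) 0), e (b • x) = gl B Y b * e x := fun b x =>
    equivAdd_smul_over (Coh.structureModule Y) b x
  let P : Submodule B (Coh.HH Y (Coh.structureModule Y) 0) :=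
    { carrier := {x | ∃ b : B, e x = gl B Y b}
      add_mem' := by
        rintro x y ⟨b, hb⟩ ⟨c, hc⟩
        exact ⟨b + c, by rw [map_add, map_add, hb, hc]⟩
      zero_mem' := ⟨0, by rw [map_zero, map_zero]⟩
      smul_mem' := by
        rintro c x ⟨b, hb⟩
        exact ⟨c * b, by rw [he, hb, map_mul]⟩ }
  have hP : P = ⊤ := by
    by_contra hP
    let I : Ideal B := P.colon ⊤
    have hI : I ≠ ⊤ := by
      intro hI
      apply hP
      rw [eq_top_iff]
      intro x _
      have h1 : (1 : B) ∈ I := by rw [hI]; trivial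
      have h2 := Submodule.mem_colon.1 h1 x trivial
      rwa [one_smul] at h2
    obtain ⟨𝔪, hm, hle⟩ := Ideal.exists_le_maximal I hI
    obtain ⟨π, hπ, hall⟩ := h 𝔪 hm
    obtain ⟨r, hr, hr2⟩ := Submodule.exists_sub_one_mem_and_smul_le_of_fg_of_le_sup (I := 𝔪) (N := P) (N' := ⊤)
      (P := ⊤) Module.Finite.fg_top le_rfl (by
        intro x _
        obtain ⟨b, c, hbc⟩ := hall (e x)
        have h1 : x = e.symm (gl B Y b) + π • e.symm c := by
          apply e.injective
          rw [map_add, he, AddEquiv.apply_symm_apply, AddEquiv.apply_symm_apply, hbc]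
        rw [h1]
        exact Submodule.add_mem_sup ⟨b, AddEquiv.apply_symm_apply _ _⟩ (Submodule.smul_mem_smul hπ trivial))
    have h3 : r ∈ I := Submodule.mem_colon.2 fun x _ => hr2 (Submodule.smul_mem_pointwise_smul x r ⊤ trivial)
    have h4 : (1 : B) ∈ 𝔪 := by
      have := 𝔪.sub_mem (hle h3) hr
      rwa [sub_sub_cancel] at this
    exact hm.ne_top ((Ideal.eq_top_iff_one _).2 h4)
  intro a
  have h5 : e.symm a ∈ P := by rw [hP]; trivial
  obtain ⟨b, hb⟩ := h5
  exact ⟨b, by rw [← hb, AddEquiv.apply_symm_apply]⟩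

end surj

end K664.GlobFun
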