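import Mathlib.RingTheory.Localization.Away.Basic
import Mathlib.Algebra.Polynomial.RingDivision
import Mathlib.FieldTheory.IsAlgClosed.Basic
import Mathlib.RingTheory.LocalRing.RingHom.Basic

/-!
# Laurent polynomials over an algebraically closed field

`B` a localization of `k[X]` away from `X`: evaluations `evB α`, maximal ideals; `dvd_of_pow_eq`: multiplicities of
powers at a prime element; `dvd_rootMultiplicity`.
-/

set_option autoImplicit false

open Polynomial

namespace K664.GmAlg

section pow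

theorem dvd_of_pow_eq {R : Type*} [CommRing R] [IsDomain R] {π : R} (hπ : Prime π) (n : ℕ) : ∀ (m : ℕ) (a u : R),
    IsUnit u → π ^ m * u = a ^ n → n ∣ m := by
  intro m
  induction m using Nat.strong_induction_on with
  | _ m ih =>
    intro a u hu h
    rcases Nat.eq_zero_or_pos m with rfl | hm
    · exact dvd_zero n
    rcases Nat.eq_zero_or_pos n with rfl | hn
    · exfalso
      rw [pow_zero] at h
      have h1 : IsUnit (π ^ m) := IsUnit.of_mul_eq_one _ h
      exact hπ.not_isUnit (isUnit_of_dvd_unit (dvd_pow_self π hm.ne') h1)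
    have h1 : π ∣ a := by
      refine hπ.dvd_of_dvd_pow (n := n) ?_
      rw [← h]
      exact Dvd.dvd.mul_right (dvd_pow_self π hm.ne') u
    obtain ⟨a', rfl⟩ := h1
    rw [mul_pow] at h
    rcases Nat.lt_or_ge m n with h2 | h2
    · exfalso
      have h3 : π ^ m * u = π ^ m * (π ^ (n - m) * a' ^ n) := by
        rw [h, ← mul_assoc, ← pow_add, Nat.add_sub_cancel' h2.le]
      have h4 := mul_left_cancel₀ (pow_ne_zero m hπ.ne_zero) h3
      have h5 : IsUnit (π ^ (n - m) * a' ^ n) := by rw [← h4]; exact hu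
      exact hπ.not_isUnit (isUnit_of_dvd_unit ((dvd_pow_self π (by omega)).mul_right _) h5)
    · have h3 : π ^ n * (π ^ (m - n) * u) = π ^ n * a' ^ n := by
        rw [← h, ← mul_assoc, ← pow_add, Nat.add_sub_cancel' h2]
      have h4 := mul_left_cancel₀ (pow_ne_zero n hπ.ne_zero) h3
      have h5 := ih (m - n) (by omega) a' u hu h4
      rw [show m = (m - n) + n by omega]
      exact dvd_add h5 dvd_rfl

variable {k : Type*} [Field k]

/-- Multiplicity of a zero of a polynomial which becomes a power times a unit in a local ring where `X - α` is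
prime. -/
theorem dvd_rootMultiplicity {R : Type*} [CommRing R] [IsDomain R] [IsLocalRing R] (θ : k[X] →+* R) (ev : R →+* k)
    (α : k) (hev : ∀ P, ev (θ P) = P.eval α) (hev' : Function.Surjective ev) (hπ : Prime (θ (X - C α))) (n : ℕ)
    (P : k[X]) (u a : R) (hu : IsUnit u) (h : θ P * u = a ^ n) : n ∣ P.rootMultiplicity α := by
  by_cases hP : P = 0
  · subst hP
    rw [rootMultiplicity_zero]
    exact dvd_zero n
  obtain ⟨Q, hQ, hQ2⟩ := exists_eq_pow_rootMultiplicity_mul_and_not_dvd P hP α
  have h1 : IsUnit (θ Q) := by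
    have h2 : ev (θ Q) ≠ 0 := by
      rw [hev]
      intro h0
      exact hQ2 (dvd_iff_isRoot.2 h0)
    by_contra hcon
    have h3 : RingHom.ker ev = IsLocalRing.maximalIdeal R :=
      IsLocalRing.eq_maximalIdeal (RingHom.ker_isMaximal_of_surjective _ hev')
    apply h2
    rw [← RingHom.mem_ker, h3]
    exact (IsLocalRing.mem_maximalIdeal _).2 hcon
  refine dvd_of_pow_eq hπ n _ a (θ Q * u) (h1.mul hu) ?_
  rw [← h]
  conv_rhs => rw [hQ, map_mul, map_pow]
  ring

end pow

section gm

variable {k : Type*} [Field k] (B : Type*) [CommRing B] [Algebra k[X] B] [IsLocalization.Away (X : k[X]) B]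

/-- Evaluation at a nonzero element. -/
noncomputable def evB (α : k) (hα : α ≠ 0) : B →+* k :=
  IsLocalization.Away.lift (X : k[X]) (g := evalRingHom α) (by
    rw [coe_evalRingHom, eval_X]
    exact isUnit_iff_ne_zero.2 hα)

theorem evB_algebraMap (α : k) (hα : α ≠ 0) (P : k[X]) : evB B α hα (algebraMap k[X] B P) = P.eval α := by
  rw [evB, IsLocalization.Away.lift_eq]
  rfl

theorem evB_surjective (α : k) (hα : α ≠ 0) : Function.Surjective (evB B α hα) := fun c =>
  ⟨algebraMap k[X] B (C c), by rw [evB_algebraMap, eval_C]⟩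

theorem isUnit_X : IsUnit (algebraMap k[X] B X) := IsLocalization.Away.algebraMap_isUnit X

theorem exists_mul_pow (b : B) : ∃ (N : ℕ) (P : k[X]), b * algebraMap k[X] B X ^ N = algebraMap k[X] B P :=
  IsLocalization.Away.surj (X : k[X]) b

theorem ker_evB (α : k) (hα : α ≠ 0) : RingHom.ker (evB B α hα) = Ideal.span {algebraMap k[X] B (X - C α)} := by
  apply le_antisymm
  · intro b hb
    obtain ⟨N, P, hP⟩ := exists_mul_pow (k := k) B b
    have h1 : P.eval α = 0 := by
      rw [← evB_algebraMap B α hα, ← hP, map_mul, RingHom.mem_ker.1 hb, zero_mul]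
    obtain ⟨Q, rfl⟩ := dvd_iff_isRoot.2 h1
    have h2 : algebraMap k[X] B X ^ N * b ∈ Ideal.span {algebraMap k[X] B (X - C α)} := by
      rw [mul_comm, hP, map_mul]
      exact Ideal.mul_mem_right _ _ (Ideal.mem_span_singleton_self _)
    exact (Ideal.unit_mul_mem_iff_mem _ ((isUnit_X B).pow N)).1 h2
  · rw [Ideal.span_singleton_le_iff_mem, RingHom.mem_ker, evB_algebraMap]
    simp

theorem injective_algebraMap : Function.Injective (algebraMap k[X] B) :=
  IsLocalization.injective B (Submonoid.powers_le.2 (mem_nonZeroDivisors_of_ne_zero X_ne_zero))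

theorem exists_of_isMaximal [IsAlgClosed k] (𝔪 : Ideal B) (hm : 𝔪.IsMaximal) :
    ∃ (α : k) (hα : α ≠ 0), 𝔪 = RingHom.ker (evB B α hα) := by
  -- a nonzero polynomial in the ideal
  have h1 : ∃ P : k[X], P ≠ 0 ∧ algebraMap k[X] B P ∈ 𝔪 := by
    by_contra hcon
    push Not at hcon
    have h2 : 𝔪 = ⊥ := by
      rw [eq_bot_iff]
      intro b hb
      obtain ⟨N, P, hP⟩ := exists_mul_pow (k := k) B b
      have h3 : P = 0 := by
        by_contra h4
        exact hcon P h4 (by rw [← hP]; exact 𝔪.mul_mem_right _ hb)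
      rw [h3, map_zero] at hP
      exact (((isUnit_X (k := k) B).pow N).mul_left_eq_zero).1 hP
    have h3 : IsField B := by
      have hbot : (⊥ : Ideal B).IsMaximal := h2 ▸ hm
      have : Nontrivial B := (evB B (1 : k) one_ne_zero).domain_nontrivial
      exact Ring.isField_iff_maximal_bot.2 hbot
    have h4 : algebraMap k[X] B (X - C 1) ≠ 0 := by
      rw [Ne, map_eq_zero_iff _ (injective_algebraMap B)]
      exact X_sub_C_ne_zero 1
    obtain ⟨c, hc⟩ := h3.mul_inv_cancel h4
    have h5 := congrArg (evB B (1 : k) one_ne_zero) hc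
    rw [map_mul, evB_algebraMap, map_one] at h5
    simp at h5
  obtain ⟨P, hP0, hP⟩ := h1
  -- a linear factor
  have h2 : ∃ α : k, algebraMap k[X] B (X - C α) ∈ 𝔪 := by
    have h3 := IsAlgClosed.splits P
    have h4 : C P.leadingCoeff * (P.roots.map fun a => X - C a).prod = P :=
      C_leadingCoeff_mul_prod_multiset_X_sub_C (splits_iff_card_roots.1 h3)
    rw [← h4, map_mul] at hP
    have hpr : 𝔪.IsPrime := hm.isPrime
    have h5 : algebraMap k[X] B (P.roots.map fun a => X - C a).prod ∈ 𝔪 := by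
      refine (Ideal.unit_mul_mem_iff_mem 𝔪 (y := algebraMap k[X] B (C P.leadingCoeff)) ?_).1 hP
      exact ((isUnit_iff_ne_zero.2 (leadingCoeff_ne_zero.2 hP0)).map C).map _
    rw [map_multiset_prod, Ideal.IsPrime.multiset_prod_mem_iff_exists_mem hpr] at h5
    obtain ⟨c, hc, hc2⟩ := h5
    rw [Multiset.map_map, Multiset.mem_map] at hc
    obtain ⟨α, -, rfl⟩ := hc
    exact ⟨α, hc2⟩
  obtain ⟨α, hα⟩ := h2
  have hα0 : α ≠ 0 := by
    rintro rfl
    rw [map_zero, sub_zero] at hα
    exact hm.ne_top (Ideal.eq_top_of_isUnit_mem _ hα (isUnit_X B))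
  refine ⟨α, hα0, ?_⟩
  have h3 : (RingHom.ker (evB B α hα0)).IsMaximal := RingHom.ker_isMaximal_of_surjective _ (evB_surjective B α hα0)
  refine (h3.eq_of_le hm.ne_top ?_).symm
  rw [ker_evB, Ideal.span_singleton_le_iff_mem]
  exact hα

/-- A homomorphism to `k` which is the identity on constants is an evaluation. -/
theorem exists_eq_evB (φ : B →+* k) (h : ∀ c : k, φ (algebraMap k[X] B (C c)) = c) :
    ∃ (α : k) (hα : α ≠ 0), φ = evB B α hα := by
  have hα : φ (algebraMap k[X] B X) ≠ 0 := ((isUnit_X B).map φ).ne_zero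
  refine ⟨φ (algebraMap k[X] B X), hα, ?_⟩
  apply IsLocalization.ringHom_ext (Submonoid.powers (X : k[X]))
  apply Polynomial.ringHom_ext
  · intro c
    rw [RingHom.comp_apply, RingHom.comp_apply, evB_algebraMap, eval_C, h]
  · rw [RingHom.comp_apply, RingHom.comp_apply, evB_algebraMap, eval_X]

end gm

end K664.GmAlg
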