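import Mathlib.NumberTheory.FLT.Polynomial
import Mathlib.FieldTheory.IsAlgClosed.Basic

/-!
# Functions on the punctured line ramified as a modular invariant are constant

`main`: `4 P + Q = X ^ N`, the multiplicities of the nonzero roots of `P` (of `Q`) being divisible by three (by two);
then `P = c X ^ N`.
-/

set_option autoImplicit false
set_option linter.unusedSectionVars false

namespace K664.JConst

open Polynomial

variable {k : Type*} [Field k] [IsAlgClosed k]

/-- Polynomials whose nonzero roots have multiplicities divisible by `d`. -/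
theorem exists_eq {P : k[X]} (d : ℕ) (h : ∀ α : k, α ≠ 0 → d ∣ P.rootMultiplicity α) :
    ∃ A : k[X], P = C P.leadingCoeff * X ^ (P.rootMultiplicity 0) * A ^ d := by
  classical
  refine ⟨∏ α ∈ P.roots.toFinset.erase 0, (X - C α) ^ (P.rootMultiplicity α / d), ?_⟩
  have h1 : C P.leadingCoeff * (P.roots.map fun a => X - C a).prod = P :=
    C_leadingCoeff_mul_prod_multiset_X_sub_C (splits_iff_card_roots.1 (IsAlgClosed.splits P))
  rw [prod_multiset_root_eq_finset_root] at h1
  have h2 : ∏ α ∈ P.roots.toFinset, (X - C α) ^ P.rootMultiplicity α = X ^ (P.rootMultiplicity 0) *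
      (∏ α ∈ P.roots.toFinset.erase 0, (X - C α) ^ (P.rootMultiplicity α / d)) ^ d := by
    have h3 : (∏ α ∈ P.roots.toFinset.erase 0, (X - C α) ^ (P.rootMultiplicity α / d)) ^ d =
        ∏ α ∈ P.roots.toFinset.erase 0, (X - C α) ^ P.rootMultiplicity α := by
      rw [← Finset.prod_pow]
      refine Finset.prod_congr rfl fun α hα => ?_
      rw [← pow_mul, Nat.div_mul_cancel (h α (Finset.ne_of_mem_erase hα))]
    rw [h3]
    by_cases h0 : (0 : k) ∈ P.roots.toFinset
    · rw [← Finset.mul_prod_erase _ _ h0, C_0, sub_zero]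
    · rw [Finset.erase_eq_of_notMem h0]
      have h4 : P.rootMultiplicity 0 = 0 := by
        rw [← count_roots]
        exact Multiset.count_eq_zero.2 fun h5 => h0 (Multiset.mem_toFinset.2 h5)
      rw [h4, pow_zero, one_mul]
  rw [mul_assoc, ← h2, h1]

theorem natDegree_expand_pow (P : k[X]) (u : k) (e d : ℕ) (A : k[X]) (hP : P = C u * X ^ e * A ^ d) (hP0 : P ≠ 0)
    (hd : d ∣ 6) (hd0 : d ≠ 0) :
    ∃ B : k[X], expand k 6 P = C u * B ^ d ∧ B ≠ 0 ∧ (B.natDegree = 0 → P.natDegree = 0) := by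
  obtain ⟨m, hm⟩ := hd
  have h1 : expand k 6 P = C u * (X ^ (m * e) * expand k 6 A) ^ d := by
    rw [hP, map_mul, map_mul, map_pow, map_pow, expand_C, expand_X, mul_pow, ← pow_mul, ← pow_mul, mul_assoc,
      show 6 * e = m * e * d by rw [hm]; ring]
  have h2 : expand k 6 P ≠ 0 := by
    rw [Ne, expand_eq_zero (by norm_num)]
    exact hP0
  refine ⟨_, h1, ?_, fun h3 => ?_⟩
  · intro h3
    rw [h3, zero_pow hd0, mul_zero] at h1
    exact h2 h1
  · have h4 := congrArg natDegree h1
    rw [natDegree_expand] at h4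
    have h5 : (C u * (X ^ (m * e) * expand k 6 A) ^ d).natDegree = 0 := by
      have h6 := natDegree_C_mul_le u ((X ^ (m * e) * expand k 6 A) ^ d)
      rw [natDegree_pow, h3, mul_zero] at h6
      omega
    rw [h5] at h4
    omega

/-- **Constancy.** -/
theorem main (h2 : (2 : k) ≠ 0) (h3 : (3 : k) ≠ 0) (N : ℕ) : ∀ (P Q : k[X]), 4 * P + Q = X ^ N →
    (∀ α : k, α ≠ 0 → 3 ∣ P.rootMultiplicity α) → (∀ α : k, α ≠ 0 → 2 ∣ Q.rootMultiplicity α) →
    ∃ c : k, P = C c * X ^ N := by
  have h4 : (4 : k) ≠ 0 := by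
    have : (4 : k) = 2 ^ 2 := by norm_num
    rw [this]; exact pow_ne_zero _ h2
  induction N with
  | zero =>
    intro P Q hPQ hP hQ
    have key := aux h2 h3 h4 0 P Q hPQ hP hQ (fun h5 h6 => by
      rw [pow_zero] at hPQ
      have : X ∣ (1 : k[X]) := by
        rw [← hPQ]
        exact dvd_add (dvd_mul_of_dvd_right h5 _) h6
      exact (irreducible_X (R := k)).not_isUnit (isUnit_of_dvd_one this))
    exact key
  | succ N ih =>
    intro P Q hPQ hP hQ
    by_cases hX : X ∣ P ∧ X ∣ Q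
    · obtain ⟨⟨P', rfl⟩, ⟨Q', rfl⟩⟩ := hX
      have h5 : 4 * P' + Q' = X ^ N := by
        apply mul_left_cancel₀ (X_ne_zero (R := k))
        rw [← pow_succ']
        linear_combination hPQ
      have h6 : ∀ (R : k[X]) (α : k), α ≠ 0 → R ≠ 0 → (X * R).rootMultiplicity α = R.rootMultiplicity α := by
        intro R α hα hR
        rw [rootMultiplicity_mul (mul_ne_zero X_ne_zero hR), rootMultiplicity_eq_zero (by simpa using hα), zero_add]
      obtain ⟨c, hc⟩ := ih P' Q' h5 (fun α hα => by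
        by_cases hR : P' = 0
        · rw [hR, rootMultiplicity_zero]; exact dvd_zero _
        · rw [← h6 P' α hα hR]; exact hP α hα) (fun α hα => by
        by_cases hR : Q' = 0
        · rw [hR, rootMultiplicity_zero]; exact dvd_zero _
        · rw [← h6 Q' α hα hR]; exact hQ α hα)
      exact ⟨c, by rw [hc]; ring⟩
    · push Not at hX
      exact aux h2 h3 h4 (N + 1) P Q hPQ hP hQ hX
where
  aux (h2 : (2 : k) ≠ 0) (h3 : (3 : k) ≠ 0) (h4 : (4 : k) ≠ 0) (N : ℕ) (P Q : k[X]) (hPQ : 4 * P + Q = X ^ N)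
      (hP : ∀ α : k, α ≠ 0 → 3 ∣ P.rootMultiplicity α) (hQ : ∀ α : k, α ≠ 0 → 2 ∣ Q.rootMultiplicity α)
      (hX : X ∣ P → ¬ X ∣ Q) : ∃ c : k, P = C c * X ^ N := by
    by_cases hP0 : P = 0
    · exact ⟨0, by rw [hP0, C_0, zero_mul]⟩
    by_cases hQ0 : Q = 0
    · refine ⟨4⁻¹, ?_⟩
      rw [← hPQ, hQ0, add_zero, ← mul_assoc]
      have : (C (4 : k)⁻¹ * 4 : k[X]) = 1 := by
        rw [show (4 : k[X]) = C 4 from (map_ofNat C 4).symm, ← C_mul, inv_mul_cancel₀ h4, C_1]
      rw [this, one_mul]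
    obtain ⟨A, hA⟩ := exists_eq 3 hP
    obtain ⟨B, hB⟩ := exists_eq 2 hQ
    obtain ⟨a, ha1, ha2, ha3⟩ := natDegree_expand_pow P _ _ 3 A hA hP0 (by norm_num) (by norm_num)
    obtain ⟨b, hb1, hb2, hb3⟩ := natDegree_expand_pow Q _ _ 2 B hB hQ0 (by norm_num) (by norm_num)
    have h5 : C (4 * P.leadingCoeff) * a ^ 3 + C Q.leadingCoeff * b ^ 2 + C (-1) * (X ^ N) ^ 6 = 0 := by
      have h6 := congrArg (expand k 6) hPQ
      rw [map_add, map_mul, ha1, hb1, map_pow, expand_X, map_ofNat] at h6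
      rw [C_mul, show (C (4 : k)) = (4 : k[X]) from map_ofNat C 4, C_neg, C_1, ← pow_mul, mul_comm N 6, pow_mul]
      linear_combination h6
    have hu : P.leadingCoeff ≠ 0 := leadingCoeff_ne_zero.2 hP0
    have hv : Q.leadingCoeff ≠ 0 := leadingCoeff_ne_zero.2 hQ0
    have hcop : IsCoprime a b := by
      refine isCoprime_of_prime_dvd (fun h7 => ha2 h7.1) fun z hz hza hzb => ?_
      have h8 : z ∣ X := by
        have h9 : z ∣ (X ^ N) ^ 6 := by
          have h10 : (X ^ N : k[X]) ^ 6 = C (4 * P.leadingCoeff) * a ^ 3 + C Q.leadingCoeff * b ^ 2 := by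
            rw [C_neg, C_1] at h5
            linear_combination -h5
          rw [h10]
          exact dvd_add (dvd_mul_of_dvd_right (dvd_pow hza (by norm_num)) _)
            (dvd_mul_of_dvd_right (dvd_pow hzb (by norm_num)) _)
        exact hz.dvd_of_dvd_pow (hz.dvd_of_dvd_pow h9)
      have h11 : X ∣ z := hz.irreducible.dvd_symm irreducible_X h8
      have h12 : ∀ R : k[X], X ∣ expand k 6 R → X ∣ R := by
        intro R hR
        rw [X_dvd_iff] at hR ⊢
        have : (expand k 6 R).coeff 0 = R.coeff 0 := by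
          rw [coeff_expand (by norm_num)]
          simp
        rwa [this] at hR
      refine hX (h12 P ?_) (h12 Q ?_)
      · rw [ha1]
        exact dvd_mul_of_dvd_right (dvd_pow (h11.trans hza) (by norm_num)) _
      · rw [hb1]
        exact dvd_mul_of_dvd_right (dvd_pow (h11.trans hzb) (by norm_num)) _
    have h6 : ((6 : ℕ) : k) ≠ 0 := by
      have : ((6 : ℕ) : k) = 2 * 3 := by norm_num
      rw [this]; exact mul_ne_zero h2 h3
    obtain ⟨r1, r2, r3⟩ := Polynomial.flt_catalan (p := 3) (q := 2) (r := 6) (by norm_num) (by norm_num) (by norm_num)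
      (by norm_num) (by simpa using h3) (by simpa using h2) h6 ha2 hb2 (pow_ne_zero N X_ne_zero) hcop
      (mul_ne_zero h4 hu) hv (by simp : (-1 : k) ≠ 0) h5
    rw [natDegree_X_pow] at r3
    subst r3
    have h7 := ha3 r1
    rw [natDegree_eq_zero] at h7
    obtain ⟨c, hc⟩ := h7
    exact ⟨c, by rw [pow_zero, mul_one, hc]⟩

end K664.JConst
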