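import Groth.Agent.Surf.K664.UnivPt
import Groth.Agent.Surf.K664.GlobFun
import Groth.Agent.Surf.K664.GmAlg
import Groth.Agent.Surf.K664.JConst
import Groth.Agent.Surf.K664.CurveIsoJ

/-!
# Families of curves of genus one over the multiplicative group have constant invariant

`main`: `Y ⟶ Spec k[t, 1/t]` smooth proper of relative dimension one, `Y` integral, closed fibres of genus one,
`char k ≠ 2, 3`: the closed fibres are all isomorphic.
-/

set_option autoImplicit false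
universe u

open CategoryTheory CategoryTheory.Limits AlgebraicGeometry Opposite TopologicalSpace IsLocalRing Polynomial
open Groth.Agent Groth.Agent.Fdesc.LocGen Groth.Agent.CurvesB.HZero

namespace K664.GlobJ

open K664.PoleFilt K664.WeierFilt K664.FieldFilt K664.RelPole K664.UnivPt K664.GlobFun K664.GmAlg
open K532.CurvePic K532.CurvePts

section evl

variable {k : Type u} [Field k]

theorem evl_germ {Y : Scheme.{u}} (y : Spec (CommRingCat.of k) ⟶ Y) (s : Γ(Y, ⊤)) :
    evl y (Y.presheaf.germ ⊤ (y (closedPoint k)) trivial s) =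
      (Scheme.ΓSpecIso (CommRingCat.of k)).hom.hom ((y.appTop).hom s) := by
  have h1 := Scheme.germ_stalkClosedPointTo y ⊤ trivial
  have h2 := congrArg (fun ψ => ψ.hom s) h1
  simp at h2
  exact h2

theorem evl_gl {B : Type u} [CommRing B] {Y : Scheme.{u}} [Y.Over (Spec (CommRingCat.of B))]
    (y : Spec (CommRingCat.of k) ⟶ Y) (φ : B →+* k)
    (h : y ≫ (Y ↘ Spec (CommRingCat.of B)) = Spec.map (CommRingCat.ofHom φ)) (b : B) :
    evl y (Y.presheaf.germ ⊤ (y (closedPoint k)) trivial (gl B Y b)) = φ b := by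
  rw [evl_germ]
  have h1 : (Y ↘ Spec (CommRingCat.of B)).appTop ≫ y.appTop = (Spec.map (CommRingCat.ofHom φ)).appTop := by
    rw [← Scheme.Hom.comp_appTop, h]
  have h2 : (Spec.map (CommRingCat.ofHom φ)).appTop ≫ (Scheme.ΓSpecIso (CommRingCat.of k)).hom =
    (Scheme.ΓSpecIso (CommRingCat.of B)).hom ≫ CommRingCat.ofHom φ := Scheme.ΓSpecIso_naturality _
  have h3 : (Scheme.ΓSpecIso (CommRingCat.of B)).inv ≫ (Y ↘ Spec (CommRingCat.of B)).appTop ≫ y.appTop ≫
      (Scheme.ΓSpecIso (CommRingCat.of k)).hom = CommRingCat.ofHom φ := by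
    rw [reassoc_of% h1, h2, Iso.inv_hom_id_assoc]
  exact congrArg (fun ψ => ψ.hom b) h3

end evl

variable {k : Type u} [Field k] {B : Type u} [CommRing B] [Algebra k[X] B]
  [IsLocalization.Away (X : k[X]) B] {Y : Scheme.{u}} [Y.Over (Spec (CommRingCat.of B))]

variable (k B Y) in
/-- A family of curves of genus one over `𝔾_m`. -/
structure IsFam : Prop where
  proper : IsProper (Y ↘ Spec (CommRingCat.of B))
  smooth : SmoothOfRelativeDimension 1 (Y ↘ Spec (CommRingCat.of B))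
  integral : IsIntegral Y
  fib : ∀ (α : k) (hα : α ≠ 0), ∃ (X₀ : Scheme.{u}) (_ : X₀.Over (Spec (CommRingCat.of k))) (j : X₀ ⟶ Y),
    IsPullback j (X₀ ↘ Spec (CommRingCat.of k)) (Y ↘ Spec (CommRingCat.of B))
      (Spec.map (CommRingCat.ofHom (evB B α hα))) ∧ Curve k X₀ 1

/-- The constants of `B`. -/
noncomputable def cB : k →+* B := (algebraMap k[X] B).comp C

variable (k B Y) in
/-- The structure morphism to `k`. -/
noncomputable def toK : Y ⟶ Spec (CommRingCat.of k) :=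
  (Y ↘ Spec (CommRingCat.of B)) ≫ Spec.map (CommRingCat.ofHom (cB (k := k) (B := B)))

theorem evB_cB (α : k) (hα : α ≠ 0) (c : k) : evB B α hα (cB c) = c := by
  rw [cB, RingHom.comp_apply, evB_algebraMap, eval_C]

omit [IsLocalization.Away (X : k[X]) B] in
theorem spec_ev (φ : B →+* k) (h : ∀ c : k, φ (cB c) = c) :
    Spec.map (CommRingCat.ofHom φ) ≫ Spec.map (CommRingCat.ofHom (cB (k := k) (B := B))) = 𝟙 _ := by
  rw [← Spec.map_comp, ← Spec.map_id]
  congr 1
  ext c
  exact h c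

/-- Rational points lie over points of the base. -/
theorem exists_evB (y : Spec (CommRingCat.of k) ⟶ Y) (hy : y ≫ toK k B Y = 𝟙 _) :
    ∃ (α : k) (hα : α ≠ 0), y ≫ (Y ↘ Spec (CommRingCat.of B)) = Spec.map (CommRingCat.ofHom (evB B α hα)) := by
  let φ : B →+* k := (Spec.preimage (y ≫ (Y ↘ Spec (CommRingCat.of B)))).hom
  have hφ : Spec.map (CommRingCat.ofHom φ) = y ≫ (Y ↘ Spec (CommRingCat.of B)) := Spec.map_preimage _
  obtain ⟨α, hα, h⟩ := exists_eq_evB B φ (by
    intro c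
    have h1 : CommRingCat.ofHom (cB (k := k) (B := B)) ≫ CommRingCat.ofHom φ = 𝟙 (CommRingCat.of k) := by
      apply Spec.map_injective
      rw [Spec.map_comp, hφ, Category.assoc, Spec.map_id]
      exact hy
    exact congrArg (fun ψ => ψ.hom c) h1)
  exact ⟨α, hα, by rw [← hφ, h]⟩

section const

variable (h : IsFam k B Y)

include h

omit h in
theorem finiteType_cB : (cB (k := k) (B := B)).FiniteType := by
  have h1 : Algebra.FinitePresentation k[X] B := IsLocalization.Away.finitePresentation (X : k[X])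
  have h2 : (algebraMap k[X] B).FiniteType := by
    rw [RingHom.finiteType_algebraMap]
    infer_instance
  have h3 : (C : k →+* k[X]).FiniteType := by
    have : (algebraMap k k[X]).FiniteType := by
      rw [RingHom.finiteType_algebraMap]
      infer_instance
    exact this
  exact h2.comp h3

theorem finiteType : LocallyOfFiniteType (toK k B Y) := by
  have h1 := h.proper
  have h2 : LocallyOfFiniteType (Spec.map (CommRingCat.ofHom (cB (k := k) (B := B)))) := by
    rw [HasRingHomProperty.Spec_iff (P := @LocallyOfFiniteType)]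
    exact finiteType_cB
  unfold toK
  infer_instance

theorem gl_X_sub_C_ne_zero [Infinite k] (α : k) : gl B Y (algebraMap k[X] B (X - C α)) ≠ 0 := by
  have h5 := h.integral
  classical
  obtain ⟨α', h1⟩ : ∃ α' : k, α' ∉ ({0, α} : Finset k) := Infinite.exists_notMem_finset _
  simp only [Finset.mem_insert, Finset.mem_singleton, not_or] at h1
  obtain ⟨X₀, _, j, H, hX₀⟩ := h.fib α' h1.1
  intro h0
  have h2 := gl_comm (evB B α' h1.1) j H.w (algebraMap k[X] B (X - C α))
  rw [h0, map_zero, evB_algebraMap, eval_sub, eval_X, eval_C] at h2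
  have h3 : IsUnit (gl k X₀ (α' - α)) := (isUnit_iff_ne_zero.2 (sub_ne_zero.2 h1.2)).map _
  rw [← h2] at h3
  have h4 := hX₀.integral
  exact not_isUnit_zero h3

omit h [CommRing B] [Algebra k[X] B] [IsLocalization.Away (X : k[X]) B] [Y.Over (Spec (CommRingCat.of B))] in
/-- Global functions on a curve are constant. -/
theorem exists_const_fib {X₀ : Scheme.{u}} [X₀.Over (Spec (CommRingCat.of k))] (hX₀ : Curve k X₀ 1) (a : Γ(X₀, ⊤)) :
    ∃ c : k, a = gl k X₀ c := by
  let e : Coh.HH X₀ (Coh.structureModule X₀) 0 ≃+ Γ(X₀, ⊤) := equivAdd (Coh.structureModule X₀)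
  have he : ∀ (b : k) (x : Coh.HH X₀ (Coh.structureModule X₀) 0), e (b • x) = gl k X₀ b * e x := fun b x =>
    equivAdd_smul_over (Coh.structureModule X₀) b x
  have h4 := hX₀.integral
  have hne : e.symm 1 ≠ 0 := by
    intro h0
    have := congrArg e h0
    rw [AddEquiv.apply_symm_apply, map_zero] at this
    exact one_ne_zero this
  obtain ⟨c, hc⟩ := (finrank_eq_one_iff_of_nonzero' _ hne).1 hX₀.isCurve.h0 (e.symm a)
  refine ⟨c, ?_⟩
  have h1 := congrArg e hc
  rw [he, AddEquiv.apply_symm_apply, AddEquiv.apply_symm_apply, mul_one] at h1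
  exact h1.symm

/-- **Global functions on the family come from the base.** -/
theorem surj_gl [IsAlgClosed k] : Function.Surjective (gl B Y) := by
  have h1 := h.proper
  have h5 := h.integral
  have h2 : IsNoetherianRing B := IsLocalization.isNoetherianRing (Submonoid.powers (X : k[X])) B inferInstance
  have h3 : Infinite k := inferInstance
  refine gl_surjective fun 𝔪 hm => ?_
  obtain ⟨α, hα, rfl⟩ := exists_of_isMaximal (k := k) B 𝔪 hm
  refine ⟨algebraMap k[X] B (X - C α), ?_, ?_⟩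
  · rw [ker_evB]
    exact Ideal.mem_span_singleton_self _
  intro a
  obtain ⟨X₀, _, j, H, hX₀⟩ := h.fib α hα
  obtain ⟨c, hc⟩ := exists_const_fib hX₀ ((j.appTop).hom a)
  obtain ⟨d, hd⟩ := exists_eq_mul (evB_surjective B α hα) (ker_evB B α hα) H (gl_X_sub_C_ne_zero h α)
    (a - gl B Y (cB c)) (by
      rw [map_sub, hc, gl_comm (evB B α hα) j H.w, evB_cB, sub_self])
  exact ⟨cB c, d, by rw [← hd]; ring⟩

/-- **The invariant is constant.** -/
theorem exists_J [IsAlgClosed k] (h2 : (2 : k) ≠ 0) (h3 : (3 : k) ≠ 0) :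
    ∃ c : k, ∀ (y : Spec (CommRingCat.of k) ⟶ Y) (_ : y ≫ toK k B Y = 𝟙 (Spec (CommRingCat.of k))) (a b : LR y),
      letI := h.integral
      IsUnit (4 * a ^ 3 + 27 * b ^ 2) →
      GenWeier (Y ↘ Spec (CommRingCat.of B)) (algebraMap (LR y) Y.functionField a)
        (algebraMap (LR y) Y.functionField b) → jInv (evl y a) (evl y b) = c := by
  have i1 := h.proper
  have i2 := h.smooth
  have i3 := h.integral
  have i4 := finiteType h
  have i5 : IsNoetherianRing B :=
    IsLocalization.isNoetherianRing (Submonoid.powers (X : k[X])) B inferInstance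
  have i6 : IsLocallyNoetherian Y := LocallyOfFiniteType.isLocallyNoetherian (Y ↘ Spec (CommRingCat.of B))
  have i7 : CompactSpace Y := QuasiCompact.compactSpace_of_compactSpace (Y ↘ Spec (CommRingCat.of B))
  let _ : Y.Over (Spec (CommRingCat.of k)) := ⟨toK k B Y⟩
  have hloc : ∀ (y : Spec (CommRingCat.of k) ⟶ Y), y ≫ toK k B Y = 𝟙 (Spec (CommRingCat.of k)) →
      ∃ a b : LR y, IsUnit (4 * a ^ 3 + 27 * b ^ 2) ∧
      GenWeier (Y ↘ Spec (CommRingCat.of B)) (algebraMap (LR y) Y.functionField a)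
        (algebraMap (LR y) Y.functionField b) := by
    intro y hy
    obtain ⟨α, hα, hyα⟩ := exists_evB y hy
    obtain ⟨X₀, _, j, H, hX₀⟩ := h.fib α hα
    obtain ⟨a, b, hab, -, hg⟩ := exists_loc (Y ↘ Spec (CommRingCat.of B)) y hy h2 h3 X₀ j (by rw [hyα]; exact H) hX₀
    exact ⟨a, b, hab, hg⟩
  -- points over given points of the base
  have hpt : ∀ (α : k) (hα : α ≠ 0), ∃ (X₀ : Scheme.{u}) (_ : X₀.Over (Spec (CommRingCat.of k))) (j : X₀ ⟶ Y)
      (_ : IsPullback j (X₀ ↘ Spec (CommRingCat.of k)) (Y ↘ Spec (CommRingCat.of B))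
        (Spec.map (CommRingCat.ofHom (evB B α hα)))) (x₀ : Spec (CommRingCat.of k) ⟶ X₀), IsIntegral X₀ ∧
      (x₀ ≫ j) ≫ (Y ↘ Spec (CommRingCat.of B)) = Spec.map (CommRingCat.ofHom (evB B α hα)) ∧
      (x₀ ≫ j) ≫ toK k B Y = 𝟙 (Spec (CommRingCat.of k)) := by
    intro α hα
    obtain ⟨X₀, _, j, H, hX₀⟩ := h.fib α hα
    have j1 := hX₀.integral
    obtain ⟨x₀, -⟩ := exists_kpt hX₀.isCurve ⊤ ⟨genericPoint X₀, trivial⟩
    have e1 : (x₀.1 ≫ j) ≫ (Y ↘ Spec (CommRingCat.of B)) = Spec.map (CommRingCat.ofHom (evB B α hα)) := by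
      rw [Category.assoc, H.w, ← Category.assoc, x₀.2, Category.id_comp]
    refine ⟨X₀, _, j, H, x₀.1, j1, e1, ?_⟩
    unfold toK
    rw [← Category.assoc, e1, spec_ev _ (evB_cB α hα)]
  obtain ⟨y₀, hy₀⟩ : ∃ y₀ : Spec (CommRingCat.of k) ⟶ Y, y₀ ≫ toK k B Y = 𝟙 (Spec (CommRingCat.of k)) := by
    obtain ⟨X₁, o₁, j₁, H₁, x₁, i₁, e₁, hy₁⟩ := hpt 1 one_ne_zero
    exact ⟨x₁ ≫ j₁, hy₁⟩
  -- the invariant
  have n2 : (2 : Y.functionField) ≠ 0 := by
    have := (isUnit_iff_ne_zero.2 h2).map ((algebraMap (LR y₀) Y.functionField).comp (cst y₀))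
    rw [map_ofNat] at this
    exact this.ne_zero
  have n3 : (3 : Y.functionField) ≠ 0 := by
    have := (isUnit_iff_ne_zero.2 h3).map ((algebraMap (LR y₀) Y.functionField).comp (cst y₀))
    rw [map_ofNat] at this
    exact this.ne_zero
  obtain ⟨J, hJ⟩ : ∃ J : Y.functionField, ∀ a b : Y.functionField,
      GenWeier (Y ↘ Spec (CommRingCat.of B)) a b → jInv a b = J := by
    obtain ⟨a, b, -, hg⟩ := hloc y₀ hy₀
    refine ⟨jInv (algebraMap (LR y₀) Y.functionField a) (algebraMap (LR y₀) Y.functionField b), fun a' b' hg' => ?_⟩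
    exact @HasWeier.jInv_eq Y.functionField _
      (pullback (Y ↘ Spec (CommRingCat.of B)) (Y.fromSpecStalk (genericPoint Y) ≫ (Y ↘ Spec (CommRingCat.of B))))
      ⟨pullback.snd _ _⟩ _ _ _ _ _ n2 n3 hg hg'
  have hinj : ∀ y : Spec (CommRingCat.of k) ⟶ Y, Function.Injective (algebraMap (LR y) Y.functionField) :=
    fun y => IsFractionRing.injective (LR y) Y.functionField
  have hrel : ∀ (y : Spec (CommRingCat.of k) ⟶ Y) (a b : LR y), IsUnit (4 * a ^ 3 + 27 * b ^ 2) →
      GenWeier (Y ↘ Spec (CommRingCat.of B)) (algebraMap (LR y) Y.functionField a)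
        (algebraMap (LR y) Y.functionField b) →
      J * algebraMap (LR y) Y.functionField (4 * a ^ 3 + 27 * b ^ 2) = algebraMap (LR y) Y.functionField (a ^ 3) := by
    intro y a b hab hg
    have e1 := hJ _ _ hg
    have e2 := (hab.map (algebraMap (LR y) Y.functionField)).ne_zero
    rw [← e1, jInv]
    simp only [map_add, map_mul, map_pow, map_ofNat] at e2 ⊢
    rw [div_mul_cancel₀ _ e2]
  obtain ⟨s, hs⟩ := exists_global J (by
    intro y hy
    have e1 : pointOfClosedPoint (toK k B Y) y hy (closedPoint k) = y := pointOfClosedPoint_apply _ _ _ _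
    obtain ⟨a, b, hab, hg⟩ := hloc _ (pointOfClosedPoint_comp (toK k B Y) y hy)
    have e2 := hrel _ a b hab hg
    obtain ⟨v, hv⟩ := hab.exists_right_inv
    have e3 : ∃ a : LR (pointOfClosedPoint (toK k B Y) y hy), algebraMap _ Y.functionField a = J := by
      refine ⟨a ^ 3 * v, ?_⟩
      rw [map_mul, ← e2, mul_assoc, ← map_mul, hv, map_one, mul_one]
    have tr : ∀ z z' : Y, z = z' → (∃ a : Y.presheaf.stalk z, algebraMap _ Y.functionField a = J) →
        ∃ a : Y.presheaf.stalk z', algebraMap _ Y.functionField a = J := by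
      rintro z _ rfl h
      exact h
    exact tr _ _ e1 e3)
  have hrel' : ∀ (y : Spec (CommRingCat.of k) ⟶ Y) (a b : LR y), IsUnit (4 * a ^ 3 + 27 * b ^ 2) →
      GenWeier (Y ↘ Spec (CommRingCat.of B)) (algebraMap (LR y) Y.functionField a)
        (algebraMap (LR y) Y.functionField b) →
      (show LR y from Y.presheaf.germ ⊤ (y (closedPoint k)) trivial s) * (4 * a ^ 3 + 27 * b ^ 2) = a ^ 3 := by
    intro y a b hab hg
    apply hinj y
    rw [map_mul, ← hrel y a b hab hg]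
    congr 1
    exact hs _
  obtain ⟨b₀, rfl⟩ := surj_gl h s
  obtain ⟨N, P, hP⟩ := exists_mul_pow (k := k) B b₀
  have key : ∀ α : k, α ≠ 0 → 3 ∣ P.rootMultiplicity α ∧ 2 ∣ ((X : k[X]) ^ N - 4 * P).rootMultiplicity α := by
    intro α hα
    obtain ⟨X₀, _, j, H, x₀, j1, hyB, hy⟩ := hpt α hα
    obtain ⟨a, b, hab, hg⟩ := hloc _ hy
    have e1 := hrel' _ a b hab hg
    let θ : k[X] →+* LR (x₀ ≫ j) :=
      ((Y.presheaf.germ ⊤ ((x₀ ≫ j) (closedPoint k)) trivial).hom.comp (gl B Y)).comp (algebraMap k[X] B)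
    have hev : ∀ P, evl (x₀ ≫ j) (θ P) = P.eval α := by
      intro P
      have := evl_gl (x₀ ≫ j) (evB B α hα) hyB (algebraMap k[X] B P)
      rw [evB_algebraMap] at this
      exact this
    have hev' : Function.Surjective (evl (x₀ ≫ j)) := evl_surjective _ hy
    have hπ : Prime (θ (X - C α)) :=
      prime_germ (evB_surjective B α hα) (ker_evB B α hα) H (gl_X_sub_C_ne_zero h α) (x₀ (closedPoint k))
    have hX : IsUnit (θ X) := (isUnit_X (k := k) B).map
      ((Y.presheaf.germ ⊤ ((x₀ ≫ j) (closedPoint k)) trivial).hom.comp (gl B Y))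
    obtain ⟨v, hv⟩ := (hX.pow N).exists_right_inv
    have hvu : IsUnit v := IsUnit.of_mul_eq_one_right _ hv
    have e2 : θ P = (show LR (x₀ ≫ j) from Y.presheaf.germ ⊤ ((x₀ ≫ j) (closedPoint k)) trivial (gl B Y b₀)) *
        θ X ^ N := by
      have := congrArg ((Y.presheaf.germ ⊤ ((x₀ ≫ j) (closedPoint k)) trivial).hom.comp (gl B Y)) hP
      rw [map_mul, map_pow] at this
      exact this.symm
    have u27 : IsUnit (27 : LR (x₀ ≫ j)) := by
      have h27 : (27 : k) ≠ 0 := by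
        have : (27 : k) = 3 ^ 3 := by norm_num
        rw [this]; exact pow_ne_zero _ h3
      have := (isUnit_iff_ne_zero.2 h27).map (cst (x₀ ≫ j))
      rwa [map_ofNat] at this
    obtain ⟨w, hw⟩ := u27.exists_right_inv
    have hwu : IsUnit w := IsUnit.of_mul_eq_one_right _ hw
    generalize (show LR (x₀ ≫ j) from Y.presheaf.germ ⊤ ((x₀ ≫ j) (closedPoint k)) trivial (gl B Y b₀)) = S at e1 e2
    constructor
    · refine dvd_rootMultiplicity θ (evl (x₀ ≫ j)) α hev hev' hπ 3 P ((4 * a ^ 3 + 27 * b ^ 2) * v) a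
        (hab.mul hvu) ?_
      rw [e2]
      linear_combination (θ X ^ N * v) * e1 + a ^ 3 * hv
    · refine dvd_rootMultiplicity θ (evl (x₀ ≫ j)) α hev hev' hπ 2 _ ((4 * a ^ 3 + 27 * b ^ 2) * v * w) b
        ((hab.mul hvu).mul hwu) ?_
      rw [map_sub, map_mul, map_pow, map_ofNat, e2]
      linear_combination (-4 * θ X ^ N * v * w) * e1 + (27 * b ^ 2 * w) * hv + b ^ 2 * hw
  obtain ⟨c, hc⟩ := JConst.main h2 h3 N P (X ^ N - 4 * P) (by ring) (fun α hα => (key α hα).1)
    (fun α hα => (key α hα).2)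
  have hb₀ : b₀ = cB c := by
    have e1 : IsUnit (algebraMap k[X] B X ^ N) := (isUnit_X (k := k) B).pow N
    apply e1.mul_right_cancel
    rw [hP, hc, map_mul, map_pow]
    rfl
  subst hb₀
  refine ⟨c, fun y hy a b hab hg => ?_⟩
  have e1 := hrel' y a b hab hg
  obtain ⟨α, hα, hyα⟩ := exists_evB y hy
  have e2 := congrArg (evl y) e1
  have e3 := evl_gl y (evB B α hα) hyα (cB c)
  rw [evB_cB] at e3
  rw [map_mul] at e2
  have e4 : evl y (show LR y from Y.presheaf.germ ⊤ (y (closedPoint k)) trivial (gl B Y (cB c))) = c := e3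
  rw [e4] at e2
  have e5 := (hab.map (evl y)).ne_zero
  simp only [map_add, map_mul, map_pow, map_ofNat] at e2 e5
  rw [jInv, div_eq_iff e5, e2]

/-- **All closed fibres are isomorphic.** -/
theorem main [IsAlgClosed k] (h2 : (2 : k) ≠ 0) (h3 : (3 : k) ≠ 0) {α₁ α₂ : k} (hα₁ : α₁ ≠ 0) (hα₂ : α₂ ≠ 0)
    {X₁ X₂ : Scheme.{u}} [X₁.Over (Spec (CommRingCat.of k))] [X₂.Over (Spec (CommRingCat.of k))]
    (j₁ : X₁ ⟶ Y) (j₂ : X₂ ⟶ Y)
    (H₁ : IsPullback j₁ (X₁ ↘ Spec (CommRingCat.of k)) (Y ↘ Spec (CommRingCat.of B))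
      (Spec.map (CommRingCat.ofHom (evB B α₁ hα₁))))
    (H₂ : IsPullback j₂ (X₂ ↘ Spec (CommRingCat.of k)) (Y ↘ Spec (CommRingCat.of B))
      (Spec.map (CommRingCat.ofHom (evB B α₂ hα₂)))) (C₁ : Curve k X₁ 1) (C₂ : Curve k X₂ 1) :
    ∃ e : X₁ ≅ X₂, e.hom ≫ (X₂ ↘ Spec (CommRingCat.of k)) = (X₁ ↘ Spec (CommRingCat.of k)) := by
  have i1 := h.proper
  have i2 := h.smooth
  have i3 := h.integral
  have i4 := finiteType h
  have i5 : IsNoetherianRing B :=
    IsLocalization.isNoetherianRing (Submonoid.powers (X : k[X])) B inferInstance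
  have i6 : IsLocallyNoetherian Y := LocallyOfFiniteType.isLocallyNoetherian (Y ↘ Spec (CommRingCat.of B))
  let _ : Y.Over (Spec (CommRingCat.of k)) := ⟨toK k B Y⟩
  obtain ⟨c, hc⟩ := exists_J h h2 h3
  have key : ∀ (α : k) (hα : α ≠ 0) (X₀ : Scheme.{u}) [X₀.Over (Spec (CommRingCat.of k))] (j : X₀ ⟶ Y)
      (_ : IsPullback j (X₀ ↘ Spec (CommRingCat.of k)) (Y ↘ Spec (CommRingCat.of B))
        (Spec.map (CommRingCat.ofHom (evB B α hα)))) (_ : Curve k X₀ 1),
      ∃ (x₀ : KPt k X₀) (a b : k), HasWeier k x₀.1.ker a b ∧ 4 * a ^ 3 + 27 * b ^ 2 ≠ 0 ∧ jInv a b = c := by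
    intro α hα X₀ _ j H hX₀
    have j1 := hX₀.integral
    obtain ⟨x₀, -⟩ := exists_kpt hX₀.isCurve ⊤ ⟨genericPoint X₀, trivial⟩
    have e1 : (x₀.1 ≫ j) ≫ (Y ↘ Spec (CommRingCat.of B)) = Spec.map (CommRingCat.ofHom (evB B α hα)) := by
      rw [Category.assoc, H.w, ← Category.assoc, x₀.2, Category.id_comp]
    have e2 : (x₀.1 ≫ j) ≫ toK k B Y = 𝟙 (Spec (CommRingCat.of k)) := by
      unfold toK
      rw [← Category.assoc, e1, spec_ev _ (evB_cB α hα)]
    obtain ⟨a, b, hab, hw, hg⟩ := exists_loc (Y ↘ Spec (CommRingCat.of B)) (x₀.1 ≫ j) e2 h2 h3 X₀ j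
      (by rw [e1]; exact H) hX₀
    refine ⟨x₀, evl (x₀.1 ≫ j) a, evl (x₀.1 ≫ j) b, hw x₀.1 x₀.2 rfl, ?_, hc _ e2 a b hab hg⟩
    have e5 := (hab.map (evl (x₀.1 ≫ j))).ne_zero
    simpa only [map_add, map_mul, map_pow, map_ofNat] using e5
  obtain ⟨x₁, a₁, b₁, w₁, d₁, c₁⟩ := key α₁ hα₁ X₁ j₁ H₁ C₁
  obtain ⟨x₂, a₂, b₂, w₂, d₂, c₂⟩ := key α₂ hα₂ X₂ j₂ H₂ C₂
  exact K664.CurveIsoJ.exists_iso_of_jInv h3 C₁ C₂ x₁ x₂ w₁ w₂ d₁ d₂ (c₁.trans c₂.symm)

end const

end K664.GlobJ
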