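import Groth.Agent.Surf.K664.FibCurve
import Groth.Agent.Surf.K664.GlobJ

/-!
# Restriction of a family over a curve to an open copy of the multiplicative group

* `isFam`: the restriction is a family in the sense of `K664.GlobJ.IsFam`.
* `exists_fibSq`: its closed fibres are the closed fibres of the family.
-/

set_option autoImplicit false
set_option linter.unusedSectionVars false
universe u

open CategoryTheory CategoryTheory.Limits AlgebraicGeometry Opposite TopologicalSpace IsLocalRing
open Groth.Agent

namespace K664.GmFam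

open K664.FieldFilt K532.CurvePic K664.GlobJ K664.GmAlg K664.FibCurve

variable {k : Type u} [Field k] [IsAlgClosed k] {C X : Scheme.{u}} [C.Over (Spec (CommRingCat.of k))]
  [IsProper (C ↘ Spec (CommRingCat.of k))] [X.Over (Spec (CommRingCat.of k))]
  (f : X ⟶ C) [f.IsOver (Spec (CommRingCat.of k))] [IsProper f] [Flat f]
  {B : Type u} [CommRing B] [Algebra (Polynomial k) B] [IsLocalization.Away (Polynomial.X : Polynomial k) B]
  (u : Spec (CommRingCat.of B) ⟶ C) [IsOpenImmersion u]
  (huk : u ≫ (C ↘ Spec (CommRingCat.of k)) = Spec.map (CommRingCat.ofHom (cB (k := k) (B := B))))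

include huk

omit [IsAlgClosed k] [IsProper (C ↘ Spec (CommRingCat.of k))] [IsOpenImmersion u] in
theorem pt_comp (α : k) (hα : α ≠ 0) :
    (Spec.map (CommRingCat.ofHom (evB B α hα)) ≫ u) ≫ (C ↘ Spec (CommRingCat.of k)) = 𝟙 _ := by
  rw [Category.assoc, huk, spec_ev _ (evB_cB α hα)]

omit [IsOpenImmersion u] in
/-- Rational points of the open part. -/
theorem exists_closed (α : k) (hα : α ≠ 0) : ∃ (c : C) (hc : IsClosed ({c} : Set C)), c ∈ Set.range u ∧
    Spec.map (CommRingCat.ofHom (evB B α hα)) ≫ u = pointOfClosedPoint (C ↘ Spec (CommRingCat.of k)) c hc := by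
  let s : Spec (CommRingCat.of k) ⟶ C := Spec.map (CommRingCat.ofHom (evB B α hα)) ≫ u
  have hs : s ≫ (C ↘ Spec (CommRingCat.of k)) = 𝟙 _ := pt_comp u huk α hα
  have h1 : IsClosed ({s (closedPoint k)} : Set C) :=
    (pointEquivClosedPoint (C ↘ Spec (CommRingCat.of k)) ⟨s, hs⟩).2
  refine ⟨s (closedPoint k), h1, ⟨Spec.map (CommRingCat.ofHom (evB B α hα)) (closedPoint k), rfl⟩, ?_⟩
  refine ext_of_apply_closedPoint_eq (C ↘ Spec (CommRingCat.of k)) hs (pointOfClosedPoint_comp _ _ _) ?_
  rw [pointOfClosedPoint_apply]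

/-- Closed points of the open part come from rational points of the multiplicative group. -/
theorem exists_ev (c : C) (hc : IsClosed ({c} : Set C)) (hcu : c ∈ Set.range u) : ∃ (α : k) (hα : α ≠ 0),
    Spec.map (CommRingCat.ofHom (evB B α hα)) ≫ u = pointOfClosedPoint (C ↘ Spec (CommRingCat.of k)) c hc := by
  let s : Spec (CommRingCat.of k) ⟶ C := pointOfClosedPoint (C ↘ Spec (CommRingCat.of k)) c hc
  have h1 : Set.range s ⊆ Set.range u := by
    rintro _ ⟨a, rfl⟩
    have : s a = c := pointOfClosedPoint_apply _ _ _ _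
    rw [this]
    exact hcu
  let t : Spec (CommRingCat.of k) ⟶ Spec (CommRingCat.of B) := IsOpenImmersion.lift u s h1
  have ht : t ≫ u = s := IsOpenImmersion.lift_fac _ _ _
  let φ : B →+* k := (Spec.preimage t).hom
  have hφ : Spec.map (CommRingCat.ofHom φ) = t := Spec.map_preimage _
  obtain ⟨α, hα, h⟩ := exists_eq_evB B φ (by
    intro c
    have h1 : CommRingCat.ofHom (cB (k := k) (B := B)) ≫ CommRingCat.ofHom φ = 𝟙 (CommRingCat.of k) := by
      apply Spec.map_injective
      rw [Spec.map_comp, hφ, ← huk, reassoc_of% ht, Spec.map_id]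
      exact pointOfClosedPoint_comp _ _ _
    exact congrArg (fun ψ => ψ.hom c) h1)
  exact ⟨α, hα, by rw [← h, hφ, ht]⟩

omit [Flat f] [IsProper f] huk [IsOpenImmersion u] in
/-- Its closed fibres are the closed fibres of the family. -/
theorem exists_fibSq (c : C) (hc : IsClosed ({c} : Set C)) (α : k) (hα : α ≠ 0)
    (h : Spec.map (CommRingCat.ofHom (evB B α hα)) ≫ u = pointOfClosedPoint (C ↘ Spec (CommRingCat.of k)) c hc) :
    ∃ j : f.fiber c ⟶ pullback f u, IsPullback j (f.fiberι c ≫ (X ↘ Spec (CommRingCat.of k))) (pullback.snd f u)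
      (Spec.map (CommRingCat.ofHom (evB B α hα))) := by
  have H := isPullback_fiber (k := k) f c hc
  rw [← h] at H
  let j : f.fiber c ⟶ pullback f u := pullback.lift (f.fiberι c)
    ((f.fiberι c ≫ (X ↘ Spec (CommRingCat.of k))) ≫ Spec.map (CommRingCat.ofHom (evB B α hα))) (by
      rw [H.w]; simp only [Category.assoc])
  refine ⟨j, IsPullback.of_right (h₁₂ := pullback.fst f u) (h₂₂ := u) (v₁₃ := f) ?_ ?_
    (IsPullback.of_hasPullback f u)⟩
  · rw [pullback.lift_fst]
    exact H
  · rw [pullback.lift_snd]

section smooth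

variable (hC : Smooth (C ↘ Spec (CommRingCat.of k)))
  (hfib : ∀ c : C, ConnectedSpace ↥(f.fiber c) ∧ topologicalKrullDim ↥(f.fiber c) = 1)
  (hgood : ∀ c ∈ Set.range u, IsClosed ({c} : Set C) → Smooth (f.fiberToSpecResidueField c))

omit huk in
include k hgood in
theorem smooth_snd : Smooth (pullback.snd f u) := by
  have i1 : IsLocallyNoetherian C := LocallyOfFiniteType.isLocallyNoetherian (C ↘ Spec (CommRingCat.of k))
  have i2 : LocallyOfFinitePresentation f := inferInstance
  have i3 : JacobsonSpace C := LocallyOfFiniteType.jacobsonSpace (C ↘ Spec (CommRingCat.of k))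
  have h1 := notMem_bad f u.isOpenEmbedding.isOpen_range hgood
  have e := Groth.Agent.S2155.result f u (pullback.snd f u) (pullback.fst f u) (IsPullback.of_hasPullback f u)
    (Or.inl inferInstance)
  rw [← Scheme.Hom.smoothLocus_eq_top_iff, e]
  ext y
  simp only [SetLike.mem_coe]
  refine ⟨fun _ => trivial, fun _ => ?_⟩
  by_contra h2
  have h3 : f (pullback.fst f u y) = u (pullback.snd f u y) := by
    rw [← Scheme.Hom.comp_apply, ← Scheme.Hom.comp_apply, pullback.condition]
  exact h1 _ ⟨_, h3.symm⟩ ⟨_, h2, rfl⟩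

omit huk in
include k hgood hfib in
theorem smoothOfRelDim_snd : SmoothOfRelativeDimension 1 (pullback.snd f u) := by
  have i0 := smooth_snd (k := k) f u hgood
  have i1 : IsLocallyNoetherian C := LocallyOfFiniteType.isLocallyNoetherian (C ↘ Spec (CommRingCat.of k))
  have i2 : LocallyOfFinitePresentation f := inferInstance
  have i3 : JacobsonSpace C := LocallyOfFiniteType.jacobsonSpace (C ↘ Spec (CommRingCat.of k))
  refine K247.RelDim.smoothOfRelDim _ 1 fun s => ?_
  have h1 : Smooth (f.fiberToSpecResidueField (u s)) := by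
    have := notMem_bad f u.isOpenEmbedding.isOpen_range hgood (u s) ⟨s, rfl⟩
    rw [mem_bad_iff, not_not] at this
    exact this
  have h2 : ConnectedSpace (f.fiber (u s)) := (hfib (u s)).1
  have h3 : IsIntegral (f.fiber (u s)) :=
    @K247.SmoothGI.isIntegral_of_smooth (C.residueField (u s)) _ _ (f.fiberToSpecResidueField (u s)) h1 h2
  have h4 : SmoothOfRelativeDimension 1 (f.fiberToSpecResidueField (u s)) :=
    @Picfga.CurveRelDim.smoothOfRelativeDimension_of_topologicalKrullDim_eq (C.residueField (u s)) _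
      (f.fiber (u s)) (f.fiberToSpecResidueField (u s)) h1 h3 1 (by simpa using (hfib (u s)).2)
  have H1 : IsPullback ((pullback.snd f u).fiberι s ≫ pullback.fst f u)
      ((pullback.snd f u).fiberToSpecResidueField s) f
      ((Spec (CommRingCat.of B)).fromSpecResidueField s ≫ u) :=
    (IsPullback.of_hasPullback (pullback.snd f u) ((Spec (CommRingCat.of B)).fromSpecResidueField s)).paste_horiz
      (IsPullback.of_hasPullback f u)
  have H2 : IsPullback (f.fiberι (u s)) (f.fiberToSpecResidueField (u s)) f (C.fromSpecResidueField (u s)) :=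
    IsPullback.of_hasPullback f (C.fromSpecResidueField (u s))
  have e1 := Scheme.Hom.SpecMap_residueFieldMap_fromSpecResidueField u s
  rw [← e1] at H1
  let j : (pullback.snd f u).fiber s ⟶ f.fiber (u s) := H2.lift ((pullback.snd f u).fiberι s ≫ pullback.fst f u)
    ((pullback.snd f u).fiberToSpecResidueField s ≫ Spec.map (u.residueFieldMap s)) (by rw [H1.w, Category.assoc])
  have H3 : IsPullback j ((pullback.snd f u).fiberToSpecResidueField s) (f.fiberToSpecResidueField (u s))
      (Spec.map (u.residueFieldMap s)) := by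
    refine IsPullback.of_right (h₁₂ := f.fiberι (u s)) (h₂₂ := C.fromSpecResidueField (u s)) (v₁₃ := f) ?_ ?_ H2
    · rw [H2.lift_fst]
      exact H1
    · rw [H2.lift_snd]
  have hst' := smoothOfRelativeDimension_isStableUnderBaseChange.{u} 1
  exact MorphismProperty.of_isPullback (P := @SmoothOfRelativeDimension.{u} 1) H3 h4

omit [Flat f] huk [IsOpenImmersion u] [IsProper f] in
theorem image_fib (s : Spec (CommRingCat.of B)) :
    pullback.fst f u '' (pullback.snd f u ⁻¹' {s}) = f ⁻¹' {u s} := by
  ext x
  constructor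
  · rintro ⟨y, hy, rfl⟩
    have h3 : f (pullback.fst f u y) = u (pullback.snd f u y) := by
      rw [← Scheme.Hom.comp_apply, ← Scheme.Hom.comp_apply, pullback.condition]
    rw [Set.mem_preimage, Set.mem_singleton_iff] at hy ⊢
    rw [h3, hy]
  · intro hx
    obtain ⟨a, h1, h2⟩ := Scheme.Pullback.exists_preimage_pullback (f := f) (g := u) x s hx
    exact ⟨a, h2, h1⟩

omit [Flat f] huk in
include k hfib in
theorem connectedSpace : ConnectedSpace ↥(pullback f u) := by
  have hB : IsDomain B :=
    IsLocalization.isDomain_of_le_nonZeroDivisors (M := Submonoid.powers (Polynomial.X : Polynomial k)) B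
      (Submonoid.powers_le.2 (mem_nonZeroDivisors_of_ne_zero Polynomial.X_ne_zero))
  have h2 : ∀ c : C, _root_.IsConnected (f ⁻¹' {c}) := by
    intro c
    have := (hfib c).1
    rw [← f.range_fiberι]
    exact isConnected_range (f.fiberι c).continuous
  have h3 : ∀ s : Spec (CommRingCat.of B), _root_.IsConnected (pullback.snd f u ⁻¹' {s}) := by
    intro s
    have h4 := h2 (u s)
    rw [← image_fib f u s] at h4
    refine ⟨h4.nonempty.of_image, ?_⟩
    exact (pullback.fst f u).isOpenEmbedding.isInducing.isPreconnected_image.1 h4.isPreconnected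
  have h4 : Function.Surjective (pullback.snd f u) := fun s => by
    obtain ⟨y, hy⟩ := (h3 s).nonempty
    exact ⟨y, hy⟩
  have h5 := (pullback.snd f u).isClosedMap.isQuotientMap (pullback.snd f u).continuous h4
  have h6 := h5.isCoinducing.isConnected_preimage_of_isClosed h3 isClosed_univ isConnected_univ
  rw [Set.preimage_univ] at h6
  exact connectedSpace_iff_univ.2 h6

include hC hfib hgood in
theorem isIntegral : IsIntegral (pullback f u) := by
  have i0 := smooth_snd (k := k) f u hgood
  have i1 := connectedSpace (k := k) f u hfib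
  have i2 : Smooth (Spec.map (CommRingCat.ofHom (cB (k := k) (B := B)))) := by
    rw [← huk]
    infer_instance
  exact K247.SmoothGI.isIntegral_of_smooth (pullback.snd f u ≫ Spec.map (CommRingCat.ofHom (cB (k := k) (B := B))))

include hC hfib hgood in
/-- The restriction to the multiplicative group is a family of curves of genus one. -/
theorem isFam (hg1 : ∀ c : C, IsClosed ({c} : Set C) → Smooth (f.fiberToSpecResidueField c) →
      Curv2.euler k X (ClSub.quotMod (f.fiberι c).ker) = 0) :
    @IsFam k _ B _ _ _ (pullback f u) ⟨pullback.snd f u⟩ := by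
  let _ : (pullback f u).Over (Spec (CommRingCat.of B)) := ⟨pullback.snd f u⟩
  refine @IsFam.mk k _ B _ _ _ (pullback f u) _ ?_ ?_ ?_ ?_
  · exact inferInstanceAs (IsProper (pullback.snd f u))
  · exact smoothOfRelDim_snd (k := k) f u hfib hgood
  · exact isIntegral f u huk hC hfib hgood
  · intro α hα
    obtain ⟨c, hc, hcu, h⟩ := exists_closed u huk α hα
    obtain ⟨j, hj⟩ := exists_fibSq f u c hc α hα h
    exact ⟨f.fiber c, ⟨f.fiberι c ≫ (X ↘ Spec (CommRingCat.of k))⟩, j, hj,
      curve_fiber f c hc (hgood c hcu hc) (hfib c).1 (hfib c).2 (hg1 c hc (hgood c hcu hc))⟩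

end smooth

end K664.GmFam
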