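import Groth.Agent.Surf.K664.GraphCl
import Groth.Agent.S10855

/-!
# The inverse of the ideal of the graph as a power
-/

set_option autoImplicit false
universe u
open CategoryTheory CategoryTheory.Limits AlgebraicGeometry

namespace K664.EtRootAlg

open Groth.Agent Groth.Agent.Grpsch.PicGrp Groth.Agent.Fga.JacSum K664.GraphCl

variable {k : Type u} [Field k] {C₀ C₁ : Scheme.{u}} (f₀ : C₀ ⟶ Spec (CommRingCat.of k))
  (π : C₁ ⟶ C₀) (f₁ : C₁ ⟶ Spec (CommRingCat.of k)) (hπ : π ≫ f₀ = f₁)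

theorem map_eq {T : Over (Spec (CommRingCat.of k))} (r : Pt f₀ T) :
    pullback.map T.hom f₁ f₀ f₀ r.1 π (𝟙 (Spec (CommRingCat.of k))) ((Category.comp_id _).trans r.2.symm)
      ((Category.comp_id _).trans hπ.symm) =
      (pullbackSymmetry T.hom f₁).hom ≫ pr f₀ π f₁ hπ r ≫ (pullbackSymmetry f₀ f₀).hom := by
  have e1 : pr f₀ π f₁ hπ r ≫ pullback.fst f₀ f₀ = pullback.fst f₁ T.hom ≫ π := pullback.lift_fst _ _ _
  have e2 : pr f₀ π f₁ hπ r ≫ pullback.snd f₀ f₀ = pullback.snd f₁ T.hom ≫ r.1 := pullback.lift_snd _ _ _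
  apply pullback.hom_ext
  · refine (pullback.lift_fst _ _ _).trans ?_
    rw [Category.assoc, Category.assoc, pullbackSymmetry_hom_comp_fst, e2, ← Category.assoc,
      pullbackSymmetry_hom_comp_snd]
  · refine (pullback.lift_snd _ _ _).trans ?_
    rw [Category.assoc, Category.assoc, pullbackSymmetry_hom_comp_snd, e1, ← Category.assoc,
      pullbackSymmetry_hom_comp_fst]

variable [IsSeparated f₀]

theorem ker_eq {T : Over (Spec (CommRingCat.of k))} (r : Pt f₀ T) :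
    (pullback.map r.1 π T.hom f₁ (𝟙 T.left) (𝟙 C₁) f₀ (r.2.trans (Category.id_comp _).symm)
      (hπ.trans (Category.id_comp _).symm)).ker =
      (gid f₀ π f₁ hπ r).comap (pullbackSymmetry T.hom f₁).hom := by
  have h1 := ker_map π r.1 f₀ f₁ T.hom hπ r.2
  have h2 := ker_map r.1 π f₀ T.hom f₁ r.2 hπ
  rw [h2]
  have h3 : pullback.map T.hom f₁ f₀ f₀ r.1 π (𝟙 (Spec (CommRingCat.of k))) ((Category.comp_id _).trans r.2.symm)
      ((Category.comp_id _).trans hπ.symm) = _ := map_eq f₀ π f₁ hπ r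
  rw [h3, gid, ← Scheme.IdealSheafData.comap_comp]
  conv_lhs => rw [← Category.assoc, Scheme.IdealSheafData.comap_comp, diag_swap]

variable [SmoothOfRelativeDimension 1 f₀] [SmoothOfRelativeDimension 1 f₁]

theorem exists_inverse {n : ℕ} (hn : Mor2.IsFinLocFreeOfDeg n π) {T : Over (Spec (CommRingCat.of k))} (r : Pt f₀ T)
    (E : Pic (PicF.XT f₁ T)) (hE : pull (pr f₀ π f₁ hπ r) (dcls f₀) = E ^ n) :
    ∃ (L : (pullback T.hom f₁).Modules), PicF.IsInvertible L ∧
      ClSub.IsInverseOf (CohB1.tensorPow L n) (ClSub.idealMod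
        (pullback.map r.1 π T.hom f₁ (𝟙 T.left) (𝟙 C₁) f₀ (r.2.trans (Category.id_comp _).symm)
      (hπ.trans (Category.id_comp _).symm)).ker) := by
  have hEff1 : BlowUp.IsEffCartierIdeal (gid f₀ π f₁ hπ r) := isEff_gid f₀ π f₁ hπ hn r
  have hEff2 := Groth.Agent.S10855.result (pullbackSymmetry T.hom f₁).hom _ hEff1
  have hI := Dix.IdealModCartier.isInvertible_idealMod hEff2
  have hcl : mk (ClSub.idealMod ((gid f₀ π f₁ hπ r).comap (pullbackSymmetry T.hom f₁).hom)) hI =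
      pull (pullbackSymmetry T.hom f₁).hom E ^ n := by
    rw [← map_pow, ← hE, pull_dcls f₀ π f₁ hπ hn r, gcls, pull_mk, mk_eq_iff]
    obtain ⟨e2⟩ := Dix.IdealModCartier.pullback_idealMod (pullbackSymmetry T.hom f₁).hom hEff1 hEff2
    exact ⟨e2.symm⟩
  obtain ⟨L, hL, hLe⟩ := exists_mk (pull (pullbackSymmetry T.hom f₁).hom E)⁻¹
  refine ⟨L, hL, ?_⟩
  rw [ClSub.IsInverseOf, ker_eq f₀ π f₁ hπ r]
  have h8 : mk (CohB1.tensorPow L n) (Groth.Agent.Fdesc.LocGen.isInvertible_tensorPow hL n) * mk _ hI = 1 := by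
    rw [mk_tensorPow hL, ← hLe, hcl, inv_pow, inv_mul_cancel]
  rw [mk_mul_mk] at h8
  exact (mk_eq_iff _ _).1 h8

end K664.EtRootAlg
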