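import Groth.Agent.Surf.K664.FieldFilt
import Groth.Agent.PicF.K247.RelDim
import Groth.Agent.CurvesC.CurveCoh
import Groth.Agent.CurvesC.DegIso
import Groth.Agent.CurvesC.Dim1Top
import Groth.Agent.CurvesA.CurveDvr
import Groth.Agent.Picfga.SecGraph
import Groth.Agent.S2155
import Groth.Agent.VarietyB.HHPush

/-!
# Closed fibres of a family over a curve

* `isPullback_fiber`: the fibre over a closed point is the pullback along the corresponding rational point.
* `curve_fiber`: a smooth connected closed fibre of dimension one with `χ(O) = 0` is a curve of genus one.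
* `le_smoothLocus`: smoothness of a flat closed map over an open set from smoothness of the closed fibres.
-/

set_option autoImplicit false
universe u

open CategoryTheory CategoryTheory.Limits AlgebraicGeometry Opposite TopologicalSpace IsLocalRing
open Groth.Agent

namespace K664.FibCurve

open K664.FieldFilt K532.CurvePic

section fib

variable {k : Type u} [Field k] [IsAlgClosed k] {C X : Scheme.{u}} [C.Over (Spec (CommRingCat.of k))]
  [LocallyOfFiniteType (C ↘ Spec (CommRingCat.of k))] [X.Over (Spec (CommRingCat.of k))]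
  (f : X ⟶ C) [f.IsOver (Spec (CommRingCat.of k))]

omit [IsAlgClosed k] [LocallyOfFiniteType (C ↘ Spec (CommRingCat.of k))] in
theorem fiberι_comp (c : C) : f.fiberι c ≫ (X ↘ Spec (CommRingCat.of k)) =
    f.fiberToSpecResidueField c ≫ C.fromSpecResidueField c ≫ (C ↘ Spec (CommRingCat.of k)) := by
  have h1 : f ≫ (C ↘ Spec (CommRingCat.of k)) = X ↘ Spec (CommRingCat.of k) := comp_over f _
  rw [← h1]
  have h2 : f.fiberι c ≫ f = f.fiberToSpecResidueField c ≫ C.fromSpecResidueField c := pullback.condition
  rw [reassoc_of% h2]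

/-- The fibre over a closed point is the pullback along the corresponding rational point. -/
theorem isPullback_fiber (c : C) (hc : IsClosed ({c} : Set C)) :
    IsPullback (f.fiberι c) (f.fiberι c ≫ (X ↘ Spec (CommRingCat.of k))) f
      (pointOfClosedPoint (C ↘ Spec (CommRingCat.of k)) c hc) := by
  have H : IsPullback (f.fiberι c) (f.fiberToSpecResidueField c) f (C.fromSpecResidueField c) :=
    IsPullback.of_hasPullback f (C.fromSpecResidueField c)
  have h1 : (f.fiberι c ≫ (X ↘ Spec (CommRingCat.of k))) ≫
      Spec.map (residueFieldIsoBase (C ↘ Spec (CommRingCat.of k)) c hc).hom = f.fiberToSpecResidueField c := by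
    rw [fiberι_comp, ← SpecMap_residueFieldIsoBase_inv (C ↘ Spec (CommRingCat.of k)) c hc, Category.assoc,
      ← Spec.map_comp, Iso.hom_inv_id, Spec.map_id, Category.comp_id]
  have h2 : IsPullback (𝟙 (f.fiber c)) (f.fiberι c ≫ (X ↘ Spec (CommRingCat.of k)))
      (f.fiberToSpecResidueField c) (Spec.map (residueFieldIsoBase (C ↘ Spec (CommRingCat.of k)) c hc).hom) :=
    IsPullback.of_horiz_isIso ⟨by rw [Category.id_comp, h1]⟩
  have h3 := h2.paste_horiz H
  rw [Category.id_comp] at h3
  exact h3

/-- The closed fibre is a closed subscheme. -/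
theorem isClosedImmersion_fiberι (c : C) (hc : IsClosed ({c} : Set C)) : IsClosedImmersion (f.fiberι c) := by
  have h1 : IsClosedImmersion (C.fromSpecResidueField c) := isClosed_singleton_iff_isClosedImmersion.1 hc
  exact inferInstanceAs (IsClosedImmersion (pullback.fst f (C.fromSpecResidueField c)))

/-- A smooth connected closed fibre of dimension one with `χ(O) = 0` is a curve of genus one. -/
theorem curve_fiber [IsProper f] (c : C) (hc : IsClosed ({c} : Set C)) (hsm : Smooth (f.fiberToSpecResidueField c))
    (hconn : ConnectedSpace ↥(f.fiber c)) (hdim : topologicalKrullDim ↥(f.fiber c) = 1)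
    (hχ : Curv2.euler k X (ClSub.quotMod (f.fiberι c).ker) = 0) :
    @Curve k _ (f.fiber c) ⟨f.fiberι c ≫ (X ↘ Spec (CommRingCat.of k))⟩ 1 := by
  let i : (f.fiber c).Over (Spec (CommRingCat.of k)) := ⟨f.fiberι c ≫ (X ↘ Spec (CommRingCat.of k))⟩
  have e1 : (f.fiber c ↘ Spec (CommRingCat.of k)) =
      f.fiberToSpecResidueField c ≫ Spec.map (residueFieldIsoBase (C ↘ Spec (CommRingCat.of k)) c hc).inv := by
    rw [SpecMap_residueFieldIsoBase_inv]
    exact fiberι_comp f c
  have i1 : IsProper (f.fiberToSpecResidueField c) :=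
    inferInstanceAs (IsProper (pullback.snd f (C.fromSpecResidueField c)))
  have i2 : IsProper (f.fiber c ↘ Spec (CommRingCat.of k)) := by rw [e1]; infer_instance
  have i3 : Smooth (f.fiber c ↘ Spec (CommRingCat.of k)) := by rw [e1]; infer_instance
  have i4 : IsIntegral (f.fiber c) := K247.SmoothGI.isIntegral_of_smooth (f.fiber c ↘ Spec (CommRingCat.of k))
  have i5 := isClosedImmersion_fiberι f c hc
  have hC : IsCurve k (f.fiber c) := isCurve_of_isAlgClosed k (f.fiber c) ⟨i2, i3, i4, hdim⟩
  refine ⟨hC, ?_⟩
  obtain ⟨e, he⟩ : ∃ e : f.fiber c ≅ (f.fiberι c).ker.subscheme, e.hom ≫ (f.fiberι c).ker.subschemeι = f.fiberι c :=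
    ⟨asIso (f.fiberι c).toImage, (f.fiberι c).toImage_imageι⟩
  let _ : (f.fiberι c).ker.subscheme.Over (Spec (CommRingCat.of k)) :=
    ⟨(f.fiberι c).ker.subschemeι ≫ (X ↘ Spec (CommRingCat.of k))⟩
  have h1 : Curv2.euler k X (ClSub.quotMod (f.fiberι c).ker) =
      Curv2.euler k (f.fiberι c).ker.subscheme (Coh.structureModule (f.fiberι c).ker.subscheme) :=
    VarietyB.HHPush.euler_push (f.fiberι c).ker.subschemeι k rfl (Coh.structureModule (f.fiberι c).ker.subscheme)
      (Fdesc.StructMod.isQCoh_structureModule _)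
  have h2 : Curv2.euler k (f.fiber c) (Coh.structureModule (f.fiber c)) =
      Curv2.euler k (f.fiberι c).ker.subscheme (Coh.structureModule (f.fiberι c).ker.subscheme) := by
    rw [← CurvesC.DegIso.euler_pullback_iso k e (by
      change e.hom ≫ (f.fiberι c).ker.subschemeι ≫ (X ↘ Spec (CommRingCat.of k)) = f.fiberι c ≫ (X ↘ Spec (CommRingCat.of k))
      rw [← Category.assoc, he]) (Coh.structureModule (f.fiberι c).ker.subscheme)]
    exact (CurvesC.DegIso.euler_congr k (CurvesA.HHMap.pullbackUnit e.hom)).symm
  rw [hχ] at h1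
  rw [← h1, CurvesC.CurveCoh.euler_eq k (f.fiber c) hdim, hC.h0] at h2
  unfold Curv2.genus
  omega

end fib

section smooth

variable {C X : Scheme.{u}} (f : X ⟶ C)

/-- The fibre over a point is smooth iff the morphism is smooth along the fibre. -/
theorem smooth_fiber_iff [Flat f] [LocallyOfFinitePresentation f] (c : C) :
    Smooth (f.fiberToSpecResidueField c) ↔ ∀ x : X, f x = c → x ∈ f.smoothLocus := by
  have H : IsPullback (f.fiberι c) (f.fiberToSpecResidueField c) f (C.fromSpecResidueField c) :=
    IsPullback.of_hasPullback f (C.fromSpecResidueField c)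
  have i1 : LocallyOfFinitePresentation (f.fiberToSpecResidueField c) :=
    inferInstanceAs (LocallyOfFinitePresentation (pullback.snd f (C.fromSpecResidueField c)))
  have e := Groth.Agent.S2155.result f (C.fromSpecResidueField c) (f.fiberToSpecResidueField c) (f.fiberι c) H
    (Or.inl inferInstance)
  have hr := f.range_fiberι c
  constructor
  · intro h x hx
    have hx' : x ∈ Set.range (f.fiberι c) := by rw [hr]; exact hx
    obtain ⟨z, rfl⟩ := hx'
    have h1 : z ∈ (f.fiberToSpecResidueField c).smoothLocus := by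
      rw [Scheme.Hom.smoothLocus_eq_top]
      trivial
    rw [e] at h1
    exact h1
  · intro h
    rw [← Scheme.Hom.smoothLocus_eq_top_iff, e]
    ext z
    simp only [SetLike.mem_coe]
    refine ⟨fun _ => trivial, fun _ => h _ ?_⟩
    have : f.fiberι c z ∈ Set.range (f.fiberι c) := ⟨z, rfl⟩
    rw [hr] at this
    exact this

/-- The image of the nonsmooth locus. -/
def bad [LocallyOfFinitePresentation f] : Set C := f '' (f.smoothLocus : Set X)ᶜ

theorem isClosed_bad [IsProper f] [LocallyOfFinitePresentation f] : IsClosed (bad f) :=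
  f.isClosedMap _ f.smoothLocus.2.isClosed_compl

theorem mem_bad_iff [Flat f] [LocallyOfFinitePresentation f] (c : C) :
    c ∈ bad f ↔ ¬ Smooth (f.fiberToSpecResidueField c) := by
  rw [smooth_fiber_iff]
  constructor
  · rintro ⟨x, hx, rfl⟩ h
    exact hx (h x rfl)
  · intro h
    push Not at h
    obtain ⟨x, hx, hx'⟩ := h
    exact ⟨x, hx', hx⟩

/-- A map with smooth closed fibres over an open set is smooth over it. -/
theorem notMem_bad [IsProper f] [Flat f] [LocallyOfFinitePresentation f] [JacobsonSpace C] {U : Set C} (hU : IsOpen U)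
    (h : ∀ c ∈ U, IsClosed ({c} : Set C) → Smooth (f.fiberToSpecResidueField c)) : ∀ c ∈ U, c ∉ bad f := by
  intro c hc hc'
  obtain ⟨d, ⟨hd1, hd2⟩, hd3⟩ := nonempty_inter_closedPoints (Z := U ∩ bad f) ⟨c, hc, hc'⟩
    (hU.isLocallyClosed.inter (isClosed_bad f).isLocallyClosed)
  exact (mem_bad_iff f d).1 hd2 (h d hd1 hd3)

end smooth

section curve

variable {k : Type u} [Field k] {C : Scheme.{u}} [C.Over (Spec (CommRingCat.of k))]
  [IsProper (C ↘ Spec (CommRingCat.of k))] [IsIntegral C]

include k in
theorem infinite_closedPoints (hdim : topologicalKrullDim C = 1) : {c : C | IsClosed ({c} : Set C)}.Infinite := by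
  intro h
  have i1 : JacobsonSpace C := LocallyOfFiniteType.jacobsonSpace (C ↘ Spec (CommRingCat.of k))
  have h1 : IsClosed {c : C | IsClosed ({c} : Set C)} := by
    rw [← Set.biUnion_of_singleton {c : C | IsClosed ({c} : Set C)}]
    exact h.isClosed_biUnion fun c hc => hc
  obtain ⟨d, hd1, hd2⟩ := nonempty_inter_closedPoints (Z := {c : C | IsClosed ({c} : Set C)}ᶜ)
    ⟨genericPoint C, fun hc => (CurvesA.CurveDvr.isClosed_singleton_iff hdim _).1 hc rfl⟩
    h1.isOpen_compl.isLocallyClosed
  exact hd1 hd2

include k in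
theorem finite_of_isClosed (hdim : topologicalKrullDim C = 1) {Z : Set C} (hZ : IsClosed Z) {c : C} (hc : c ∉ Z) :
    Z.Finite := by
  have i1 : IsLocallyNoetherian C := LocallyOfFiniteType.isLocallyNoetherian (C ↘ Spec (CommRingCat.of k))
  have i2 : CompactSpace C := QuasiCompact.compactSpace_of_compactSpace (C ↘ Spec (CommRingCat.of k))
  have i3 : IsNoetherian C := {}
  exact CurvesC.Dim1Top.finite_of_isClosed hdim.le hZ (fun h => hc (h ▸ Set.mem_univ c))

end curve

end K664.FibCurve
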