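import Mathlib.RingTheory.LocalRing.ResidueField.Basic
import Mathlib.RingTheory.Nakayama
import Mathlib.RingTheory.IntegralClosure.IntegrallyClosed
import Mathlib.LinearAlgebra.Dimension.Finrank
import Mathlib.LinearAlgebra.FiniteDimensional.Lemmas
import Mathlib.LinearAlgebra.LinearIndependent.Lemmas
import Mathlib.Tactic.FieldSimp
import Mathlib.Tactic.Ring
import Mathlib.Tactic.LinearCombination

/-!
# Weierstrass equations from the filtration by pole orders

* `EllFilt κ A V`: the filtered ring of functions on a pointed curve of genus one over a field.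
* `monomial`: `x ^ i y ^ j` (`j ≤ 1`) form a basis.
* `RelFilt`: a family of such over a local ring; `exists_short`: short Weierstrass equations with unit
  discriminant.
-/

set_option autoImplicit false
set_option linter.unusedSectionVars false

namespace K664.WeierFilt

section field

variable {κ A : Type*} [Field κ] [CommRing A] [IsDomain A] [Algebra κ A]

/-- The filtration by pole order at the origin of the ring of functions regular outside the origin on a curve
of genus one. -/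
structure EllFilt (V : ℕ → Submodule κ A) : Prop where
  one : (1 : A) ∈ V 0
  mono : Monotone V
  mul : ∀ {m n : ℕ} {a b : A}, a ∈ V m → b ∈ V n → a * b ∈ V (m + n)
  top : ∀ a : A, ∃ m, a ∈ V m
  fin : ∀ m, Module.Finite κ (V m)
  rank : ∀ m, 1 ≤ m → Module.finrank κ (V m) = m
  deg : ∀ {m n : ℕ} {a b : A}, a ∉ V m → b ∉ V n → a * b ∉ V (m + n + 1)

namespace EllFilt

variable {V : ℕ → Submodule κ A} (h : EllFilt V)

include h

theorem one_mem (m : ℕ) : (1 : A) ∈ V m := h.mono (Nat.zero_le m) h.one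

theorem algebraMap_mem (m : ℕ) (c : κ) : algebraMap κ A c ∈ V m := by
  rw [Algebra.algebraMap_eq_smul_one]
  exact (V m).smul_mem c (h.one_mem m)

theorem exists_two : ∃ x ∈ V 2, x ∉ V 1 := by
  by_contra hcon
  push Not at hcon
  have h1 := h.fin 1
  have h2 : V 2 ≤ V 1 := hcon
  have := Submodule.finrank_mono h2
  rw [h.rank 2 (by norm_num), h.rank 1 le_rfl] at this
  omega

theorem exists_three : ∃ y ∈ V 3, y ∉ V 2 := by
  by_contra hcon
  push Not at hcon
  have h1 := h.fin 2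
  have h2 : V 3 ≤ V 2 := hcon
  have := Submodule.finrank_mono h2
  rw [h.rank 3 (by norm_num), h.rank 2 (by norm_num)] at this
  omega

/-- A function in `V 1` is constant. -/
theorem exists_const {a : A} (ha : a ∈ V 1) : ∃ c : κ, a = algebraMap κ A c := by
  have h1 := h.fin 1
  have h2 := (finrank_eq_one_iff_of_nonzero' (⟨1, h.one_mem 1⟩ : V 1) (by
    intro h0
    exact one_ne_zero (congrArg Subtype.val h0))).1 (h.rank 1 le_rfl) ⟨a, ha⟩
  obtain ⟨c, hc⟩ := h2
  refine ⟨c, ?_⟩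
  rw [Algebra.algebraMap_eq_smul_one]
  exact (congrArg Subtype.val hc).symm

variable {x y : A} (hx : x ∈ V 2) (hx' : x ∉ V 1) (hy : y ∈ V 3) (hy' : y ∉ V 2)

include hx in
theorem pow_mem (i : ℕ) : x ^ i ∈ V (2 * i) := by
  induction i with
  | zero => simpa using h.one
  | succ i ih =>
    rw [pow_succ, show 2 * (i + 1) = 2 * i + 2 by ring]
    exact h.mul ih hx

include hx' in
theorem pow_notMem (i : ℕ) (hi : 1 ≤ i) : x ^ i ∉ V (2 * i - 1) := by
  induction i, hi using Nat.le_induction with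
  | base => simpa using hx'
  | succ i hi ih =>
    rw [pow_succ, show 2 * (i + 1) - 1 = (2 * i - 1) + 1 + 1 by omega]
    exact h.deg ih hx'

/-- The monomials, indexed by their degree: `mon n` has degree `n` for `n = 0` or `n ≥ 2`. -/
def mon (x y : A) (n : ℕ) : A := if n % 2 = 0 then x ^ (n / 2) else x ^ ((n - 3) / 2) * y

omit [IsDomain A] [Algebra κ A] h in
theorem mon_even (i : ℕ) : mon x y (2 * i) = x ^ i := by
  rw [mon, if_pos (by omega)]
  congr 1
  omega

omit [IsDomain A] [Algebra κ A] h in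
theorem mon_odd (i : ℕ) : mon x y (2 * i + 3) = x ^ i * y := by
  rw [mon, if_neg (by omega)]
  congr 2
  omega

include hx hy in
theorem mon_mem (n : ℕ) (hn : n ≠ 1) : mon x y n ∈ V n := by
  rcases Nat.even_or_odd' n with ⟨i, rfl | rfl⟩
  · rw [mon_even]; exact h.pow_mem hx i
  · obtain ⟨j, rfl⟩ : ∃ j, i = j + 1 := ⟨i - 1, by omega⟩
    rw [show 2 * (j + 1) + 1 = 2 * j + 3 by ring, mon_odd]
    exact h.mul (h.pow_mem hx j) hy

include hx' hy' in
theorem mon_notMem (n : ℕ) (hn : 2 ≤ n) : mon x y n ∉ V (n - 1) := by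
  rcases Nat.even_or_odd' n with ⟨i, rfl | rfl⟩
  · rw [mon_even]; exact h.pow_notMem hx' i (by omega)
  · obtain ⟨j, rfl⟩ : ∃ j, i = j + 1 := ⟨i - 1, by omega⟩
    rw [show 2 * (j + 1) + 1 = 2 * j + 3 by ring, mon_odd]
    rcases Nat.eq_zero_or_pos j with rfl | hj
    · simpa using hy'
    · have := h.deg (h.pow_notMem hx' j hj) hy'
      rwa [show 2 * j - 1 + 2 + 1 = 2 * j + 3 - 1 by omega] at this

include hx hx' hy hy' in
/-- The monomials span. -/
theorem le_span (n : ℕ) : V n ≤ Submodule.span κ (mon x y '' {i | i ≤ n ∧ i ≠ 1}) := by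
  induction n using Nat.strong_induction_on with
  | _ n ih =>
    have hsub : ∀ m ≤ n, Submodule.span κ (mon x y '' {i | i ≤ m ∧ i ≠ 1}) ≤
        Submodule.span κ (mon x y '' {i | i ≤ n ∧ i ≠ 1}) := fun m hm =>
      Submodule.span_mono (Set.image_mono fun i hi => ⟨hi.1.trans hm, hi.2⟩)
    have h1 : mon x y 0 = 1 := by simp [mon]
    rcases Nat.lt_or_ge n 2 with hn | hn
    · intro a ha
      obtain ⟨c, rfl⟩ := h.exists_const (h.mono (by omega : n ≤ 1) ha)
      rw [Algebra.algebraMap_eq_smul_one, ← h1]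
      exact Submodule.smul_mem _ _ (Submodule.subset_span ⟨0, ⟨Nat.zero_le _, by norm_num⟩, rfl⟩)
    · -- dimension count
      have hfn := h.fin n
      let W : Submodule κ A := V (n - 1) ⊔ Submodule.span κ {mon x y n}
      have hW : W ≤ V n := sup_le (h.mono (by omega))
        ((Submodule.span_singleton_le_iff_mem _ _).2 (h.mon_mem hx hy n (by omega)))
      have hWfin : Module.Finite κ W := Submodule.finiteDimensional_of_le hW
      have hlt : V (n - 1) < W := by
        refine lt_of_le_of_ne le_sup_left fun he => h.mon_notMem hx' hy' n hn ?_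
        rw [he]
        exact Submodule.mem_sup_right (Submodule.mem_span_singleton_self _)
      have h2 := Submodule.finrank_lt_finrank_of_lt hlt
      have h3 : V n = W := by
        symm
        refine Submodule.eq_of_le_of_finrank_le hW ?_
        rw [h.rank n (by omega)]
        rcases Nat.lt_or_ge n 2 with h4 | h4
        · omega
        · rw [h.rank (n - 1) (by omega)] at h2
          omega
      rw [h3]
      refine sup_le ((ih (n - 1) (by omega)).trans (hsub _ (by omega))) ?_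
      rw [Submodule.span_singleton_le_iff_mem]
      exact Submodule.subset_span ⟨n, ⟨le_rfl, by omega⟩, rfl⟩

include hx hx' hy hy' in
/-- Independence of the monomials of degree at most six. -/
theorem eq_zero_of_comb {c₀ c₂ c₃ c₄ c₅ c₆ : κ}
    (hc : algebraMap κ A c₀ + algebraMap κ A c₂ * x + algebraMap κ A c₃ * y + algebraMap κ A c₄ * x ^ 2 +
      algebraMap κ A c₅ * (x * y) + algebraMap κ A c₆ * x ^ 3 = 0) :
    c₀ = 0 ∧ c₂ = 0 ∧ c₃ = 0 ∧ c₄ = 0 ∧ c₅ = 0 ∧ c₆ = 0 := by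
  have m0 := h.algebraMap_mem 0 c₀
  have key : ∀ (n : ℕ) (c : κ) (z w : A), z ∉ V n → w ∈ V n → w + algebraMap κ A c * z = 0 → c = 0 := by
    intro n c z w hz hw he
    by_contra hc0
    apply hz
    have h1 : z = c⁻¹ • (-w) := by
      have h2 : c • z = -w := by rw [Algebra.smul_def]; linear_combination he
      rw [← h2, smul_smul, inv_mul_cancel₀ hc0, one_smul]
    rw [h1]
    exact (V n).smul_mem _ ((V n).neg_mem hw)
  have hx2 : x ^ 2 ∈ V 4 := h.pow_mem hx 2
  have hxy : x * y ∈ V 5 := h.mul hx hy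
  have nx2 : x ^ 2 ∉ V 3 := h.pow_notMem hx' 2 (by norm_num)
  have nx3 : x ^ 3 ∉ V 5 := h.pow_notMem hx' 3 (by norm_num)
  have nxy : x * y ∉ V 4 := h.deg hx' hy'
  have sm : ∀ (n : ℕ) (c : κ) (z : A), z ∈ V n → algebraMap κ A c * z ∈ V n := by
    intro n c z hz
    rw [← Algebra.smul_def]
    exact (V n).smul_mem _ hz
  have e6 : c₆ = 0 := by
    refine key 5 c₆ (x ^ 3) _ nx3 ?_ hc
    refine (V 5).add_mem ((V 5).add_mem ((V 5).add_mem ((V 5).add_mem (h.mono (by norm_num) m0)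
      (sm 5 _ _ (h.mono (by norm_num) hx))) (sm 5 _ _ (h.mono (by norm_num) hy)))
      (sm 5 _ _ (h.mono (by norm_num) hx2))) (sm 5 _ _ hxy)
  rw [e6, map_zero, zero_mul, add_zero] at hc
  have e5 : c₅ = 0 := by
    refine key 4 c₅ (x * y) _ nxy ?_ hc
    exact (V 4).add_mem ((V 4).add_mem ((V 4).add_mem (h.mono (by norm_num) m0)
      (sm 4 _ _ (h.mono (by norm_num) hx))) (sm 4 _ _ (h.mono (by norm_num) hy))) (sm 4 _ _ hx2)
  rw [e5, map_zero, zero_mul, add_zero] at hc
  have e4 : c₄ = 0 := by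
    refine key 3 c₄ (x ^ 2) _ nx2 ?_ hc
    exact (V 3).add_mem ((V 3).add_mem (h.mono (by norm_num) m0)
      (sm 3 _ _ (h.mono (by norm_num) hx))) (sm 3 _ _ hy)
  rw [e4, map_zero, zero_mul, add_zero] at hc
  have e3 : c₃ = 0 := by
    refine key 2 c₃ y _ hy' ?_ hc
    exact (V 2).add_mem (h.mono (by norm_num) m0) (sm 2 _ _ hx)
  rw [e3, map_zero, zero_mul, add_zero] at hc
  have e2 : c₂ = 0 := by
    refine key 1 c₂ x _ hx' ?_ hc
    exact h.mono (by norm_num) m0
  rw [e2, map_zero, zero_mul, add_zero] at hc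
  refine ⟨?_, e2, e3, e4, e5, e6⟩
  exact (map_eq_zero_iff _ (FaithfulSMul.algebraMap_injective κ A)).1 hc

include hx hx' hy hy' in
/-- Nonsingularity of the Weierstrass equation. -/
theorem disc_ne_zero [IsIntegrallyClosed A] (h2 : (2 : κ) ≠ 0) (h3 : (3 : κ) ≠ 0) {a b : κ}
    (he : y ^ 2 = x ^ 3 + algebraMap κ A a * x + algebraMap κ A b) : 4 * a ^ 3 + 27 * b ^ 2 ≠ 0 := by
  intro hd
  -- a double root of the cubic
  obtain ⟨r, s, hr1, hr2⟩ : ∃ r s : κ, a = - 3 * r ^ 2 ∧ b = 2 * r ^ 3 ∧ s = 0 := by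
    by_cases ha : a = 0
    · refine ⟨0, 0, by rw [ha]; ring, ?_, rfl⟩
      rw [ha] at hd
      have h27 : (27 : κ) ≠ 0 := by
        have : (27 : κ) = 3 ^ 3 := by norm_num
        rw [this]; exact pow_ne_zero _ h3
      have : b ^ 2 = 0 := by
        have h0 : (27 : κ) * b ^ 2 = 0 := by linear_combination hd
        exact (mul_eq_zero.1 h0).resolve_left h27
      rw [pow_eq_zero_iff two_ne_zero |>.1 this]
      ring
    · refine ⟨- 3 * b / (2 * a), 0, ?_, ?_, rfl⟩
      · field_simp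
        linear_combination hd
      · field_simp
        linear_combination b * hd
  have hfac : y ^ 2 = (x - algebraMap κ A r) ^ 2 * (x + algebraMap κ A (2 * r)) := by
    rw [he, hr1, hr2.1]
    simp only [map_mul, map_neg, map_pow, map_ofNat]
    ring
  have hxr : x - algebraMap κ A r ≠ 0 := by
    intro h0
    apply hx'
    rw [sub_eq_zero.1 h0]
    exact h.algebraMap_mem 1 r
  -- the quotient is integral
  let F := FractionRing A
  have hxF : algebraMap A F (x - algebraMap κ A r) ≠ 0 := by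
    rw [Ne, map_eq_zero_iff _ (IsFractionRing.injective A F)]
    exact hxr
  obtain ⟨z, hz⟩ : ∃ z : A, algebraMap A F z = algebraMap A F y / algebraMap A F (x - algebraMap κ A r) := by
    have hint : IsIntegral A (algebraMap A F y / algebraMap A F (x - algebraMap κ A r)) := by
      refine ⟨Polynomial.X ^ 2 - Polynomial.C (x + algebraMap κ A (2 * r)),
        Polynomial.monic_X_pow_sub_C _ two_ne_zero, ?_⟩
      simp only [Polynomial.eval₂_sub, Polynomial.eval₂_pow, Polynomial.eval₂_X, Polynomial.eval₂_C]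
      rw [div_pow, ← map_pow, hfac, map_mul, map_pow, mul_div_cancel_left₀ _ (pow_ne_zero 2 hxF), sub_self]
    exact IsIntegrallyClosed.algebraMap_eq_of_integral hint
  have hz2 : z ^ 2 = x + algebraMap κ A (2 * r) := by
    apply IsFractionRing.injective A F
    rw [map_pow, hz, div_pow, ← map_pow, hfac, map_mul, map_pow, mul_div_cancel_left₀ _ (pow_ne_zero 2 hxF)]
  have hz1 : z ∈ V 1 := by
    by_contra hz1
    have h5 := h.deg hz1 hz1
    rw [← pow_two, hz2] at h5
    exact h5 ((V 3).add_mem (h.mono (by norm_num) hx) (h.algebraMap_mem _ _))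
  obtain ⟨c, rfl⟩ := h.exists_const hz1
  apply hx'
  have : x = algebraMap κ A (c ^ 2 - 2 * r) := by
    rw [map_sub, map_pow, hz2]; ring
  rw [this]
  exact h.algebraMap_mem _ _

end EllFilt

end field

section relative

open IsLocalRing

variable {R κ A A₀ : Type*} [CommRing R] [IsLocalRing R] [Field κ] [Algebra R κ] [CommRing A] [Algebra R A]
  [CommRing A₀] [IsDomain A₀] [Algebra κ A₀]

/-- A family over a local ring `R` of filtered rings as in `EllFilt`. -/
structure RelFilt (ρ : A →+* A₀) (M : ℕ → Submodule R A) (V : ℕ → Submodule κ A₀) : Prop where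
  ell : EllFilt V
  surj : Function.Surjective (algebraMap R κ)
  comm : ∀ r : R, ρ (algebraMap R A r) = algebraMap κ A₀ (algebraMap R κ r)
  fg : ∀ n, (M n).FG
  one : (1 : A) ∈ M 0
  mono : Monotone M
  mul : ∀ {m n : ℕ} {a b : A}, a ∈ M m → b ∈ M n → a * b ∈ M (m + n)
  top : ∀ a : A, ∃ m, a ∈ M m
  map : ∀ {n : ℕ} {a : A}, a ∈ M n → ρ a ∈ V n
  lift : ∀ {n : ℕ} {v : A₀}, v ∈ V n → ∃ a ∈ M n, ρ a = v
  ker : ∀ {n : ℕ} {a : A}, a ∈ M n → ρ a = 0 → a ∈ maximalIdeal R • M n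

namespace RelFilt

variable {ρ : A →+* A₀} {M : ℕ → Submodule R A} {V : ℕ → Submodule κ A₀} (h : RelFilt ρ M V)

/-- Functions of degree two and three. -/
structure Good (ρ : A →+* A₀) (M : ℕ → Submodule R A) (V : ℕ → Submodule κ A₀) (x y : A) : Prop where
  x_mem : x ∈ M 2
  x_notMem : ρ x ∉ V 1
  y_mem : y ∈ M 3
  y_notMem : ρ y ∉ V 2

include h

theorem ρ_smul (r : R) (a : A) : ρ (r • a) = algebraMap R κ r • ρ a := by
  rw [Algebra.smul_def, Algebra.smul_def, map_mul, h.comm]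

theorem exists_good : ∃ x y, Good ρ M V x y := by
  obtain ⟨x₀, h1, h2⟩ := h.ell.exists_two
  obtain ⟨y₀, h3, h4⟩ := h.ell.exists_three
  obtain ⟨x, hx, rfl⟩ := h.lift h1
  obtain ⟨y, hy, rfl⟩ := h.lift h3
  exact ⟨x, y, hx, h2, hy, h4⟩

theorem algebraMap_mem (n : ℕ) (r : R) : algebraMap R A r ∈ M n := by
  rw [Algebra.algebraMap_eq_smul_one]
  exact (M n).smul_mem r (h.mono (Nat.zero_le n) h.one)

theorem isUnit_iff {r : R} : IsUnit r ↔ algebraMap R κ r ≠ 0 := by
  constructor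
  · intro hr
    exact (hr.map (algebraMap R κ)).ne_zero
  · intro hr
    by_contra hu
    apply hr
    have h1 : RingHom.ker (algebraMap R κ) = maximalIdeal R :=
      IsLocalRing.eq_maximalIdeal (RingHom.ker_isMaximal_of_surjective _ h.surj)
    rw [← RingHom.mem_ker, h1]
    exact (mem_maximalIdeal r).2 hu

variable {x y : A}

theorem pow_mem (g : Good ρ M V x y) (i : ℕ) : x ^ i ∈ M (2 * i) := by
  induction i with
  | zero => simpa using h.one
  | succ i ih =>
    rw [pow_succ, show 2 * (i + 1) = 2 * i + 2 by ring]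
    exact h.mul ih g.x_mem

theorem mon_mem (g : Good ρ M V x y) (n : ℕ) (hn : n ≠ 1) : EllFilt.mon x y n ∈ M n := by
  rcases Nat.even_or_odd' n with ⟨i, rfl | rfl⟩
  · rw [EllFilt.mon_even]; exact h.pow_mem g i
  · obtain ⟨j, rfl⟩ : ∃ j, i = j + 1 := ⟨i - 1, by omega⟩
    rw [show 2 * (j + 1) + 1 = 2 * j + 3 by ring, EllFilt.mon_odd]
    exact h.mul (h.pow_mem g j) g.y_mem

omit h in
theorem map_mon (n : ℕ) : ρ (EllFilt.mon x y n) = EllFilt.mon (ρ x) (ρ y) n := by
  rw [EllFilt.mon, EllFilt.mon]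
  split_ifs
  · rw [map_pow]
  · rw [map_mul, map_pow]

/-- The monomials span over the local ring. -/
theorem le_span (g : Good ρ M V x y) (n : ℕ) :
    M n ≤ Submodule.span R (EllFilt.mon x y '' {i | i ≤ n ∧ i ≠ 1}) := by
  refine Submodule.le_of_le_smul_of_le_jacobson_bot (I := maximalIdeal R) (h.fg n)
    (IsLocalRing.maximalIdeal_le_jacobson _) ?_
  intro a ha
  -- lift the expression of `ρ a`
  have h1 : ρ a ∈ Submodule.span κ (EllFilt.mon (ρ x) (ρ y) '' {i | i ≤ n ∧ i ≠ 1}) :=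
    h.ell.le_span (h.map g.x_mem) g.x_notMem (h.map g.y_mem) g.y_notMem n (h.map ha)
  have h2 : ∃ b ∈ Submodule.span R (EllFilt.mon x y '' {i | i ≤ n ∧ i ≠ 1}), ρ b = ρ a := by
    generalize ρ a = w at h1
    induction h1 using Submodule.span_induction with
    | mem z hz =>
      obtain ⟨i, hi, rfl⟩ := hz
      exact ⟨EllFilt.mon x y i, Submodule.subset_span ⟨i, hi, rfl⟩, map_mon i⟩
    | zero => exact ⟨0, Submodule.zero_mem _, map_zero ρ⟩
    | add z w _ _ hz hw =>
      obtain ⟨b, hb, rfl⟩ := hz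
      obtain ⟨c, hc, rfl⟩ := hw
      exact ⟨b + c, Submodule.add_mem _ hb hc, map_add ρ b c⟩
    | smul c z _ hz =>
      obtain ⟨b, hb, rfl⟩ := hz
      obtain ⟨r, rfl⟩ := h.surj c
      exact ⟨r • b, Submodule.smul_mem _ r hb, h.ρ_smul r b⟩
  obtain ⟨b, hb, hb2⟩ := h2
  have h3 : Submodule.span R (EllFilt.mon x y '' {i | i ≤ n ∧ i ≠ 1}) ≤ M n := by
    rw [Submodule.span_le]
    rintro _ ⟨i, hi, rfl⟩
    exact h.mono hi.1 (h.mon_mem g i hi.2)
  have h4 : a - b ∈ maximalIdeal R • M n := h.ker (Submodule.sub_mem _ ha (h3 hb)) (by rw [map_sub, hb2, sub_self])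
  rw [show a = b + (a - b) by ring]
  exact Submodule.add_mem_sup hb h4

/-- The monomials of degree at most six. -/
theorem le_span_six (g : Good ρ M V x y) {a : A} (ha : a ∈ M 6) :
    ∃ c₀ c₂ c₃ c₄ c₅ c₆ : R, a = algebraMap R A c₆ * x ^ 3 + algebraMap R A c₅ * (x * y) +
      algebraMap R A c₄ * x ^ 2 + algebraMap R A c₃ * y + algebraMap R A c₂ * x + algebraMap R A c₀ := by
  have h1 := h.le_span g 6 ha
  have h2 : Submodule.span R (EllFilt.mon x y '' {i | i ≤ 6 ∧ i ≠ 1}) ≤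
      Submodule.span R {x ^ 3, x * y, x ^ 2, y, x, 1} := by
    rw [Submodule.span_le]
    rintro _ ⟨i, ⟨hi, hi1⟩, rfl⟩
    apply Submodule.subset_span
    interval_cases i
    · simp [EllFilt.mon]
    · exact absurd rfl hi1
    · simp [EllFilt.mon]
    · simp [EllFilt.mon]
    · simp [EllFilt.mon]
    · simp [EllFilt.mon]
    · simp [EllFilt.mon]
  have h3 := h2 h1
  simp only [Submodule.mem_span_insert, Submodule.mem_span_singleton] at h3
  obtain ⟨c₆, _, ⟨c₅, _, ⟨c₄, _, ⟨c₃, _, ⟨c₂, _, ⟨c₀, rfl⟩, rfl⟩, rfl⟩, rfl⟩, rfl⟩, rfl⟩ := h3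
  refine ⟨c₀, c₂, c₃, c₄, c₅, c₆, ?_⟩
  simp only [Algebra.smul_def]
  ring

theorem exists_rel (g : Good ρ M V x y) :
    ∃ c₀ c₂ c₃ c₄ c₅ c₆ : R, IsUnit c₆ ∧ y ^ 2 = algebraMap R A c₆ * x ^ 3 + algebraMap R A c₅ * (x * y) +
      algebraMap R A c₄ * x ^ 2 + algebraMap R A c₃ * y + algebraMap R A c₂ * x + algebraMap R A c₀ := by
  have hy2 : y ^ 2 ∈ M 6 := by rw [pow_two]; exact h.mul g.y_mem g.y_mem
  obtain ⟨c₀, c₂, c₃, c₄, c₅, c₆, he⟩ := h.le_span_six g hy2
  refine ⟨c₀, c₂, c₃, c₄, c₅, c₆, h.isUnit_iff.2 fun h0 => ?_, he⟩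
  have h1 := congrArg ρ he
  simp only [map_add, map_mul, map_pow, h.comm, h0, map_zero, zero_mul, zero_add] at h1
  have h2 : ρ y ^ 2 ∉ V 5 := by rw [pow_two]; exact h.ell.deg g.y_notMem g.y_notMem
  apply h2
  rw [h1]
  have sm : ∀ (n : ℕ) (c : κ) (z : A₀), z ∈ V n → algebraMap κ A₀ c * z ∈ V n := by
    intro n c z hz
    rw [← Algebra.smul_def]
    exact (V n).smul_mem _ hz
  have hx := h.map g.x_mem
  have hy := h.map g.y_mem
  refine (V 5).add_mem ((V 5).add_mem ((V 5).add_mem ((V 5).add_mem (sm 5 _ _ (h.ell.mul hx hy)) (sm 5 _ _ ?_))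
    (sm 5 _ _ (h.ell.mono (by norm_num) hy))) (sm 5 _ _ (h.ell.mono (by norm_num) hx))) (h.ell.algebraMap_mem 5 _)
  exact h.ell.mono (by norm_num) (h.ell.pow_mem hx 2)

/-- Changes of good coordinates. -/
theorem good_change (g : Good ρ M V x y) {α γ : R} (hα : IsUnit α) (hγ : IsUnit γ) (β δ ε : R) :
    Good ρ M V (algebraMap R A α * x + algebraMap R A β)
      (algebraMap R A γ * y + algebraMap R A δ * x + algebraMap R A ε) := by
  have sm : ∀ (n : ℕ) (c : R) (z : A), z ∈ M n → algebraMap R A c * z ∈ M n := by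
    intro n c z hz
    rw [← Algebra.smul_def]
    exact (M n).smul_mem _ hz
  have key : ∀ (n : ℕ) (c : κ) (z w : A₀), c ≠ 0 → z ∉ V n → w ∈ V n → algebraMap κ A₀ c * z + w ∉ V n := by
    intro n c z w hc hz hw hcon
    apply hz
    have h1 : c • z ∈ V n := by
      rw [Algebra.smul_def]
      have := (V n).sub_mem hcon hw
      rwa [add_sub_cancel_right] at this
    have := (V n).smul_mem c⁻¹ h1
    rwa [smul_smul, inv_mul_cancel₀ hc, one_smul] at this
  refine ⟨?_, ?_, ?_, ?_⟩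
  · exact (M 2).add_mem (sm 2 _ _ g.x_mem) (h.algebraMap_mem 2 β)
  · rw [map_add, map_mul, h.comm, h.comm]
    exact key 1 _ _ _ (h.isUnit_iff.1 hα) g.x_notMem (h.ell.algebraMap_mem 1 _)
  · exact (M 3).add_mem ((M 3).add_mem (sm 3 _ _ g.y_mem) (sm 3 _ _ (h.mono (by norm_num) g.x_mem)))
      (h.algebraMap_mem 3 ε)
  · rw [map_add, map_add, map_mul, map_mul, h.comm, h.comm, h.comm, add_assoc]
    refine key 2 _ _ _ (h.isUnit_iff.1 hγ) g.y_notMem ((V 2).add_mem ?_ (h.ell.algebraMap_mem 2 _))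
    rw [← Algebra.smul_def]
    exact (V 2).smul_mem _ (h.map g.x_mem)

/-- **Short Weierstrass equations.** -/
theorem exists_short (h2 : IsUnit (2 : R)) (h3 : IsUnit (3 : R)) :
    ∃ (x y : A) (a b : R), Good ρ M V x y ∧ y ^ 2 = x ^ 3 + algebraMap R A a * x + algebraMap R A b := by
  obtain ⟨x, y, g⟩ := h.exists_good
  obtain ⟨c₀, c₂, c₃, c₄, c₅, c₆, hu, he⟩ := h.exists_rel g
  obtain ⟨i2, hi2⟩ := h2.exists_left_inv
  obtain ⟨i3, hi3⟩ := h3.exists_left_inv
  -- `X = c x`, `Y = c y - (d X + c f) / 2`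
  have gg := h.good_change g hu hu (i3 * (c₄ + (i2 * c₅) ^ 2)) (-((i2 * c₅) * c₆)) (-(i2 * (c₆ * c₃)))
  refine ⟨_, _, (c₆ * c₂ + 2 * (i2 * c₅) * (i2 * (c₆ * c₃))) - 3 * (i3 * (c₄ + (i2 * c₅) ^ 2)) ^ 2,
    (c₆ ^ 2 * c₀ + (i2 * (c₆ * c₃)) ^ 2) - (c₆ * c₂ + 2 * (i2 * c₅) * (i2 * (c₆ * c₃))) *
      (i3 * (c₄ + (i2 * c₅) ^ 2)) + 2 * (i3 * (c₄ + (i2 * c₅) ^ 2)) ^ 3, gg, ?_⟩
  have hD : 2 * algebraMap R A (i2 * c₅) = algebraMap R A c₅ := by
    rw [← map_ofNat (algebraMap R A) 2, ← map_mul]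
    congr 1
    linear_combination c₅ * hi2
  have hF : 2 * algebraMap R A (i2 * (c₆ * c₃)) = algebraMap R A c₆ * algebraMap R A c₃ := by
    rw [← map_ofNat (algebraMap R A) 2, ← map_mul, ← map_mul]
    congr 1
    linear_combination c₆ * c₃ * hi2
  have hE : 3 * algebraMap R A (i3 * (c₄ + (i2 * c₅) ^ 2)) = algebraMap R A c₄ + algebraMap R A (i2 * c₅) ^ 2 := by
    rw [← map_ofNat (algebraMap R A) 3, ← map_mul, ← map_pow, ← map_add]
    congr 1
    linear_combination (c₄ + (i2 * c₅) ^ 2) * hi3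
  have ea : algebraMap R A ((c₆ * c₂ + 2 * (i2 * c₅) * (i2 * (c₆ * c₃))) - 3 * (i3 * (c₄ + (i2 * c₅) ^ 2)) ^ 2) =
      (algebraMap R A c₆ * algebraMap R A c₂ + 2 * algebraMap R A (i2 * c₅) * algebraMap R A (i2 * (c₆ * c₃))) -
        3 * algebraMap R A (i3 * (c₄ + (i2 * c₅) ^ 2)) ^ 2 := by
    simp only [map_add, map_sub, map_mul, map_pow, map_ofNat]
  have eb : algebraMap R A ((c₆ ^ 2 * c₀ + (i2 * (c₆ * c₃)) ^ 2) - (c₆ * c₂ + 2 * (i2 * c₅) * (i2 * (c₆ * c₃))) *
      (i3 * (c₄ + (i2 * c₅) ^ 2)) + 2 * (i3 * (c₄ + (i2 * c₅) ^ 2)) ^ 3) =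
      (algebraMap R A c₆ ^ 2 * algebraMap R A c₀ + algebraMap R A (i2 * (c₆ * c₃)) ^ 2) -
        (algebraMap R A c₆ * algebraMap R A c₂ + 2 * algebraMap R A (i2 * c₅) * algebraMap R A (i2 * (c₆ * c₃))) *
        algebraMap R A (i3 * (c₄ + (i2 * c₅) ^ 2)) + 2 * algebraMap R A (i3 * (c₄ + (i2 * c₅) ^ 2)) ^ 3 := by
    simp only [map_add, map_sub, map_mul, map_pow, map_ofNat]
  have ec : algebraMap R A (-((i2 * c₅) * c₆)) = - (algebraMap R A (i2 * c₅) * algebraMap R A c₆) := by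
    simp only [map_neg, map_mul]
  rw [ea, eb, ec, map_neg]
  generalize algebraMap R A (i2 * c₅) = D at *
  generalize algebraMap R A (i2 * (c₆ * c₃)) = F at *
  generalize algebraMap R A (i3 * (c₄ + (i2 * c₅) ^ 2)) = e at *
  generalize algebraMap R A c₀ = d₀ at *
  generalize algebraMap R A c₂ = d₂ at *
  generalize algebraMap R A c₃ = d₃ at *
  generalize algebraMap R A c₄ = d₄ at *
  generalize algebraMap R A c₅ = d₅ at *
  generalize algebraMap R A c₆ = d₆ at *
  linear_combination d₆ ^ 2 * he - d₆ ^ 2 * x * y * hD - d₆ * y * hF - (d₆ * x) ^ 2 * hE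

/-- Good coordinates generate. -/
theorem adjoin_eq_top (g : Good ρ M V x y) : Algebra.adjoin R {x, y} = ⊤ := by
  rw [eq_top_iff]
  rintro a -
  obtain ⟨n, hn⟩ := h.top a
  have h1 := h.le_span g n hn
  refine (Submodule.span_le (p := Subalgebra.toSubmodule (Algebra.adjoin R {x, y}))).2 ?_ h1
  rintro _ ⟨i, -, rfl⟩
  have hx : x ∈ Algebra.adjoin R {x, y} := Algebra.subset_adjoin (by simp)
  have hy : y ∈ Algebra.adjoin R {x, y} := Algebra.subset_adjoin (by simp)
  rw [EllFilt.mon]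
  split_ifs
  · exact Subalgebra.pow_mem _ hx _
  · exact Subalgebra.mul_mem _ (Subalgebra.pow_mem _ hx _) hy

/-- The discriminant is a unit. -/
theorem isUnit_disc [IsIntegrallyClosed A₀] (h2 : IsUnit (2 : R)) (h3 : IsUnit (3 : R)) (g : Good ρ M V x y)
    {a b : R} (he : y ^ 2 = x ^ 3 + algebraMap R A a * x + algebraMap R A b) : IsUnit (4 * a ^ 3 + 27 * b ^ 2) := by
  rw [h.isUnit_iff]
  have h2' : (2 : κ) ≠ 0 := by
    have := h.isUnit_iff.1 h2
    rwa [map_ofNat] at this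
  have h3' : (3 : κ) ≠ 0 := by
    have := h.isUnit_iff.1 h3
    rwa [map_ofNat] at this
  have := h.ell.disc_ne_zero (h.map g.x_mem) g.x_notMem (h.map g.y_mem) g.y_notMem h2' h3'
    (a := algebraMap R κ a) (b := algebraMap R κ b) (by
      have := congrArg ρ he
      simpa only [map_add, map_mul, map_pow, h.comm] using this)
  simpa only [map_add, map_mul, map_pow, map_ofNat] using this

end RelFilt

end relative

end K664.WeierFilt
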