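import Groth.Agent.Surf.K664.PoleMod
import Groth.Agent.Surf.K664.WeierFilt
import Groth.Agent.JacVar.K532.CurvePts
import Groth.Agent.CurvesA.CurveDvr
import Groth.Agent.S2102

/-!
# The pole filtration of a pointed curve of genus one over a field

`ellFilt`: the filtration of the functions regular outside a rational point of a smooth proper curve of genus one
satisfies `EllFilt`.
-/

set_option autoImplicit false
universe u

open CategoryTheory CategoryTheory.Limits AlgebraicGeometry Opposite TopologicalSpace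
open Groth.Agent.Fdesc.LocGen Groth.Agent.Picfga.ZeroDef Groth.Agent.Picfga.ZeroDiv
open Groth.Agent Groth.Agent.Divis.EffCartier Groth.Agent.Divis.IdealComap Groth.Agent.CurvesB.HZero
open Groth.Agent.Grpsch.PicGrp K532.CurvePic K532.CurvePts Groth.Agent.Fga Groth.Agent.Fga.ZeroClass
open Groth.Agent.Fga.JacFactor Groth.Agent.Picfga.ZeroHom Groth.Agent.Fga.JacSum

namespace K664.FieldFilt

open K664.PoleFilt K664.WeierFilt

theorem dcl_pow {Y : Scheme.{u}} {D : Y.IdealSheafData} (hD : BlowUp.IsEffCartierIdeal D) (n : ℕ) :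
    dcl (D ^ n) (isEff_pow hD n) = dcl D hD ^ n := by
  induction n with
  | zero =>
    exact ((dcl_congr (pow_zero D) _).trans dcl_top).trans (pow_zero (dcl D hD)).symm
  | succ n ih =>
    refine (dcl_congr (pow_succ D n) _).trans ?_
    rw [pow_succ (dcl D hD), ← ih, ← dcl_mul]

variable {K : Type u} [Field K] {X : Scheme.{u}} [X.Over (Spec (CommRingCat.of K))]

variable (K X) in
/-- A smooth proper curve of genus `g` over a field with only constant global functions. -/
structure Curve (g : ℕ) : Prop where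
  isCurve : IsCurve K X
  genus : Curv2.genus K X = g

namespace Curve

variable {g : ℕ} (hX : Curve K X g)

include hX

theorem proper : IsProper (X ↘ Spec (CommRingCat.of K)) := hX.isCurve.proper

theorem smooth : Smooth (X ↘ Spec (CommRingCat.of K)) := hX.isCurve.smooth

theorem dim : topologicalKrullDim X = 1 := hX.isCurve.dim

theorem integral : IsIntegral X := hX.isCurve.integral

theorem isNormal (x : X) : IsIntegrallyClosed (X.presheaf.stalk x) := by
  have h2 := hX.smooth
  have h5 := hX.integral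
  by_cases hx : x = genericPoint X
  · subst hx
    exact (inferInstance : IsIntegrallyClosed X.functionField)
  · have h6 := CurvesA.CurveDvr.isDiscreteValuationRing_stalk (X ↘ Spec (CommRingCat.of K)) hX.dim.le x hx
    infer_instance

theorem isIntegrallyClosed (U : X.Opens) [Nonempty U] : IsIntegrallyClosed Γ(X, U) := by
  have h5 := hX.integral
  have h6 : Pi1.IsNormalScheme U.toScheme := by
    intro p
    have h7 : IsIntegrallyClosed (X.presheaf.stalk p.1) := hX.isNormal p.1
    refine ⟨inferInstance, ?_⟩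
    exact IsIntegrallyClosed.of_equiv (U.stalkIso p).symm.commRingCatIsoToRingEquiv
  have h7 := S2102.result U.toScheme h6
  exact IsIntegrallyClosed.of_equiv U.topIso.commRingCatIsoToRingEquiv

end Curve

section point

variable {g : ℕ} (hX : Curve K X g) (x : KPt K X)

include hX

theorem isClosedImmersion : IsClosedImmersion x.1 := by
  have := hX.proper
  have : IsClosedImmersion (x.1 ≫ (X ↘ Spec (CommRingCat.of K))) := by rw [x.2]; infer_instance
  exact IsClosedImmersion.of_comp _ (X ↘ Spec (CommRingCat.of K))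

theorem notMem_cU {y : X} : y ∉ cU x.1.ker ↔ y = pnt x := by
  have h1 := isClosedImmersion hX x
  have h2 : (x.1.ker.support : Set X) = Set.range x.1 := by
    rw [Scheme.Hom.support_ker, x.1.isClosedEmbedding.isClosed_range.closure_eq]
  rw [mem_cU, not_not]
  change y ∈ (x.1.ker.support : Set X) ↔ _
  rw [h2]
  constructor
  · rintro ⟨p, rfl⟩
    exact apply_eq_pnt x p
  · rintro rfl
    exact ⟨_, rfl⟩

theorem isEff : BlowUp.IsEffCartierIdeal x.1.ker := K532.CurvePts.isEff hX.isCurve x

theorem nonempty_cU : Nonempty (cU x.1.ker) := by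
  have h1 := hX.integral
  by_contra hcon
  have h2 : ∀ y : X, y = pnt x := by
    intro y
    by_contra hy
    exact hcon ⟨⟨y, by by_contra h3; exact hy ((notMem_cU hX x).1 h3)⟩⟩
  have h3 : Subsingleton X := ⟨fun a b => (h2 a).trans (h2 b).symm⟩
  have h4 := hX.dim
  have h5 : topologicalKrullDim X = 0 := by
    have : Nonempty X := ⟨pnt x⟩
    have h6 : topologicalKrullDim X ≤ 0 := topologicalKrullDim_zero_of_discreteTopology X
    refine le_antisymm h6 ?_
    rw [h4]
    norm_num
  rw [h4] at h5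
  norm_num at h5

/-- A local equation of the point generates a prime ideal. -/
theorem exists_prime : ∃ (V : X.Opens) (z : Γ(X, V)), pnt x ∈ V ∧ IsEqn x.1.ker V z ∧ (Ideal.span {z}).IsPrime := by
  have h1 := isClosedImmersion hX x
  obtain ⟨V, z, hV, -, hz⟩ := exists_isEqn (isEff hX x) (pnt x) ⊤ trivial
  refine ⟨V, z, hV, hz, ?_⟩
  rw [← hz.eqn, Scheme.Hom.ker_apply]
  have h2 : Nonempty (x.1 ⁻¹ᵁ V : (Spec (CommRingCat.of K)).Opens) := ⟨⟨IsLocalRing.closedPoint K, hV⟩⟩
  have h3 : IsDomain Γ(Spec (CommRingCat.of K), x.1 ⁻¹ᵁ V) := inferInstance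
  exact RingHom.ker_isPrime _

omit hX in
theorem poleOn_of_unit {n : ℕ} (a : Γ(X, cU x.1.ker)) {V : X.Opens} {f : Γ(X, V)} (hV : V ≤ cU x.1.ker) :
    PoleOn n a V f := by
  refine ⟨f ^ n * ores hV a, ?_⟩
  rw [map_mul, map_pow, ores_ores]

variable {V : X.Opens} {z : Γ(X, V)} (hV : pnt x ∈ V) (hz : IsEqn x.1.ker V z)

include hV hz in
/-- The pole order is read off at the point. -/
theorem hasPole_of_poleOn {n : ℕ} {a : Γ(X, cU x.1.ker)} (h : PoleOn n a V z) : HasPole x.1.ker n a := by
  refine hasPole_of_local (isEff hX x) fun y => ?_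
  by_cases hy : y ∈ cU x.1.ker
  · obtain ⟨W, f, hyW, hW, hf⟩ := exists_isEqn (isEff hX x) y (cU x.1.ker) hy
    exact ⟨W, f, hyW, hf, poleOn_of_unit x a hW⟩
  · rw [(notMem_cU hX x).1 hy]
    exact ⟨V, z, hV, hz, h⟩

include hV hz in
theorem notMem_span {r : ℕ} {a : Γ(X, cU x.1.ker)} (ha : ¬ HasPole x.1.ker r a) {b : Γ(X, V)}
    (hb : ores (inf_le_left : V ⊓ cU x.1.ker ≤ V) b =
    ores (inf_le_left : V ⊓ cU x.1.ker ≤ V) z ^ (r + 1) * ores (inf_le_right : V ⊓ cU x.1.ker ≤ cU x.1.ker) a) :
    b ∉ Ideal.span {z} := by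
  intro hcon
  obtain ⟨c, rfl⟩ := Ideal.mem_span_singleton'.1 hcon
  apply ha
  refine hasPole_of_poleOn hX x hV hz ⟨c, ?_⟩
  have h1 := hz.isUnit_res
  apply h1.mul_right_cancel
  rw [← map_mul, hb, pow_succ]
  ring

theorem mul_notMem (m n : ℕ) (a b : Γ(X, cU x.1.ker)) (ha : ¬ HasPole x.1.ker m a) (hb : ¬ HasPole x.1.ker n b) :
    ¬ HasPole x.1.ker (m + n + 1) (a * b) := by
  have hpr := hX.proper
  have hcs : CompactSpace X := QuasiCompact.compactSpace_of_compactSpace (X ↘ Spec (CommRingCat.of K))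
  have key : ∀ (m : ℕ) (a : Γ(X, cU x.1.ker)), ¬ HasPole x.1.ker m a → ∃ r, m ≤ r ∧ ¬ HasPole x.1.ker r a ∧
      HasPole x.1.ker (r + 1) a := by
    classical
    intro m a ha
    have hex := exists_hasPole (isEff hX x) a
    have h1 := Nat.find_spec hex
    have h2 : m < Nat.find hex := by
      by_contra hcon
      push Not at hcon
      exact ha (h1.mono hcon)
    refine ⟨Nat.find hex - 1, by omega, ?_, ?_⟩
    · exact Nat.find_min hex (by omega)
    · rw [Nat.sub_add_cancel (by omega)]
      exact h1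
  obtain ⟨V, z, hV, hz, hp⟩ := exists_prime hX x
  obtain ⟨r, hr, hr1, hr2⟩ := key m a ha
  obtain ⟨s, hs, hs1, hs2⟩ := key n b hb
  obtain ⟨c, hc⟩ := hr2 V z hz
  obtain ⟨d, hd⟩ := hs2 V z hz
  have h1 := notMem_span hX x hV hz hr1 hc
  have h2 := notMem_span hX x hV hz hs1 hd
  intro hcon
  obtain ⟨e, he⟩ := hcon V z hz
  have h3 : c * d = z ^ (r + s + 1 - (m + n)) * e := by
    apply hz.injective_res
    rw [map_mul, map_mul, hc, hd, he, map_pow, map_mul]
    have h4 : r + s + 2 = (r + s + 1 - (m + n)) + (m + n + 1) := by omega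
    have h5 : ∀ t A B : Γ(X, V ⊓ cU x.1.ker), t ^ (r + 1) * A * (t ^ (s + 1) * B) = t ^ (r + s + 2) * (A * B) := by
      intro t A B; ring
    rw [h5, h4, pow_add]
    ring
  have h6 : c * d ∈ Ideal.span {z} := by
    rw [h3]
    refine Ideal.mul_mem_right _ _ (Ideal.pow_mem_of_mem _ (Ideal.mem_span_singleton_self z) _ (by omega))
  rcases hp.mem_or_mem h6 with h7 | h7
  · exact h1 h7
  · exact h2 h7

theorem exists_sheaf (n : ℕ) : ∃ (M : X.Modules) (hM : PicF.IsInvertible M) (s : Γ(M, ⊤)),
    IsZeroIdeal M s (x.1.ker ^ n) ∧ deg K X (mk M hM) = n := by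
  obtain ⟨M, hM, s, hs⟩ := exists_section_of_isEffCartier (isEff_pow (isEff hX x) n)
  refine ⟨M, hM, s, hs, ?_⟩
  rw [mk_eq_inv_dcl hM s hs (isEff_pow (isEff hX x) n), dcl_pow (isEff hX x), deg_inv hX.isCurve,
    deg_pow hX.isCurve, show deg K X (dcl x.1.ker (isEff hX x)) = -1 from deg_pcl hX.isCurve x]
  ring

end point

section genusOne

variable (hX : Curve K X 1)

include hX

/-- Classes of positive degree on a curve of genus one. -/
theorem h1_eq_zero {c : Pic X} (hc : 0 < deg K X c) : h K X 1 c = 0 := by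
  rw [serre hX.isCurve]
  apply h0_eq_zero_of_deg_neg hX.isCurve
  have h1 : (gen K X : ℤ) = 1 := by
    have := hX.genus
    exact_mod_cast this
  rw [deg_mul hX.isCurve, deg_inv hX.isCurve, deg_om hX.isCurve, h1]
  omega

theorem h0_eq_deg {c : Pic X} (hc : 0 < deg K X c) : (h K X 0 c : ℤ) = deg K X c := by
  have h1 : (gen K X : ℤ) = 1 := by
    have := hX.genus
    exact_mod_cast this
  have h2 := rr hX.isCurve c
  rw [h1_eq_zero hX hc, h1] at h2
  push_cast at h2
  omega

variable (x : KPt K X)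

/-- **The pole filtration.** -/
theorem ellFilt : letI := hX.integral; letI := nonempty_cU hX x
    letI : IsDomain (Fn K x.1.ker) := inferInstanceAs (IsDomain Γ(X, cU x.1.ker))
    EllFilt (poles K x.1.ker) := by
  have hpr := hX.proper
  have hcs : CompactSpace X := QuasiCompact.compactSpace_of_compactSpace (X ↘ Spec (CommRingCat.of K))
  have hI := isEff hX x
  let _ := hX.integral
  let _ := nonempty_cU hX x
  let _ : IsDomain (Fn K x.1.ker) := inferInstanceAs (IsDomain Γ(X, cU x.1.ker))
  refine ⟨one_mem_poles, poles_mono, fun ha hb => mul_mem_poles ha hb, exists_mem_poles hI, ?_, ?_, ?_⟩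
  · intro m
    obtain ⟨M, hM, s, hs, -⟩ := exists_sheaf hX x m
    obtain ⟨e, -⟩ := exists_linearEquiv (R := K) hI hM hs
    have := finite_HH hX.isCurve hM 0
    exact Module.Finite.equiv e.symm
  · intro m hm
    obtain ⟨M, hM, s, hs, hd⟩ := exists_sheaf hX x m
    obtain ⟨e, -⟩ := exists_linearEquiv (R := K) hI hM hs
    rw [e.finrank_eq, ← h_mk K X 0 hM]
    have := h0_eq_deg hX (c := mk M hM) (by rw [hd]; exact_mod_cast hm)
    rw [hd] at this
    exact_mod_cast this
  · intro m n a b ha hb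
    exact mul_notMem hX x m n a b ha hb

end genusOne

end K664.FieldFilt
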