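import Groth.Agent.S0007
import Groth.Agent.VarietyA.EulerFinite
import Groth.Agent.CurvesC.CurveNum
import Groth.Agent.VarietyB.HHPush
import Groth.Agent.VarietyB.DegCartier
import Groth.Agent.Etcore.FibreDeg
import Groth.Agent.Picfga.SecGraph
import Groth.Agent.S1184
import Groth.Agent.S1524
import Groth.Agent.Dix.IdealModCartier
import Groth.Agent.Fga.JacSum
import Groth.Prelude.Def_Mor2

/-!
# The class of the graph of a correspondence of degree `n`

`f₀ : C₀ ⟶ Spec k` smooth separated of relative dimension one, `π : C₁ ⟶ C₀` finite locally free of degree `n`,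
`r : T ⟶ C₀` over `k`.
* `ker_map`: the ideal of `T ×_{C₀} C₁ ⊂ T ×_k C₁` is the inverse image of the ideal of the diagonal.
* `gid`: this ideal on `C₁ ×_k T`; it is finite locally free of degree `n` over `T` (`finloc_gid`), effective Cartier
  (`isEff_gid`), its class is `gcls`, compatible with base change, of degree `-n` on the fibres (`fdeg_gcls`).
-/

set_option autoImplicit false
universe u
open CategoryTheory CategoryTheory.Limits AlgebraicGeometry

namespace K664.GraphCl

open Groth.Agent Groth.Agent.Grpsch.PicGrp Groth.Agent.Etcore.DegZero Groth.Agent.Etcore.FibreDeg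
open Groth.Agent.Fga.JacSum

section general

variable {S C₀ C₁ C : Scheme.{u}}

theorem isPullback_map (r : C ⟶ C₀) (π : C₁ ⟶ C₀) (f₀ : C₀ ⟶ S) (fC : C ⟶ S) (f₁ : C₁ ⟶ S)
    (hr : r ≫ f₀ = fC) (hπ : π ≫ f₀ = f₁) :
    IsPullback (pullback.fst r π ≫ r)
      (pullback.map r π fC f₁ (𝟙 C) (𝟙 C₁) f₀ (hr.trans (Category.id_comp _).symm)
        (hπ.trans (Category.id_comp _).symm)) (pullback.diagonal f₀)
      (pullback.map fC f₁ f₀ f₀ r π (𝟙 S) (by rw [Category.comp_id, hr]) (by rw [Category.comp_id, hπ])) := by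
  subst hr hπ
  exact pullback_map_diagonal_isPullback r π f₀

/-- The ideal of `C ×_{C₀} C₁` in `C ×_S C₁`. -/
theorem ker_map (r : C ⟶ C₀) (π : C₁ ⟶ C₀) (f₀ : C₀ ⟶ S) [IsSeparated f₀] (fC : C ⟶ S) (f₁ : C₁ ⟶ S)
    (hr : r ≫ f₀ = fC) (hπ : π ≫ f₀ = f₁) :
    (pullback.map r π fC f₁ (𝟙 C) (𝟙 C₁) f₀ (hr.trans (Category.id_comp _).symm)
      (hπ.trans (Category.id_comp _).symm)).ker =
      (pullback.diagonal f₀).ker.comap (pullback.map fC f₁ f₀ f₀ r π (𝟙 S) (by rw [Category.comp_id, hr])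
        (by rw [Category.comp_id, hπ])) :=
  Picfga.SecGraph.ker_eq_comap_of_isPullback (isPullback_map r π f₀ fC f₁ hr hπ)

/-- The diagonal is invariant under the exchange of the factors. -/
theorem diag_swap (f₀ : C₀ ⟶ S) [IsSeparated f₀] :
    (pullback.diagonal f₀).ker.comap (pullbackSymmetry f₀ f₀).hom = (pullback.diagonal f₀).ker := by
  refine (Picfga.SecGraph.ker_eq_comap_of_isPullback (fst := 𝟙 C₀) ?_).symm
  refine IsPullback.of_horiz_isIso ⟨?_⟩
  rw [Category.id_comp]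
  apply pullback.hom_ext
  · rw [Category.assoc, pullbackSymmetry_hom_comp_fst, pullback.diagonal_fst, pullback.diagonal_snd]
  · rw [Category.assoc, pullbackSymmetry_hom_comp_snd, pullback.diagonal_fst, pullback.diagonal_snd]

end general

section degree

section Finite

variable (K : Type u) [Field K] (Z : Scheme.{u}) [Z.Over (Spec (CommRingCat.of K))]

/-- The structure map, as a map to global functions. -/
noncomputable def glob : K →+* Γ(Z, ⊤) := Coh.toGlobal (Z ↘ Spec (CommRingCat.of K))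

theorem structure_eq [IsAffine Z] : (Z ↘ Spec (CommRingCat.of K)) =
    Z.isoSpec.hom ≫ Spec.map (CommRingCat.ofHom (glob K Z)) := by
  have h := Scheme.isoSpec_hom_naturality (Z ↘ Spec (CommRingCat.of K))
  have h2 : (Spec (CommRingCat.of K)).isoSpec.hom = Spec.map (Scheme.ΓSpecIso (CommRingCat.of K)).hom := by
    exact Scheme.isoSpec_Spec_hom _
  have h3 : CommRingCat.ofHom (glob K Z) =
    (Scheme.ΓSpecIso (CommRingCat.of K)).inv ≫ (Z ↘ Spec (CommRingCat.of K)).appTop := rfl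
  rw [h3, Spec.map_comp, ← Category.assoc, h, h2, Category.assoc, ← Spec.map_comp]
  simp

/-- The Euler characteristic of a finite scheme over a field is its degree. -/
theorem euler_finite {ℓ : ℕ} (h : Mor2.IsFinLocFreeOfDeg ℓ (Z ↘ Spec (CommRingCat.of K))) :
    Curv2.euler K Z (Coh.structureModule Z) = ℓ := by
  obtain ⟨⟨hfin, hflat, hfp⟩, hdeg⟩ := h
  have hZ : IsAffine Z := isAffine_of_isAffineHom (Z ↘ Spec (CommRingCat.of K))
  have hq : Coh.IsQCoh (Coh.structureModule Z) := Fdesc.StructMod.isQCoh_structureModule _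
  rw [VarietyA.EulerFinite.euler_eq_of_vanish K Z _ (fun i hi => by
    have := hq
    exact S0007.result Z (Coh.structureModule Z) i hi)]
  let : Module K (Coh.Γtop Z) := CurvesC.CurveNum.topMod K Z
  rw [(CurvesC.CurveNum.hZeroTop K Z).finrank_eq]
  norm_cast
  let : Algebra K Γ(Z, ⊤) := (glob K Z).toAlgebra
  have h1 : (Z ↘ Spec (CommRingCat.of K)) =
      Z.isoSpec.hom ≫ Spec.map (CommRingCat.ofHom (algebraMap K Γ(Z, ⊤))) := structure_eq K Z
  have h0 : IsFinite (Spec.map (CommRingCat.ofHom (algebraMap K Γ(Z, ⊤)))) := by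
    have h4 : Spec.map (CommRingCat.ofHom (algebraMap K Γ(Z, ⊤))) =
      Z.isoSpec.inv ≫ (Z ↘ Spec (CommRingCat.of K)) := by
      rw [h1, Iso.inv_hom_id_assoc]
    rw [h4]
    infer_instance
  have h2 : Module.Finite K Γ(Z, ⊤) := by
    have := (IsFinite.SpecMap_iff _).1 h0
    exact this
  obtain ⟨y⟩ : Nonempty (Spec (CommRingCat.of K)) := inferInstance
  have h3 := hdeg y
  rw [h1, Scheme.Hom.finrank_comp_left_of_isIso] at h3
  have h5 := Scheme.Hom.finrank_SpecMap_algebraMap K Γ(Z, ⊤) y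
  rw [Module.rankAtStalk_eq_finrank_of_free] at h5
  exact h5.symm.trans h3

end Finite

/-- The degree of the ideal of a finite closed subscheme of degree `ℓ` of a proper curve. -/
theorem dg_idealMod (K : Type u) [Field K] (Y : Scheme.{u}) [Y.Over (Spec (CommRingCat.of K))]
    [IsProper (Y ↘ Spec (CommRingCat.of K))] (hdim : topologicalKrullDim Y = 1) {ℓ : ℕ} (D : Y.IdealSheafData)
    (hD : Mor2.IsFinLocFreeOfDeg ℓ (D.subschemeι ≫ (Y ↘ Spec (CommRingCat.of K))))
    (hI : PicF.IsInvertible (ClSub.idealMod D)) :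
    dg K Y (mk (ClSub.idealMod D) hI) = - (ℓ : ℤ) := by
  have hN : IsLocallyNoetherian Y := LocallyOfFiniteType.isLocallyNoetherian (Y ↘ Spec (CommRingCat.of K))
  let _ : D.subscheme.Over (Spec (CommRingCat.of K)) := ⟨D.subschemeι ≫ (Y ↘ Spec (CommRingCat.of K))⟩
  have h1 : Curv2.euler K Y (ClSub.quotMod D) = ℓ :=
    (VarietyB.HHPush.euler_push D.subschemeι K rfl (Coh.structureModule D.subscheme)
      (Fdesc.StructMod.isQCoh_structureModule _)).trans (euler_finite K D.subscheme hD)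
  have h2 : Curv2.euler K Y (Coh.structureModule Y) = Curv2.euler K Y (ClSub.idealMod D) +
      Curv2.euler K Y (ClSub.quotMod D) :=
    S1524.result K Y (VarietyB.DegCartier.idealSeq D) (VarietyB.DegCartier.idealSeq_shortExact D)
      (VarietyB.DegCartier.isCoh_idealMod D) (CurvesB.UnitCoh.isCoh_structureModule Y)
      (VarietyB.DegCartier.isCoh_quotMod D)
  rw [dg_mk, eulerCharLE_eq K Y hdim, eulerCharLE_eq K Y hdim, h2, h1]
  ring

end degree

section finloc

variable {X Y S S' : Scheme.{u}} {p : X ⟶ S} {p' : Y ⟶ S'} {g : Y ⟶ X} {s : S' ⟶ S}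

/-- Base change of closed subschemes finite locally free of degree `n`. -/
theorem finloc_comap (h : IsPullback g p' p s) {n : ℕ} {I : X.IdealSheafData}
    (hI : Mor2.IsFinLocFreeOfDeg n (I.subschemeι ≫ p)) :
    Mor2.IsFinLocFreeOfDeg n ((I.comap g).subschemeι ≫ p') := by
  have h2 : (I.comap g).subschemeι = (I.comapIso g).hom ≫ pullback.fst _ _ :=
    (Scheme.IdealSheafData.comapIso_hom_fst _ _).symm
  rw [h2, Category.assoc]
  refine Picfga.HilbPull.isFinLocFreeOfDeg_comp_iso ?_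
  exact Picfga.HilbPull.isFinLocFreeOfDeg_of_isPullback
    ((IsPullback.of_hasPullback g I.subschemeι).flip.paste_vert h) hI

/-- Closed subschemes given by closed immersions. -/
theorem finloc_ker {Z : Scheme.{u}} (i : Z ⟶ X) [IsClosedImmersion i] {n : ℕ}
    (hI : Mor2.IsFinLocFreeOfDeg n (i ≫ p)) : Mor2.IsFinLocFreeOfDeg n (i.ker.subschemeι ≫ p) := by
  obtain ⟨e, he, h4⟩ := Picfga.SecGraph.exists_iso_ker_subscheme i
  rw [← h4, Category.assoc]
  exact Picfga.HilbPull.isFinLocFreeOfDeg_comp_iso hI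

end finloc

section fdeg

variable {k : Type u} [Field k] {C₁ : Scheme.{u}} (f₁ : C₁ ⟶ Spec (CommRingCat.of k))
  [SmoothOfRelativeDimension 1 f₁] [IsProper f₁] [GeometricallyIrreducible f₁]

/-- The degree on the fibres of the ideal of a closed subscheme finite locally free of degree `n` over the base. -/
theorem fdeg_idealMod (hdim : topologicalKrullDim C₁ = 1) {T : Over (Spec (CommRingCat.of k))} {n : ℕ}
    {I : (PicF.XT f₁ T).IdealSheafData} (hI : Mor2.IsFinLocFreeOfDeg n (I.subschemeι ≫ PicF.XTproj f₁ T))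
    (hinv : PicF.IsInvertible (ClSub.idealMod I)) (t : T.left) :
    fdeg f₁ T t (mk (ClSub.idealMod I) hinv) = - (n : ℤ) := by
  have hs : Smooth f₁ := SmoothOfRelativeDimension.smooth 1 f₁
  let _ : (FGA.fibreAt f₁ T t).left.Over (Spec (CommRingCat.of (T.left.residueField t))) :=
    ⟨(FGA.fibreAt f₁ T t).hom⟩
  have hp : IsProper ((FGA.fibreAt f₁ T t).left ↘ Spec (CommRingCat.of (T.left.residueField t))) :=
    isProper_fibre f₁ T t
  have hd := dim_fibre f₁ hdim T t
  have h0 := smoothOfRelDim_XTproj f₁ T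
  have hE : BlowUp.IsEffCartierIdeal I := ((Groth.Agent.S1184.result (PicF.XTproj f₁ T) I).2 hI.1).1
  have h1 : Mor2.IsFinLocFreeOfDeg n ((I.comap (fibι f₁ T t)).subschemeι ≫ (FGA.fibreAt f₁ T t).hom) :=
    finloc_comap (isPullback_fibι f₁ T t) hI
  have h3 : SmoothOfRelativeDimension 1 (FGA.fibreAt f₁ T t).hom := by
    have : MorphismProperty.IsStableUnderBaseChange (@SmoothOfRelativeDimension.{u} 1) :=
      smoothOfRelativeDimension_isStableUnderBaseChange 1
    exact MorphismProperty.of_isPullback (P := @SmoothOfRelativeDimension 1) (isPullback_fibι f₁ T t) ‹_›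
  have h4 : BlowUp.IsEffCartierIdeal (I.comap (fibι f₁ T t)) :=
    ((Groth.Agent.S1184.result (FGA.fibreAt f₁ T t).hom _).2 h1.1).1
  have h5 : pull (fibι f₁ T t) (mk (ClSub.idealMod I) hinv) = mk (ClSub.idealMod (I.comap (fibι f₁ T t)))
      (Dix.IdealModCartier.isInvertible_idealMod h4) := by
    rw [pull_mk, mk_eq_iff]
    exact Dix.IdealModCartier.pullback_idealMod _ hE h4
  rw [fdeg, h5]
  exact dg_idealMod _ _ hd _ h1 _

end fdeg

section curve

variable {k : Type u} [Field k] {C₀ C₁ : Scheme.{u}} (f₀ : C₀ ⟶ Spec (CommRingCat.of k))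
  (π : C₁ ⟶ C₀) (f₁ : C₁ ⟶ Spec (CommRingCat.of k)) (hπ : π ≫ f₀ = f₁)

/-- The morphism `π × r`. -/
noncomputable abbrev pr {T : Over (Spec (CommRingCat.of k))} (r : Pt f₀ T) : PicF.XT f₁ T ⟶ pullback f₀ f₀ :=
  pullback.map f₁ T.hom f₀ f₀ π r.1 (𝟙 _) (by rw [Category.comp_id, hπ]) (by rw [Category.comp_id, r.2])

/-- The ideal of `C₁ ×_{C₀} T` in `C₁ ×_k T`. -/
noncomputable def gid {T : Over (Spec (CommRingCat.of k))} (r : Pt f₀ T) : (PicF.XT f₁ T).IdealSheafData :=
  (pullback.diagonal f₀).ker.comap (pr f₀ π f₁ hπ r)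

theorem comap_gid {T T' : Over (Spec (CommRingCat.of k))} (r : Pt f₀ T) (g : T' ⟶ T) :
    (gid f₀ π f₁ hπ r).comap (PicF.XTmap f₁ g) = gid f₀ π f₁ hπ (r.comp g) := by
  rw [gid, gid, ← Scheme.IdealSheafData.comap_comp]
  congr 1
  apply pullback.hom_ext
  · simp only [pr, Category.assoc, pullback.map, pullback.lift_fst, PicF.XTmap, pullback.lift_fst_assoc,
      Category.comp_id]
  · simp only [pr, Category.assoc, pullback.map, pullback.lift_snd, PicF.XTmap, pullback.lift_snd_assoc,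
      Pt.comp_coe]

variable {n : ℕ} (hn : Mor2.IsFinLocFreeOfDeg n π) [IsSeparated f₀]

include hn in
theorem finloc_gid {T : Over (Spec (CommRingCat.of k))} (r : Pt f₀ T) :
    Mor2.IsFinLocFreeOfDeg n ((gid f₀ π f₁ hπ r).subschemeι ≫ PicF.XTproj f₁ T) := by
  have h1 := ker_map π r.1 f₀ f₁ T.hom hπ r.2
  have h2 := isPullback_map π r.1 f₀ f₁ T.hom hπ r.2
  have h3 : IsClosedImmersion (pullback.map π r.1 f₁ T.hom (𝟙 C₁) (𝟙 T.left) f₀ (hπ.trans (Category.id_comp _).symm)
        (r.2.trans (Category.id_comp _).symm)) :=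
    MorphismProperty.of_isPullback (P := @IsClosedImmersion) h2 inferInstance
  have h5 : gid f₀ π f₁ hπ r = _ := h1.symm
  rw [h5]
  have h6 : pullback.map π r.1 f₁ T.hom (𝟙 C₁) (𝟙 T.left) f₀ (hπ.trans (Category.id_comp _).symm)
        (r.2.trans (Category.id_comp _).symm) ≫ PicF.XTproj f₁ T = pullback.snd π r.1 :=
    (pullback.lift_snd _ _ _).trans (Category.comp_id _)
  refine finloc_ker _ ?_
  rw [h6]
  exact Picfga.HilbPull.isFinLocFreeOfDeg_of_isPullback (IsPullback.of_hasPullback π r.1) hn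

variable [SmoothOfRelativeDimension 1 f₀]

theorem isEff_diag : BlowUp.IsEffCartierIdeal (pullback.diagonal f₀).ker :=
  isEff_secGraph f₀ (T := Over.mk f₀) ⟨𝟙 C₀, Category.id_comp _⟩

/-- The class of the ideal of the diagonal. -/
noncomputable def dcls : Pic (pullback f₀ f₀) :=
  mk (ClSub.idealMod (pullback.diagonal f₀).ker) (Dix.IdealModCartier.isInvertible_idealMod (isEff_diag f₀))

variable [SmoothOfRelativeDimension 1 f₁]

include hn in
omit [SmoothOfRelativeDimension 1 f₀] in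
theorem isEff_gid {T : Over (Spec (CommRingCat.of k))} (r : Pt f₀ T) :
    BlowUp.IsEffCartierIdeal (gid f₀ π f₁ hπ r) :=
  have := smoothOfRelDim_XTproj f₁ T
  ((Groth.Agent.S1184.result (PicF.XTproj f₁ T) (gid f₀ π f₁ hπ r)).2 (finloc_gid f₀ π f₁ hπ hn r).1).1

/-- The class of the ideal of `C₁ ×_{C₀} T`. -/
noncomputable def gcls {T : Over (Spec (CommRingCat.of k))} (r : Pt f₀ T) : Pic (PicF.XT f₁ T) :=
  mk (ClSub.idealMod (gid f₀ π f₁ hπ r)) (Dix.IdealModCartier.isInvertible_idealMod (isEff_gid f₀ π f₁ hπ hn r))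

omit [SmoothOfRelativeDimension 1 f₀] in
theorem pull_gcls {T T' : Over (Spec (CommRingCat.of k))} (r : Pt f₀ T) (g : T' ⟶ T) :
    pull (PicF.XTmap f₁ g) (gcls f₀ π f₁ hπ hn r) = gcls f₀ π f₁ hπ hn (r.comp g) := by
  have h1 := comap_gid f₀ π f₁ hπ r g
  rw [gcls, gcls, pull_mk, mk_eq_iff]
  have h2 := Dix.IdealModCartier.pullback_idealMod (PicF.XTmap f₁ g) (isEff_gid f₀ π f₁ hπ hn r)
    (by rw [h1]; exact isEff_gid f₀ π f₁ hπ hn (r.comp g))
  rwa [h1] at h2

theorem pull_dcls {T : Over (Spec (CommRingCat.of k))} (r : Pt f₀ T) :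
    pull (pr f₀ π f₁ hπ r) (dcls f₀) = gcls f₀ π f₁ hπ hn r := by
  rw [gcls, dcls, pull_mk, mk_eq_iff]
  exact Dix.IdealModCartier.pullback_idealMod (pr f₀ π f₁ hπ r) (isEff_diag f₀) (isEff_gid f₀ π f₁ hπ hn r)

omit [SmoothOfRelativeDimension 1 f₀] in
/-- The degree of the class of the graph on the fibres. -/
theorem fdeg_gcls [IsProper f₁] [GeometricallyIrreducible f₁] (hdim : topologicalKrullDim C₁ = 1)
    {T : Over (Spec (CommRingCat.of k))} (r : Pt f₀ T) (t : T.left) :
    fdeg f₁ T t (gcls f₀ π f₁ hπ hn r) = - (n : ℤ) :=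
  fdeg_idealMod f₁ hdim (finloc_gid f₀ π f₁ hπ hn r) _ t

end curve

end K664.GraphCl
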