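import Groth.Agent.Coherent.K55.Pack
import Mathlib.LinearAlgebra.TensorProduct.Quotient
import Mathlib.RingTheory.Nakayama

/-!
# Cohomology and base change over a local ring, degree zero

`exists_bc`: `X` proper over a local Noetherian ring `A`, `F` flat over `A` without higher cohomology on the closed
fibre.  Then `H⁰(X, F)` restricts onto `H⁰` of the closed fibre with kernel `𝔪 H⁰(X, F)`, and generates `H⁰` of all
base changes.
-/

set_option autoImplicit false
universe u

open CategoryTheory CategoryTheory.Limits AlgebraicGeometry TensorProduct IsLocalRing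

namespace K664.LocBC

open Groth.Agent K55 K55.Pack K55.KerAlg

section alg

variable {A : Type u} [CommRing A]

theorem mem_smul_of_eq_zero {B : Type u} [CommRing B] [Algebra A B] (hs : Function.Surjective (algebraMap A B))
    {M N : Type u} [AddCommGroup M] [Module A M] [AddCommMonoid N] [Module A N] [Module B N] [IsScalarTower A B N]
    (f : M →ₗ[A] N) (h : IsBaseChange B f) {z : M} (hz : f z = 0) :
    z ∈ RingHom.ker (algebraMap A B) • (⊤ : Submodule A M) := by
  have h1 : (1 : B) ⊗ₜ[A] z = 0 := by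
    apply h.equiv.injective
    rw [IsBaseChange.equiv_tmul, one_smul, hz, map_zero]
  let e : (A ⧸ RingHom.ker (algebraMap A B)) ≃ₐ[A] B :=
    Ideal.quotientKerAlgEquivOfSurjective (f := Algebra.ofId A B) hs
  have h2 : (1 : A ⧸ RingHom.ker (algebraMap A B)) ⊗ₜ[A] z = 0 := by
    have h3 := congrArg (LinearMap.rTensor M e.symm.toLinearMap) h1
    rw [LinearMap.rTensor_tmul, map_zero] at h3
    have h4 : e.symm.toLinearMap 1 = (1 : A ⧸ RingHom.ker (algebraMap A B)) := map_one e.symm
    rwa [h4] at h3
  have h5 := congrArg (TensorProduct.quotTensorEquivQuotSMul M (RingHom.ker (algebraMap A B))) h2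
  rw [map_zero, show (1 : A ⧸ RingHom.ker (algebraMap A B)) = Ideal.Quotient.mk _ 1 from rfl,
    TensorProduct.quotTensorEquivQuotSMul_mk_tmul, one_smul, Submodule.Quotient.mk_eq_zero] at h5
  exact h5

theorem surjective_of_isBaseChange {B : Type u} [CommRing B] [Algebra A B] (hs : Function.Surjective (algebraMap A B))
    {M N : Type u} [AddCommMonoid M] [Module A M] [AddCommMonoid N] [Module A N] [Module B N] [IsScalarTower A B N]
    (f : M →ₗ[A] N) (h : IsBaseChange B f) : Function.Surjective f := by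
  intro y
  obtain ⟨t, rfl⟩ := h.equiv.surjective y
  induction t with
  | zero => exact ⟨0, by rw [map_zero, map_zero]⟩
  | add x y hx hy =>
    obtain ⟨a, ha⟩ := hx
    obtain ⟨b, hb⟩ := hy
    exact ⟨a + b, by rw [map_add, map_add, ha, hb]⟩
  | tmul b z =>
    obtain ⟨a, rfl⟩ := hs b
    exact ⟨a • z, by rw [IsBaseChange.equiv_tmul, map_smul, algebraMap_smul]⟩

theorem span_of_isBaseChange {B : Type u} [CommRing B] [Algebra A B]
    {M N : Type u} [AddCommMonoid M] [Module A M] [AddCommMonoid N] [Module A N] [Module B N] [IsScalarTower A B N]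
    (f : M →ₗ[A] N) (h : IsBaseChange B f) : Submodule.span B (Set.range f) = ⊤ := by
  rw [eq_top_iff]
  rintro y -
  obtain ⟨t, rfl⟩ := h.equiv.surjective y
  induction t with
  | zero => rw [map_zero]; exact Submodule.zero_mem _
  | add x y hx hy => rw [map_add]; exact Submodule.add_mem _ hx hy
  | tmul b z =>
    rw [IsBaseChange.equiv_tmul]
    exact Submodule.smul_mem _ _ (Submodule.subset_span ⟨z, rfl⟩)

section ker

variable {O Q : Type u} [AddCommGroup O] [AddCommGroup Q] [Module A O] [Module A Q] (u : O →ₗ[A] Q)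
  (B : Type u) [CommRing B] [Algebra A B] (h : IsBaseChange B (kres u B))

include h in
theorem kres_mem (hs : Function.Surjective (algebraMap A B)) {z : LinearMap.ker u} (hz : kres u B z = 0) :
    z ∈ RingHom.ker (algebraMap A B) • (⊤ : Submodule A (LinearMap.ker u)) :=
  mem_smul_of_eq_zero (N := LinearMap.ker (u.baseChange B)) hs (kres u B) h hz

include h in
theorem kres_surj (hs : Function.Surjective (algebraMap A B)) : Function.Surjective (kres u B) :=
  surjective_of_isBaseChange hs (kres u B) h

include h in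
theorem kres_span : Submodule.span B (Set.range (kres u B)) = ⊤ :=
  span_of_isBaseChange (kres u B) h

section loc

variable [IsLocalRing A] [IsNoetherianRing A] (κ : Type u) [Field κ] [Algebra A κ]

omit [IsNoetherianRing A] in
theorem ker_eq_maximalIdeal (hs : Function.Surjective (algebraMap A κ)) :
    RingHom.ker (algebraMap A κ) = maximalIdeal A :=
  IsLocalRing.eq_maximalIdeal (RingHom.ker_isMaximal_of_surjective _ hs)

theorem injective_of_bc (hs : Function.Surjective (algebraMap A κ)) [Module.Finite A O]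
    (h : IsBaseChange κ (kres u κ)) (h0 : Subsingleton (LinearMap.ker (u.baseChange κ))) : Function.Injective u := by
  have h5 : Module.Finite A (LinearMap.ker u) := inferInstance
  have h6 : (⊤ : Submodule A (LinearMap.ker u)) = ⊥ := by
    refine Submodule.eq_bot_of_le_smul_of_le_jacobson_bot (maximalIdeal A) ⊤ Module.Finite.fg_top ?_
      (IsLocalRing.maximalIdeal_le_jacobson _)
    intro z _
    rw [← ker_eq_maximalIdeal κ hs]
    exact kres_mem u κ h hs (Subsingleton.elim _ _)
  rw [← LinearMap.ker_eq_bot, Submodule.eq_bot_iff]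
  intro x hx
  have h8 : (⟨x, hx⟩ : LinearMap.ker u) ∈ (⊤ : Submodule A (LinearMap.ker u)) := trivial
  rw [h6, Submodule.mem_bot] at h8
  exact congrArg Subtype.val h8

variable {C : Type u} [AddCommGroup C] [Module A C] {π : Q →ₗ[A] C}

theorem flat_step (hex : Function.Exact u π) (hπ : Function.Surjective π) (hs : Function.Surjective (algebraMap A κ))
    [Module.Finite A O] [Module.Flat A Q] [Module.Flat A C] (h0 : Subsingleton (LinearMap.ker (u.baseChange κ))) :
    Module.Flat A O := by
  have h3 := isBaseChange_kres_of_flat κ hex hπ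
  have h7 := injective_of_bc u κ hs h3 h0
  have h9 := flat_range hex hπ
  exact Module.Flat.of_linearEquiv (LinearEquiv.ofInjective u h7)

theorem free_ker (hex : Function.Exact u π) (hπ : Function.Surjective π) [Module.Finite A O] [Module.Projective A O]
    [Module.Flat A Q] [Module.Flat A C] : Module.Free A (LinearMap.ker u) := by
  have h3 := flat_range hex hπ
  have h5 : Module.Free A (LinearMap.range u) := Module.free_of_flat_of_isLocalRing
  have hsur : LinearMap.range u.rangeRestrict = ⊤ := LinearMap.range_rangeRestrict _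
  obtain ⟨g, hg⟩ := u.rangeRestrict.exists_rightInverse_of_surjective hsur
  have hg' : ∀ y, u.rangeRestrict (g y) = y := fun y => LinearMap.congr_fun hg y
  let s : O →ₗ[A] LinearMap.ker u := LinearMap.codRestrict _ (LinearMap.id - g ∘ₗ u.rangeRestrict) (fun x => by
    rw [LinearMap.mem_ker, LinearMap.sub_apply, LinearMap.id_apply, LinearMap.comp_apply, map_sub]
    have := congrArg Subtype.val (hg' (u.rangeRestrict x))
    change u (g (u.rangeRestrict x)) = u x at this
    rw [this, sub_self])
  have h6 : s ∘ₗ (LinearMap.ker u).subtype = LinearMap.id := by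
    ext x
    change ((x : O) - g (u.rangeRestrict x)) = (x : O)
    have h7 : u.rangeRestrict (x : O) = 0 := Subtype.ext (LinearMap.mem_ker.1 x.2)
    rw [h7, map_zero, sub_zero]
  have h8 : Module.Projective A (LinearMap.ker u) := Module.Projective.of_split _ s h6
  have h9 : Module.Finite A (LinearMap.ker u) := inferInstance
  exact Module.free_of_flat_of_isLocalRing

omit [IsLocalRing A] [IsNoetherianRing A] in
theorem finrank_ker [Module.Free A (LinearMap.ker u)] (h : IsBaseChange κ (kres u κ)) [Nontrivial A] :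
    Module.finrank κ (LinearMap.ker (u.baseChange κ)) = Module.finrank A (LinearMap.ker u) := by
  rw [← h.equiv.finrank_eq, Module.finrank_baseChange]

end loc

end ker

section data

variable [IsLocalRing A] [IsNoetherianRing A] (K : CxData A) (κ : Type u) [Field κ] [Algebra A κ]

omit [IsLocalRing A] in
theorem finite_H (p : ℕ) : Module.Finite A (K.H p) := by
  have := K.fpO p
  have : Module.Finite A (K.O p) := inferInstance
  infer_instance

theorem flat_O (hs : Function.Surjective (algebraMap A κ)) (hv : ∀ p, 1 ≤ p → Subsingleton (K.HB p κ)) (p : ℕ)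
    (hp : 1 ≤ p) : Module.Flat A (K.O p) := by
  obtain ⟨N, hN⟩ := K.bound
  have key : ∀ m p : ℕ, 1 ≤ p → N ≤ p + m → Module.Flat A (K.O p) := by
    intro m
    induction m with
    | zero =>
      intro p _ h
      have := hN p h
      infer_instance
    | succ m ih =>
      intro p hp h
      have h1 : Module.Flat A (K.O (p + 1)) := ih (p + 1) (by omega) (by omega)
      have h2 : Module.Flat A (K.Q p) := inferInstance
      have h3 : Module.Finite A (K.O p) := inferInstance
      exact flat_step (K.u p) κ (K.exact p) (K.surj p) hs (hv p hp)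
  exact key N p hp (by omega)

theorem isBaseChange_res (hs : Function.Surjective (algebraMap A κ)) (hv : ∀ p, 1 ≤ p → Subsingleton (K.HB p κ))
    (B : Type u) [CommRing B] [Algebra A B] : IsBaseChange B (K.res 0 B) := by
  have h1 := flat_O K κ hs hv 1 le_rfl
  have h2 : Module.Flat A (K.Q 0) := inferInstance
  exact isBaseChange_kres_of_flat B (K.exact 0) (K.surj 0)

theorem free_H (hs : Function.Surjective (algebraMap A κ)) (hv : ∀ p, 1 ≤ p → Subsingleton (K.HB p κ)) :
    Module.Free A (K.H 0) := by
  have h1 := flat_O K κ hs hv 1 le_rfl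
  have h2 : Module.Flat A (K.Q 0) := inferInstance
  have h4 : Module.Finite A (K.O 0) := inferInstance
  have := K.projO
  exact free_ker (K.u 0) (K.exact 0) (K.surj 0)

theorem finrank_HB (hs : Function.Surjective (algebraMap A κ)) (hv : ∀ p, 1 ≤ p → Subsingleton (K.HB p κ))
    (B : Type u) [Field B] [Algebra A B] : Module.finrank B (K.HB 0 B) = Module.finrank A (K.H 0) := by
  have h1 := free_H K κ hs hv
  exact finrank_ker (K.u 0) B (isBaseChange_res K κ hs hv B)

end data

end alg

section geom

variable {A : Type u} [CommRing A] [IsLocalRing A] [IsNoetherianRing A] (κ : Type u) [Field κ] [Algebra A κ]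
  {X : Scheme.{u}} [X.Over (Spec (CommRingCat.of A))]

/-- **Cohomology and base change over a local ring.** -/
theorem exists_bc (hs : Function.Surjective (algebraMap A κ))
    [IsProper (X ↘ Spec (CommRingCat.of A))] [LocallyOfFinitePresentation (X ↘ Spec (CommRingCat.of A))]
    (F : X.Modules) (hF : CohB1.IsFP F) (hfl : FlatMod.IsFlatOver (X ↘ Spec (CommRingCat.of A)) F)
    (X₀ : Scheme.{u}) [X₀.Over (Spec (CommRingCat.of κ))] (j₀ : X₀ ⟶ X)
    (H₀ : IsPullback j₀ (X₀ ↘ Spec (CommRingCat.of κ)) (X ↘ Spec (CommRingCat.of A))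
      (Spec.map (CommRingCat.ofHom (algebraMap A κ))))
    (hv : ∀ p, 1 ≤ p → Subsingleton (Coh.HH X₀ ((Scheme.Modules.pullback j₀).obj F) p)) :
    Module.Finite A (Coh.HH X F 0) ∧ Function.Surjective (CohPull.pullMod j₀ F 0) ∧
    (∀ x : Coh.HH X F 0, CohPull.pullMod j₀ F 0 x = 0 → x ∈ maximalIdeal A • (⊤ : Submodule A (Coh.HH X F 0))) ∧
    (∀ (B : Type u) [CommRing B] [Algebra A B] (X' : Scheme.{u}) [X'.Over (Spec (CommRingCat.of B))] (j : X' ⟶ X)
      (_ : IsPullback j (X' ↘ Spec (CommRingCat.of B)) (X ↘ Spec (CommRingCat.of A))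
        (Spec.map (CommRingCat.ofHom (algebraMap A B)))),
      Submodule.span B (Set.range (CohPull.pullMod j F 0)) = ⊤) ∧
    ∀ (B : Type u) [Field B] [Algebra A B] (X' : Scheme.{u}) [X'.Over (Spec (CommRingCat.of B))] (j : X' ⟶ X)
      (_ : IsPullback j (X' ↘ Spec (CommRingCat.of B)) (X ↘ Spec (CommRingCat.of A))
        (Spec.map (CommRingCat.ofHom (algebraMap A B)))),
        Module.finrank B (Coh.HH X' ((Scheme.Modules.pullback j).obj F) 0) =
        Module.finrank κ (Coh.HH X₀ ((Scheme.Modules.pullback j₀).obj F) 0) := by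
  obtain ⟨K, hK⟩ := exists_pack X F hF hfl
  have hvK : ∀ p, 1 ≤ p → Subsingleton (K.HB p κ) := by
    intro p hp
    obtain ⟨θ₀, hθ⟩ := hK p
    obtain ⟨θ, -, -⟩ := hθ.bc κ X₀ j₀ (X₀ ↘ Spec (CommRingCat.of κ)) H₀
    have := hv p hp
    exact θ.symm.toEquiv.subsingleton
  have hbc : ∀ (B : Type u) [CommRing B] [Algebra A B], IsBaseChange B (K.res 0 B) :=
    fun B _ _ => isBaseChange_res K κ hs hvK B
  obtain ⟨θ₀, hθ⟩ := hK 0
  let e₀ : Coh.HH X F 0 ≃ₗ[A] K.H 0 := { θ₀ with map_smul' := fun a x => hθ.smul a x }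
  have he₀ : ∀ x, e₀ x = θ₀ x := fun _ => rfl
  obtain ⟨θ, hθ1, hθ2⟩ := hθ.bc κ X₀ j₀ (X₀ ↘ Spec (CommRingCat.of κ)) H₀
  refine ⟨?_, ?_, ?_, ?_, ?_⟩
  · have := finite_H K 0
    exact Module.Finite.equiv e₀.symm
  · intro y
    obtain ⟨z, hz⟩ := kres_surj (K.u 0) κ (hbc κ) hs (θ y)
    refine ⟨θ₀.symm z, θ.injective ?_⟩
    rw [hθ2, AddEquiv.apply_symm_apply]
    exact hz
  · intro x hx
    have h1 : kres (K.u 0) κ (e₀ x) = 0 := by
      change K.res 0 κ (θ₀ x) = 0
      rw [← hθ2, hx, map_zero]
    have h2 := kres_mem (K.u 0) κ (hbc κ) hs h1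
    rw [ker_eq_maximalIdeal κ hs] at h2
    have h3 : e₀.symm (e₀ x) ∈ (maximalIdeal A • (⊤ : Submodule A (K.H 0))).map e₀.symm.toLinearMap :=
      Submodule.mem_map_of_mem h2
    rw [Submodule.map_smul'', LinearEquiv.symm_apply_apply] at h3
    exact Submodule.smul_mono le_rfl le_top h3
  · intro B _ _ X' _ j H
    obtain ⟨θ', hθ1', hθ2'⟩ := hθ.bc B X' j (X' ↘ Spec (CommRingCat.of B)) H
    let e' : Coh.HH X' ((Scheme.Modules.pullback j).obj F) 0 ≃ₗ[B] K.HB 0 B :=
      { θ' with map_smul' := fun a x => hθ1' a x }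
    have he' : ∀ x, e' x = θ' x := fun _ => rfl
    have h1 := kres_span (K.u 0) B (hbc B)
    rw [eq_top_iff]
    rintro y -
    have h2 : e' y ∈ Submodule.span B (Set.range (kres (K.u 0) B)) := by rw [h1]; trivial
    have h3 : e'.symm (e' y) ∈ (Submodule.span B (Set.range (kres (K.u 0) B))).map e'.symm.toLinearMap :=
      Submodule.mem_map_of_mem h2
    rw [LinearEquiv.symm_apply_apply, Submodule.map_span] at h3
    refine Submodule.span_mono ?_ h3
    rintro _ ⟨_, ⟨z, rfl⟩, rfl⟩
    refine ⟨θ₀.symm z, ?_⟩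
    apply θ'.injective
    rw [hθ2', AddEquiv.apply_symm_apply]
    exact (e'.apply_symm_apply _).symm
  · intro B _ _ X' _ j H
    obtain ⟨θ', hθ1', -⟩ := hθ.bc B X' j (X' ↘ Spec (CommRingCat.of B)) H
    let e' : Coh.HH X' ((Scheme.Modules.pullback j).obj F) 0 ≃ₗ[B] K.HB 0 B :=
      { θ' with map_smul' := fun a x => hθ1' a x }
    let e₁ : Coh.HH X₀ ((Scheme.Modules.pullback j₀).obj F) 0 ≃ₗ[κ] K.HB 0 κ :=
      { θ with map_smul' := fun a x => hθ1 a x }
    have r1 := finrank_HB K κ hs hvK κ
    have r2 := finrank_HB K κ hs hvK B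
    rw [← e'.finrank_eq] at r2
    rw [← e₁.finrank_eq] at r1
    rw [r2, ← r1]

end geom

end K664.LocBC
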