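import Groth.Agent.Picfga.ZeroDiv
import Groth.Agent.Divis.EffCartier

/-!
# Functions with poles along an effective Cartier divisor

`I` an effective Cartier ideal on `X`, `cU I` the complement of its support.
* `HasPole I n a`: the function `a` on `cU I` has a pole of order at most `n` along `I`.
* `hasPole_iff_exists`: if `s` is a section of an invertible module `M` with zero ideal `I ^ n`, these are the
  quotients `u / s`, `u` a global section of `M`.
* `exists_hasPole`: if `X` is compact, every function has a pole of finite order.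
-/

set_option autoImplicit false
universe u

open CategoryTheory CategoryTheory.Limits AlgebraicGeometry Opposite TopologicalSpace
open Groth.Agent.Fdesc.LocGen Groth.Agent.Picfga.ZeroDef Groth.Agent.Picfga.ZeroDiv
open Groth.Agent Groth.Agent.Divis.EffCartier Groth.Agent.Divis.IdealComap

namespace K664.PoleFilt

variable {X : Scheme.{u}} (I : X.IdealSheafData)

/-- The complement of the support. -/
def cU : X.Opens := ⟨(I.support : Set X)ᶜ, I.support.isClosed.isOpen_compl⟩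

variable {I}

theorem mem_cU {x : X} : x ∈ cU I ↔ x ∉ I.support := Iff.rfl

/-- `f` is an equation of `I` on the affine open `V`. -/
structure IsEqn (I : X.IdealSheafData) (V : X.Opens) (f : Γ(X, V)) : Prop where
  aff : IsAffineOpen V
  reg : Reg f
  eqn : I.ideal ⟨V, aff⟩ = Ideal.span {f}

theorem exists_isEqn (hI : BlowUp.IsEffCartierIdeal I) (y : X) (T : X.Opens) (hT : y ∈ T) :
    ∃ (V : X.Opens) (f : Γ(X, V)), y ∈ V ∧ V ≤ T ∧ IsEqn I V f := by
  obtain ⟨V, hV, f, hy, hVT, hf, h⟩ := exists_affine_eqn hI y T hT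
  exact ⟨V, f, hy, hVT, hV, hf, h⟩

namespace IsEqn

variable {V : X.Opens} {f : Γ(X, V)} (h : IsEqn I V f)

include h

theorem res {W : X.Opens} (hW : IsAffineOpen W) (hWV : W ≤ V) : IsEqn I W (ores hWV f) := by
  refine ⟨hW, h.reg.res hWV, ?_⟩
  rw [← map_ores (I := I) (U := ⟨V, h.aff⟩) (V := ⟨W, hW⟩) hWV, h.eqn, Ideal.map_span, Set.image_singleton]

theorem inf_cU : V ⊓ cU I = X.basicOpen f := by
  apply Opens.ext
  ext x
  have h1 : x ∈ V → (x ∈ I.support ↔ x ∉ X.basicOpen f) := by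
    intro hx
    have h2 := Scheme.IdealSheafData.mem_supportSet_iff_of_mem (I := I) (x := x) (U := ⟨V, h.aff⟩) hx
    rw [h.eqn] at h2
    have h3 : x ∈ I.support ↔ x ∈ X.zeroLocus (U := V) (Ideal.span {f} : Set Γ(X, V)) := h2
    rw [h3, Scheme.zeroLocus_span]
    simp only [Scheme.mem_zeroLocus_iff, Set.mem_singleton_iff, forall_eq]
  constructor
  · rintro ⟨hx, hx2⟩
    by_contra hcon
    exact hx2 ((h1 hx).2 hcon)
  · intro hx
    have hxV : x ∈ V := X.basicOpen_le f hx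
    exact ⟨hxV, fun hcon => (h1 hxV).1 hcon hx⟩

theorem isUnit_res : IsUnit (ores (inf_le_left : V ⊓ cU I ≤ V) f) := by
  have h1 : V ⊓ cU I ≤ X.basicOpen f := h.inf_cU.le
  have h2 := (RingedSpace.isUnit_res_basicOpen (X := X.toLocallyRingedSpace.toRingedSpace) f).map (ores h1)
  convert h2 using 1
  exact (ores_ores (X.basicOpen_le f) h1 f).symm

theorem injective_res : Function.Injective (ores (inf_le_left : V ⊓ cU I ≤ V)) := by
  rw [injective_iff_map_eq_zero]
  intro b hb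
  have hloc := h.aff.isLocalization_basicOpen f
  have h1 : X.basicOpen f ≤ V ⊓ cU I := h.inf_cU.ge
  have h2 : ores (X.basicOpen_le f) b = 0 := by
    rw [← ores_ores inf_le_left h1, hb, map_zero]
  have h3 : algebraMap Γ(X, V) Γ(X, X.basicOpen f) b = algebraMap Γ(X, V) Γ(X, X.basicOpen f) 0 := by
    rw [map_zero]
    exact h2
  obtain ⟨⟨_, m, rfl⟩, hm⟩ := (IsLocalization.eq_iff_exists (Submonoid.powers f) _).1 h3
  have h4 : f ^ m * b = 0 := by simpa using hm
  clear hm h3 h2 hb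
  induction m with
  | zero => simpa using h4
  | succ m ih =>
    apply ih
    apply h.reg.cancel_self
    rw [mul_zero, ← mul_assoc, ← pow_succ', h4]

theorem injective_res' {W : X.Opens} (hWV : W ≤ V) : Function.Injective (ores (inf_le_left : W ⊓ cU I ≤ W)) := by
  rw [injective_iff_map_eq_zero]
  intro b hb
  have H : ∀ y : W, ∃ V' : X.Opens, y.1 ∈ V' ∧ V' ≤ W ∧ IsAffineOpen V' := by
    intro y
    obtain ⟨V', hV', hy, hV'W⟩ := exists_isAffineOpen_mem_and_subset (U := W) (x := y.1) y.2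
    exact ⟨V', hy, hV'W, hV'⟩
  choose V' hy hV'W hV' using H
  refine ores_ext V' hV'W (fun y hy' => Opens.mem_iSup.2 ⟨⟨y, hy'⟩, hy ⟨y, hy'⟩⟩) fun y => ?_
  rw [map_zero]
  apply (h.res (hV' y) ((hV'W y).trans hWV)).injective_res
  rw [map_zero, ores_ores]
  have : V' y ⊓ cU I ≤ W ⊓ cU I := inf_le_inf_right _ (hV'W y)
  rw [← ores_ores inf_le_left this, hb, map_zero]

end IsEqn

theorem injective_res (hI : BlowUp.IsEffCartierIdeal I) (W : X.Opens) :
    Function.Injective (ores (inf_le_left : W ⊓ cU I ≤ W)) := by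
  rw [injective_iff_map_eq_zero]
  intro b hb
  choose V' f hy hV'W hV' using fun y : W => exists_isEqn hI y.1 W y.2
  refine ores_ext V' hV'W (fun y hy' => Opens.mem_iSup.2 ⟨⟨y, hy'⟩, hy ⟨y, hy'⟩⟩) fun y => ?_
  rw [map_zero]
  apply (hV' y).injective_res
  rw [map_zero, ores_ores]
  have : V' y ⊓ cU I ≤ W ⊓ cU I := inf_le_inf_right _ (hV'W y)
  rw [← ores_ores inf_le_left this, hb, map_zero]

/-- Sections of an invertible module are determined outside the divisor. -/
theorem res_injective (hI : BlowUp.IsEffCartierIdeal I) {M : X.Modules} (hM : PicF.IsInvertible M)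
    {u v : Γ(M, ⊤)} (h : res M (le_top : cU I ≤ ⊤) u = res M le_top v) : u = v := by
  choose U e hx _ he using fun y : X => exists_affine_gen hM y ⊤ trivial
  refine res_ext M (fun y => (U y).1) (fun _ => le_top) (fun x _ => Opens.mem_iSup.2 ⟨x, hx x⟩) fun y => ?_
  obtain ⟨a, ha⟩ := (he y).exists_eq (res M le_top u)
  obtain ⟨b, hb⟩ := (he y).exists_eq (res M le_top v)
  rw [ha, hb]
  congr 1
  apply injective_res hI
  apply ((he y).res (inf_le_left : (U y).1 ⊓ cU I ≤ (U y).1)).ext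
  rw [← res_smul, ← res_smul, ← ha, ← hb, res_res, res_res]
  have := congrArg (res M (inf_le_right : (U y).1 ⊓ cU I ≤ cU I)) h
  rwa [res_res, res_res] at this

/-- The pole condition on `V` with equation `f`. -/
def PoleOn (n : ℕ) (a : Γ(X, cU I)) (V : X.Opens) (f : Γ(X, V)) : Prop :=
  ∃ b : Γ(X, V), ores (inf_le_left : V ⊓ cU I ≤ V) b =
    ores (inf_le_left : V ⊓ cU I ≤ V) f ^ n * ores (inf_le_right : V ⊓ cU I ≤ cU I) a

variable (I) in
/-- `a` has a pole of order at most `n` along `I`. -/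
def HasPole (n : ℕ) (a : Γ(X, cU I)) : Prop :=
  ∀ (V : X.Opens) (f : Γ(X, V)), IsEqn I V f → PoleOn n a V f

theorem PoleOn.res {n : ℕ} {a : Γ(X, cU I)} {V : X.Opens} {f : Γ(X, V)} (h : PoleOn n a V f) {W : X.Opens}
    (hW : W ≤ V) : PoleOn n a W (ores hW f) := by
  obtain ⟨b, hb⟩ := h
  refine ⟨ores hW b, ?_⟩
  have h1 : W ⊓ cU I ≤ V ⊓ cU I := inf_le_inf_right _ hW
  have h2 := congrArg (ores h1) hb
  rw [map_mul, map_pow, ores_ores, ores_ores, ores_ores] at h2
  rw [ores_ores, ores_ores]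
  exact h2

theorem PoleOn.unit {n : ℕ} {a : Γ(X, cU I)} {V : X.Opens} {f : Γ(X, V)} (h : PoleOn n a V f) (u : Γ(X, V)) :
    PoleOn n a V (u * f) := by
  obtain ⟨b, hb⟩ := h
  refine ⟨u ^ n * b, ?_⟩
  rw [map_mul, hb, map_mul, map_pow]
  ring

theorem eqn_unit {V : X.Opens} {f g : Γ(X, V)} (hf : IsEqn I V f) (hg : IsEqn I V g) :
    ∃ u : Γ(X, V), IsUnit u ∧ g = u * f := by
  refine exists_unit_of_span_eq (fun x hx => hf.reg.cancel_self (by rw [hx, mul_zero])) ?_
  rw [← hg.eqn, hf.eqn]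

/-- The condition is local. -/
theorem hasPole_of_local (hI : BlowUp.IsEffCartierIdeal I) {n : ℕ} {a : Γ(X, cU I)}
    (h : ∀ y : X, ∃ (V : X.Opens) (f : Γ(X, V)), y ∈ V ∧ IsEqn I V f ∧ PoleOn n a V f) : HasPole I n a := by
  intro V f hf
  have H : ∀ y : V, ∃ W : X.Opens, ∃ hW : W ≤ V, y.1 ∈ W ∧ PoleOn n a W (ores hW f) := by
    intro y
    obtain ⟨V', f', hy, hf', h'⟩ := h y.1
    obtain ⟨W, hW, hyW, hWV⟩ := exists_isAffineOpen_mem_and_subset (U := V ⊓ V') (x := y.1) ⟨y.2, hy⟩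
    have h1 : W ≤ V := fun _ h => (hWV h).1
    have h2 : W ≤ V' := fun _ h => (hWV h).2
    refine ⟨W, h1, hyW, ?_⟩
    obtain ⟨u, -, hu⟩ := eqn_unit (hf'.res hW h2) (hf.res hW h1)
    rw [hu]
    exact (h'.res h2).unit u
  choose W hW hy b hb using H
  obtain ⟨t, ht⟩ := ores_glue W hW (fun y hy' => Opens.mem_iSup.2 ⟨⟨y, hy'⟩, hy ⟨y, hy'⟩⟩) b (by
    intro i j
    apply injective_res hI
    have e1 := congrArg (ores (inf_le_inf_right _ inf_le_left : (W i ⊓ W j) ⊓ cU I ≤ W i ⊓ cU I)) (hb i)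
    have e2 := congrArg (ores (inf_le_inf_right _ inf_le_right : (W i ⊓ W j) ⊓ cU I ≤ W j ⊓ cU I)) (hb j)
    simp only [map_mul, map_pow, ores_ores] at e1 e2
    rw [ores_ores, ores_ores, e1, e2])
  refine ⟨t, ?_⟩
  refine ores_ext (fun y : V => W y ⊓ cU I) (fun y => inf_le_inf_right _ (hW y)) ?_ fun y => ?_
  · rintro x ⟨hx, hx2⟩
    exact Opens.mem_iSup.2 ⟨⟨x, hx⟩, hy ⟨x, hx⟩, hx2⟩
  · have e1 := hb y
    rw [← ht y] at e1
    simp only [map_mul, map_pow, ores_ores] at e1 ⊢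
    exact e1

section algebra

theorem hasPole_one : HasPole I 0 1 := fun V f _ => ⟨1, by simp⟩

theorem HasPole.mono {m n : ℕ} (hmn : m ≤ n) {a : Γ(X, cU I)} (h : HasPole I m a) : HasPole I n a := by
  intro V f hf
  obtain ⟨b, hb⟩ := h V f hf
  refine ⟨f ^ (n - m) * b, ?_⟩
  rw [map_mul, hb, map_pow, ← mul_assoc, ← pow_add, Nat.sub_add_cancel hmn]

theorem HasPole.add {n : ℕ} {a b : Γ(X, cU I)} (ha : HasPole I n a) (hb : HasPole I n b) : HasPole I n (a + b) := by
  intro V f hf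
  obtain ⟨c, hc⟩ := ha V f hf
  obtain ⟨d, hd⟩ := hb V f hf
  exact ⟨c + d, by rw [map_add, hc, hd, map_add, mul_add]⟩

theorem hasPole_zero (n : ℕ) : HasPole I n 0 := fun V f _ => ⟨0, by simp⟩

theorem HasPole.mul {m n : ℕ} {a b : Γ(X, cU I)} (ha : HasPole I m a) (hb : HasPole I n b) :
    HasPole I (m + n) (a * b) := by
  intro V f hf
  obtain ⟨c, hc⟩ := ha V f hf
  obtain ⟨d, hd⟩ := hb V f hf
  exact ⟨c * d, by rw [map_mul, hc, hd, map_mul, pow_add]; ring⟩

/-- Restrictions of global functions have no poles. -/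
theorem hasPole_res (c : Γ(X, ⊤)) : HasPole I 0 (ores (le_top : cU I ≤ ⊤) c) := fun V f _ =>
  ⟨ores le_top c, by rw [pow_zero, one_mul, ores_ores, ores_ores]⟩

/-- Functions without poles are global functions. -/
theorem exists_of_hasPole_zero (hI : BlowUp.IsEffCartierIdeal I) {a : Γ(X, cU I)} (h : HasPole I 0 a) :
    ∃ c : Γ(X, ⊤), ores (le_top : cU I ≤ ⊤) c = a := by
  choose V f hy _ hf using fun y : X => exists_isEqn hI y ⊤ trivial
  choose b hb using fun y => h (V y) (f y) (hf y)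
  obtain ⟨t, ht⟩ := ores_glue V (fun _ => le_top) (fun y _ => Opens.mem_iSup.2 ⟨y, hy y⟩) b (by
    intro i j
    apply injective_res hI
    have e1 := congrArg (ores (inf_le_inf_right _ inf_le_left : (V i ⊓ V j) ⊓ cU I ≤ V i ⊓ cU I)) (hb i)
    have e2 := congrArg (ores (inf_le_inf_right _ inf_le_right : (V i ⊓ V j) ⊓ cU I ≤ V j ⊓ cU I)) (hb j)
    simp only [ores_ores, pow_zero, one_mul] at e1 e2
    rw [ores_ores, ores_ores, e1, e2])
  refine ⟨t, ores_ext (fun y : X => V y ⊓ cU I) (fun y => inf_le_right) ?_ fun y => ?_⟩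
  · intro x hx
    exact Opens.mem_iSup.2 ⟨x, hy x, hx⟩
  · have e1 := hb y
    rw [← ht y] at e1
    simp only [pow_zero, one_mul, ores_ores] at e1 ⊢
    exact e1

/-- Every function has a pole of finite order. -/
theorem exists_hasPole [CompactSpace X] (hI : BlowUp.IsEffCartierIdeal I) (a : Γ(X, cU I)) :
    ∃ n, HasPole I n a := by
  choose V f hy _ hf using fun y : X => exists_isEqn hI y ⊤ trivial
  have H : ∀ y, ∃ n, PoleOn n a (V y) (f y) := by
    intro y
    have hloc := (hf y).aff.isLocalization_basicOpen (f y)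
    have h1 : X.basicOpen (f y) ≤ V y ⊓ cU I := (hf y).inf_cU.ge
    have h1' : V y ⊓ cU I ≤ X.basicOpen (f y) := (hf y).inf_cU.le
    obtain ⟨⟨b, ⟨_, n, rfl⟩⟩, hb⟩ := IsLocalization.surj (Submonoid.powers (f y))
      (ores (h1.trans inf_le_right : X.basicOpen (f y) ≤ cU I) a)
    refine ⟨n, b, ?_⟩
    have h2 : ores (X.basicOpen_le (f y)) b =
        ores (X.basicOpen_le (f y)) (f y) ^ n * ores (h1.trans inf_le_right : X.basicOpen (f y) ≤ cU I) a := by
      rw [← map_pow, mul_comm]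
      exact hb.symm
    have h3 := congrArg (ores h1') h2
    simpa only [map_mul, map_pow, ores_ores] using h3
  choose n hn using H
  obtain ⟨t, ht⟩ := CompactSpace.elim_nhds_subcover (fun y => (V y : Set X))
    (fun y => (V y).isOpen.mem_nhds (hy y))
  refine ⟨t.sup n, hasPole_of_local hI fun x => ?_⟩
  have hx : x ∈ ⋃ y ∈ t, (V y : Set X) := by rw [ht]; trivial
  simp only [Set.mem_iUnion] at hx
  obtain ⟨y, hyt, hxy⟩ := hx
  refine ⟨V y, f y, hxy, hf y, ?_⟩
  obtain ⟨b, hb⟩ := hn y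
  refine ⟨f y ^ (t.sup n - n y) * b, ?_⟩
  rw [map_mul, hb, map_pow, ← mul_assoc, ← pow_add, Nat.sub_add_cancel (Finset.le_sup hyt)]

end algebra

section sections

variable {M : X.Modules} {s : Γ(M, ⊤)} {n : ℕ}

theorem ideal_pow_eqn {V : X.Opens} {f : Γ(X, V)} (hf : IsEqn I V f) (n : ℕ) :
    (I ^ n).ideal ⟨V, hf.aff⟩ = Ideal.span {f ^ n} := by
  rw [Scheme.IdealSheafData.ideal_pow, Pi.pow_apply, hf.eqn, Ideal.span_singleton_pow]

theorem reg_pow {V : X.Opens} {f : Γ(X, V)} (hf : Reg f) (n : ℕ) : Reg (f ^ n) := by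
  intro W hW x hx
  rw [map_pow] at hx
  induction n with
  | zero => simpa using hx
  | succ n ih =>
    apply ih
    apply hf W hW
    rw [← mul_assoc, ← pow_succ', hx]

/-- Generators adapted to the equation. -/
theorem exists_gen (hI : BlowUp.IsEffCartierIdeal I) (hM : PicF.IsInvertible M) (hs : IsZeroIdeal M s (I ^ n))
    (y : X) (T : X.Opens) (hT : y ∈ T) :
    ∃ (V : X.Opens) (f : Γ(X, V)) (e : Γ(M, V)), y ∈ V ∧ V ≤ T ∧ IsEqn I V f ∧ IsGen e ∧
      res M le_top s = f ^ n • e := by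
  obtain ⟨W, e₁, hyW, he₁⟩ := (isInvertible_iff M).mp hM y
  obtain ⟨V, f, hyV, hVT, hf⟩ := exists_isEqn hI y (T ⊓ W) ⟨hT, hyW⟩
  obtain ⟨e, he, hse⟩ := exists_gen_of_isZeroIdeal hs (reg_pow hf.reg n) hf.aff (ideal_pow_eqn hf n)
    (he₁.res (fun _ h => (hVT h).2))
  exact ⟨V, f, e, hyV, fun _ h => (hVT h).1, hf, he, hse⟩

theorem isGen_res (hI : BlowUp.IsEffCartierIdeal I) (hM : PicF.IsInvertible M) (hs : IsZeroIdeal M s (I ^ n)) :
    IsGen (res M (le_top : cU I ≤ ⊤) s) := by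
  rw [isGen_iff_forall_exists]
  intro x hx
  obtain ⟨V, f, e, hyV, hVT, hf, he, hse⟩ := exists_gen hI hM hs x (cU I) hx
  refine ⟨V, hVT, hyV, ?_⟩
  rw [res_res, hse]
  refine he.unit_smul (IsUnit.pow n ?_)
  have h1 := hf.isUnit_res
  have h2 : V ≤ V ⊓ cU I := le_inf le_rfl hVT
  have h3 := h1.map (ores h2)
  rwa [ores_ores, ores_refl] at h3

/-- **Functions with poles are quotients of sections.** -/
theorem hasPole_iff_exists (hI : BlowUp.IsEffCartierIdeal I) (hM : PicF.IsInvertible M)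
    (hs : IsZeroIdeal M s (I ^ n)) {a : Γ(X, cU I)} :
    HasPole I n a ↔ ∃ u : Γ(M, ⊤), res M (le_top : cU I ≤ ⊤) u = a • res M le_top s := by
  constructor
  · intro h
    choose V f e hy _ hf he hse using fun y : X => exists_gen hI hM hs y ⊤ trivial
    choose b hb using fun y => h (V y) (f y) (hf y)
    have key : ∀ y, res M (inf_le_left : V y ⊓ cU I ≤ V y) (b y • e y) =
        res M (inf_le_right : V y ⊓ cU I ≤ cU I) (a • res M le_top s) := by
      intro y
      rw [res_smul, res_smul, hb, res_res, mul_comm, mul_smul]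
      congr 1
      rw [← map_pow, ← res_smul, ← hse, res_res]
    obtain ⟨t, ht⟩ := res_glue M V (fun _ => le_top) (fun y _ => Opens.mem_iSup.2 ⟨y, hy y⟩)
      (fun y => b y • e y) (by
        intro i j
        obtain ⟨c, hc⟩ := ((he i).res (inf_le_left : V i ⊓ V j ≤ V i)).exists_eq
          (res M (inf_le_left : V i ⊓ V j ≤ V i) (b i • e i))
        obtain ⟨d, hd⟩ := ((he i).res (inf_le_left : V i ⊓ V j ≤ V i)).exists_eq
          (res M (inf_le_right : V i ⊓ V j ≤ V j) (b j • e j))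
        rw [hc, hd]
        congr 1
        apply injective_res hI
        apply (((he i).res (inf_le_left : V i ⊓ V j ≤ V i)).res
          (inf_le_left : (V i ⊓ V j) ⊓ cU I ≤ V i ⊓ V j)).ext
        rw [← res_smul, ← res_smul, ← hc, ← hd, res_res, res_res]
        have e1 := congrArg (res M (inf_le_inf_right _ inf_le_left : (V i ⊓ V j) ⊓ cU I ≤ V i ⊓ cU I)) (key i)
        have e2 := congrArg (res M (inf_le_inf_right _ inf_le_right : (V i ⊓ V j) ⊓ cU I ≤ V j ⊓ cU I)) (key j)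
        rw [res_res, res_res] at e1 e2
        rw [e1, e2])
    refine ⟨t, res_ext M (fun y : X => V y ⊓ cU I) (fun y => inf_le_right) ?_ fun y => ?_⟩
    · intro x hx
      exact Opens.mem_iSup.2 ⟨x, hy x, hx⟩
    · rw [← key y, ← ht y, res_res, res_res]
  · rintro ⟨u, hu⟩
    refine hasPole_of_local hI fun y => ?_
    obtain ⟨V, f, e, hyV, -, hf, he, hse⟩ := exists_gen hI hM hs y ⊤ trivial
    refine ⟨V, f, hyV, hf, ?_⟩
    obtain ⟨b, hb⟩ := he.exists_eq (res M le_top u)
    refine ⟨b, ?_⟩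
    apply (he.res (inf_le_left : V ⊓ cU I ≤ V)).ext
    rw [← res_smul, ← hb, res_res, mul_comm, mul_smul, ← map_pow, ← res_smul, ← hse, res_res]
    have := congrArg (res M (inf_le_right : V ⊓ cU I ≤ cU I)) hu
    rwa [res_smul, res_res, res_res] at this

end sections

section pullback

variable {X' : Scheme.{u}} (j : X' ⟶ X)

theorem cU_comap (I : X.IdealSheafData) : cU (I.comap j) = j ⁻¹ᵁ cU I := by
  apply Opens.ext
  change ((I.comap j).support : Set X')ᶜ = j ⁻¹' ((I.support : Set X)ᶜ)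
  rw [Scheme.IdealSheafData.support_comap]
  rfl

variable (I) in
/-- Pullback of functions outside the divisor. -/
noncomputable def pb : Γ(X, cU I) →+* Γ(X', cU (I.comap j)) :=
  (j.appLE (cU I) (cU (I.comap j)) (cU_comap j I).le).hom

theorem IsEqn.pull {V : X.Opens} {f : Γ(X, V)} (h : IsEqn I V f) (hI' : BlowUp.IsEffCartierIdeal (I.comap j))
    {W : X'.Opens} (hW : IsAffineOpen W) (e : W ≤ j ⁻¹ᵁ V) : IsEqn (I.comap j) W ((j.appLE V W e).hom f) := by
  have h1 : (I.comap j).ideal ⟨W, hW⟩ = Ideal.span {(j.appLE V W e).hom f} := by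
    rw [ideal_comap I j ⟨V, h.aff⟩ ⟨W, hW⟩ e, h.eqn, Ideal.map_span, Set.image_singleton]
  refine ⟨hW, ?_, h1⟩
  intro W' hW' x hx
  choose V' f' hy hV'W hV' using fun y : W' => exists_isEqn hI' y.1 W' y.2
  refine ores_ext V' hV'W (fun y hy' => Opens.mem_iSup.2 ⟨⟨y, hy'⟩, hy ⟨y, hy'⟩⟩) fun y => ?_
  rw [map_zero]
  apply (hV' y).injective_res
  rw [map_zero]
  have hu : IsUnit (ores ((inf_le_left : V' y ⊓ cU (I.comap j) ≤ V' y).trans ((hV'W y).trans hW'))
      ((j.appLE V W e).hom f)) := by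
    have h2 : (I.comap j).ideal ⟨V' y, (hV' y).aff⟩ =
        Ideal.span {ores ((hV'W y).trans hW') ((j.appLE V W e).hom f)} := by
      rw [← map_ores (I := I.comap j) (U := ⟨W, hW⟩) (V := ⟨V' y, (hV' y).aff⟩) ((hV'W y).trans hW'), h1,
        Ideal.map_span, Set.image_singleton]
    obtain ⟨v, hv⟩ := Ideal.mem_span_singleton'.1
      (show f' y ∈ Ideal.span {ores ((hV'W y).trans hW') ((j.appLE V W e).hom f)} by
        rw [← h2, (hV' y).eqn]; exact Ideal.mem_span_singleton_self _)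
    have h3 := (hV' y).isUnit_res
    rw [← hv, map_mul, ores_ores] at h3
    exact isUnit_of_mul_isUnit_right h3
  have h4 := congrArg (ores ((inf_le_left : V' y ⊓ cU (I.comap j) ≤ V' y).trans (hV'W y))) hx
  rw [map_mul, map_zero, ores_ores] at h4
  have h5 := hu.mul_right_eq_zero.1 h4
  rwa [ores_ores]

theorem HasPole.pull (hI : BlowUp.IsEffCartierIdeal I) (hI' : BlowUp.IsEffCartierIdeal (I.comap j)) {n : ℕ}
    {a : Γ(X, cU I)} (h : HasPole I n a) : HasPole (I.comap j) n (pb I j a) := by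
  refine hasPole_of_local hI' fun y => ?_
  obtain ⟨V, f, hV, -, hf⟩ := exists_isEqn hI (j y) ⊤ trivial
  obtain ⟨W, hW, hyW, hWV⟩ := exists_isAffineOpen_mem_and_subset (U := j ⁻¹ᵁ V) (x := y) hV
  have e : W ≤ j ⁻¹ᵁ V := hWV
  refine ⟨W, _, hyW, hf.pull j hI' hW e, ?_⟩
  obtain ⟨b, hb⟩ := h V f hf
  refine ⟨(j.appLE V W e).hom b, ?_⟩
  have e2 : W ⊓ cU (I.comap j) ≤ j ⁻¹ᵁ (V ⊓ cU I) := by
    rw [cU_comap]
    exact fun x hx => ⟨e hx.1, hx.2⟩
  have h1 := congrArg (j.appLE (V ⊓ cU I) (W ⊓ cU (I.comap j)) e2).hom hb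
  rw [map_mul, map_pow] at h1
  have c1 : ∀ c : Γ(X, V), (j.appLE (V ⊓ cU I) (W ⊓ cU (I.comap j)) e2).hom
      (ores (inf_le_left : V ⊓ cU I ≤ V) c) = ores inf_le_left ((j.appLE V W e).hom c) := by
    intro c
    change (X.presheaf.map (homOfLE _).op ≫ j.appLE _ _ e2).hom c =
      (j.appLE _ _ e ≫ X'.presheaf.map (homOfLE _).op).hom c
    rw [Scheme.Hom.map_appLE, Scheme.Hom.appLE_map]
  have c2 : ∀ c : Γ(X, cU I), (j.appLE (V ⊓ cU I) (W ⊓ cU (I.comap j)) e2).hom
      (ores (inf_le_right : V ⊓ cU I ≤ cU I) c) = ores inf_le_right (pb I j c) := by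
    intro c
    change (X.presheaf.map (homOfLE _).op ≫ j.appLE _ _ e2).hom c =
      (j.appLE _ _ _ ≫ X'.presheaf.map (homOfLE _).op).hom c
    rw [Scheme.Hom.map_appLE, Scheme.Hom.appLE_map]
  rw [c1, c1, c2] at h1
  exact h1

/-- Pullback of quotients of sections. -/
theorem pull_eq {M : X.Modules} {s u : Γ(M, ⊤)} {a : Γ(X, cU I)}
    (h : res M (le_top : cU I ≤ ⊤) u = a • res M le_top s) :
    res ((Scheme.Modules.pullback j).obj M) (le_top : cU (I.comap j) ≤ ⊤) (pullTop j u) =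
      pb I j a • res ((Scheme.Modules.pullback j).obj M) le_top (pullTop j s) := by
  have h1 := congrArg (fun t => res ((Scheme.Modules.pullback j).obj M) (cU_comap j I).le (pullSec j t)) h
  simp only [pullSec_smul, res_smul, ← res_pullSec, res_res] at h1
  exact h1

end pullback

end K664.PoleFilt
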