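import Groth.Agent.Surf.K664.PoleFilt
import Groth.Agent.CurvesB.HZero
import Groth.Prelude.Def_CohPull

/-!
# The filtered algebra of functions with poles along an effective Cartier divisor

`Fn R I`: the `R`-algebra of functions outside the divisor, `poles R I n` its submodule of functions with a pole of
order at most `n`; `exists_linearEquiv`: `poles R I n ≃ H⁰(X, M)` for `M` with a section with zero ideal `I ^ n`,
compatibly with base change (`pullMod_eq`).
-/

set_option autoImplicit false
universe u

open CategoryTheory CategoryTheory.Limits AlgebraicGeometry Opposite TopologicalSpace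
open Groth.Agent.Fdesc.LocGen Groth.Agent.Picfga.ZeroDef Groth.Agent.Picfga.ZeroDiv
open Groth.Agent Groth.Agent.Divis.EffCartier Groth.Agent.Divis.IdealComap Groth.Agent.CurvesB.HZero

namespace K664.PoleFilt

/-- Functions outside the divisor. -/
@[nolint unusedArguments]
def Fn (_ : Type u) {X : Scheme.{u}} (I : X.IdealSheafData) : Type u := Γ(X, cU I)

noncomputable instance (R : Type u) {X : Scheme.{u}} (I : X.IdealSheafData) : CommRing (Fn R I) :=
  inferInstanceAs (CommRing Γ(X, cU I))

section

variable (R : Type u) [CommRing R] {X : Scheme.{u}} [X.Over (Spec (CommRingCat.of R))] (I : X.IdealSheafData)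

/-- The structure map. -/
noncomputable def strF : R →+* Γ(X, cU I) := (ores (le_top : cU I ≤ ⊤)).comp (gl R X)

noncomputable instance : Algebra R (Fn R I) := (show R →+* Fn R I from strF R I).toAlgebra

theorem algebraMap_eq (r : R) : algebraMap R (Fn R I) r = ores (le_top : cU I ≤ ⊤) (gl R X r) := rfl

/-- Functions with a pole of order at most `n`. -/
noncomputable def poles (n : ℕ) : Submodule R (Fn R I) where
  carrier := {a | HasPole I n a}
  add_mem' ha hb := HasPole.add ha hb
  zero_mem' := hasPole_zero n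
  smul_mem' c a ha := by
    have h := (hasPole_res (I := I) (gl R X c)).mul ha
    rw [zero_add] at h
    change HasPole I n (c • a)
    rw [Algebra.smul_def]
    exact h

variable {R I}

theorem mem_poles {n : ℕ} {a : Fn R I} : a ∈ poles R I n ↔ HasPole I n a := Iff.rfl

theorem one_mem_poles : (1 : Fn R I) ∈ poles R I 0 := hasPole_one

theorem poles_mono : Monotone (poles R I) := fun _ _ h _ ha => HasPole.mono h ha

theorem mul_mem_poles {m n : ℕ} {a b : Fn R I} (ha : a ∈ poles R I m) (hb : b ∈ poles R I n) :
    a * b ∈ poles R I (m + n) := HasPole.mul ha hb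

theorem exists_mem_poles [CompactSpace X] (hI : BlowUp.IsEffCartierIdeal I) (a : Fn R I) : ∃ n, a ∈ poles R I n :=
  exists_hasPole hI a

variable {M : X.Modules} {s : Γ(M, ⊤)} {n : ℕ}

/-- Functions with poles are global sections. -/
theorem exists_linearEquiv (hI : BlowUp.IsEffCartierIdeal I) (hM : PicF.IsInvertible M)
    (hs : IsZeroIdeal M s (I ^ n)) : ∃ e : poles R I n ≃ₗ[R] Coh.HH X M 0, ∀ a : poles R I n,
      res M (le_top : cU I ≤ ⊤) (equivAdd M (e a)) = (show Γ(X, cU I) from a.1) • res M le_top s := by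
  choose u hu using fun a : poles R I n => (hasPole_iff_exists hI hM hs).1 a.2
  have hun : ∀ {v w : Γ(M, ⊤)}, res M (le_top : cU I ≤ ⊤) v = res M le_top w → v = w :=
    fun h => res_injective hI hM h
  have hg := isGen_res hI hM hs
  let f : poles R I n →ₗ[R] Coh.HH X M 0 :=
    { toFun := fun a => (equivAdd M).symm (u a)
      map_add' := fun a b => by
        apply (equivAdd M).injective
        rw [map_add, AddEquiv.apply_symm_apply, AddEquiv.apply_symm_apply, AddEquiv.apply_symm_apply]
        apply hun
        rw [hu, map_add, hu, hu]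
        exact add_smul (show Γ(X, cU I) from a.1) (show Γ(X, cU I) from b.1) _
      map_smul' := fun c a => by
        apply (equivAdd M).injective
        rw [RingHom.id_apply, equivAdd_smul_over, AddEquiv.apply_symm_apply, AddEquiv.apply_symm_apply]
        apply hun
        rw [hu, res_smul, hu, smul_smul]
        rfl }
  have hf : Function.Bijective f := by
    constructor
    · intro a b hab
      have h1 : u a = u b := (equivAdd M).symm.injective hab
      apply Subtype.ext
      apply hg.ext
      change (show Γ(X, cU I) from a.1) • res M le_top s = (show Γ(X, cU I) from b.1) • res M le_top s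
      rw [← hu, ← hu, h1]
    · intro v
      obtain ⟨a, ha⟩ := hg.exists_eq (res M (le_top : cU I ≤ ⊤) (equivAdd M v))
      have h1 : HasPole I n a := (hasPole_iff_exists hI hM hs).2 ⟨_, ha⟩
      refine ⟨⟨a, h1⟩, ?_⟩
      apply (equivAdd M).injective
      change equivAdd M ((equivAdd M).symm (u ⟨a, h1⟩)) = _
      rw [AddEquiv.apply_symm_apply]
      apply hun
      rw [hu, ha]
  refine ⟨LinearEquiv.ofBijective f hf, fun a => ?_⟩
  change res M (le_top : cU I ≤ ⊤) (equivAdd M ((equivAdd M).symm (u a))) = _
  rw [AddEquiv.apply_symm_apply, hu]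

end

section pullback

variable {R B : Type u} [CommRing R] [CommRing B] {X X' : Scheme.{u}} [X.Over (Spec (CommRingCat.of R))]
  [X'.Over (Spec (CommRingCat.of B))] (φ : R →+* B) (j : X' ⟶ X) (I : X.IdealSheafData)

theorem gl_comm (w : j ≫ (X ↘ Spec (CommRingCat.of R)) = (X' ↘ Spec (CommRingCat.of B)) ≫
    Spec.map (CommRingCat.ofHom φ)) (r : R) : (j.appTop).hom (gl R X r) = gl B X' (φ r) := by
  have h1 : (X ↘ Spec (CommRingCat.of R)).appTop ≫ j.appTop =
      (Spec.map (CommRingCat.ofHom φ)).appTop ≫ (X' ↘ Spec (CommRingCat.of B)).appTop := by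
    rw [← Scheme.Hom.comp_appTop, w, Scheme.Hom.comp_appTop]
  have h2 : (Scheme.ΓSpecIso (CommRingCat.of R)).inv ≫ (Spec.map (CommRingCat.ofHom φ)).appTop =
      CommRingCat.ofHom φ ≫ (Scheme.ΓSpecIso (CommRingCat.of B)).inv :=
    (Scheme.ΓSpecIso_inv_naturality (CommRingCat.ofHom φ)).symm
  change ((Scheme.ΓSpecIso (CommRingCat.of R)).inv ≫ (X ↘ Spec (CommRingCat.of R)).appTop ≫ j.appTop).hom r =
    (CommRingCat.ofHom φ ≫ (Scheme.ΓSpecIso (CommRingCat.of B)).inv ≫ (X' ↘ Spec (CommRingCat.of B)).appTop).hom r
  rw [h1, ← Category.assoc, h2, Category.assoc]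

/-- Restriction of functions. -/
noncomputable def rho : Fn R I →+* Fn B (I.comap j) := pb I j

theorem rho_algebraMap (w : j ≫ (X ↘ Spec (CommRingCat.of R)) = (X' ↘ Spec (CommRingCat.of B)) ≫
    Spec.map (CommRingCat.ofHom φ)) (r : R) :
    rho (B := B) j I (algebraMap R (Fn R I) r) = algebraMap B (Fn B (I.comap j)) (φ r) := by
  rw [algebraMap_eq, algebraMap_eq, ← gl_comm φ j w]
  change (X.presheaf.map (homOfLE _).op ≫ j.appLE _ _ _).hom (gl R X r) =
    (j.appTop ≫ X'.presheaf.map (homOfLE _).op).hom (gl R X r)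
  rw [Scheme.Hom.map_appLE]
  rfl

theorem rho_mem (hI : BlowUp.IsEffCartierIdeal I) (hI' : BlowUp.IsEffCartierIdeal (I.comap j)) {n : ℕ}
    {a : Fn R I} (h : a ∈ poles R I n) : rho (B := B) j I a ∈ poles B (I.comap j) n :=
  HasPole.pull j hI hI' h

variable {M : X.Modules} {s : Γ(M, ⊤)} {n : ℕ}

theorem equivAdd_pullMod (x : Coh.HH X M 0) :
    equivAdd ((Scheme.Modules.pullback j).obj M) (CohPull.pullMod j M 0 x) = pullTop j (equivAdd M x) :=
  CohPull.equiv₀_pullMod j M x

/-- The identification of functions with sections commutes with base change. -/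
theorem pullMod_eq (hI : BlowUp.IsEffCartierIdeal I) (hI' : BlowUp.IsEffCartierIdeal (I.comap j))
    (hM : PicF.IsInvertible M)
    (e : poles R I n ≃ₗ[R] Coh.HH X M 0) (he : ∀ a : poles R I n,
      res M (le_top : cU I ≤ ⊤) (equivAdd M (e a)) = (show Γ(X, cU I) from a.1) • res M le_top s)
    (e' : poles B (I.comap j) n ≃ₗ[B] Coh.HH X' ((Scheme.Modules.pullback j).obj M) 0)
    (he' : ∀ a : poles B (I.comap j) n,
      res ((Scheme.Modules.pullback j).obj M) (le_top : cU (I.comap j) ≤ ⊤)
        (equivAdd ((Scheme.Modules.pullback j).obj M) (e' a)) =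
        (show Γ(X', cU (I.comap j)) from a.1) • res ((Scheme.Modules.pullback j).obj M) le_top (pullTop j s))
    (a : poles R I n) :
    e' ⟨rho (B := B) j I a.1, rho_mem j I hI hI' a.2⟩ = CohPull.pullMod j M 0 (e a) := by
  apply (equivAdd ((Scheme.Modules.pullback j).obj M)).injective
  apply res_injective hI' (isInvertible_pullback j hM)
  rw [he', equivAdd_pullMod, pull_eq j (he a)]
  rfl

end pullback

end K664.PoleFilt
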