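import Groth.Agent.Surf.K664.WeierUniq
import Mathlib.LinearAlgebra.FiniteDimensional.Basic
import Mathlib.LinearAlgebra.Dimension.OrzechProperty

/-!
# Short Weierstrass equations over a field, generic version

`Gen V x y`: `1, x` span `V 2`, `1, x, y` span `V 3` and `1, x, y, x², xy, x³` are independent.
* `Gen.of_span`: obtained from a spanning family in a filtered algebra with the right ranks.
* `Gen.unique`: uniqueness of the equation.
-/

set_option autoImplicit false

namespace K664.WeierFilt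

variable {K A : Type*} [Field K] [CommRing A] [Algebra K A]

/-- Good coordinates for a filtered algebra. -/
structure Gen (V : ℕ → Submodule K A) (x y : A) : Prop where
  x_mem : x ∈ V 2
  y_mem : y ∈ V 3
  two : ∀ z ∈ V 2, ∃ α β : K, z = algebraMap K A α * x + algebraMap K A β
  three : ∀ z ∈ V 3, ∃ α β γ : K, z = algebraMap K A α * y + algebraMap K A β * x + algebraMap K A γ
  indep : ∀ {c₀ c₂ c₃ c₄ c₅ c₆ : K}, algebraMap K A c₀ + algebraMap K A c₂ * x + algebraMap K A c₃ * y +
    algebraMap K A c₄ * x ^ 2 + algebraMap K A c₅ * (x * y) + algebraMap K A c₆ * x ^ 3 = 0 →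
    c₀ = 0 ∧ c₂ = 0 ∧ c₃ = 0 ∧ c₄ = 0 ∧ c₅ = 0 ∧ c₆ = 0

namespace Gen

variable {V : ℕ → Submodule K A} {x y : A}

/-- From spanning monomials and ranks. -/
theorem of_span (hx : x ∈ V 2) (hy : y ∈ V 3)
    (hs : ∀ n, V n ≤ Submodule.span K (EllFilt.mon x y '' {i | i ≤ n ∧ i ≠ 1}))
    (hrk : Module.finrank K (V 6) = 6) (h6 : ∀ i ≤ 6, i ≠ 1 → EllFilt.mon x y i ∈ V 6) : Gen V x y := by
  refine ⟨hx, hy, ?_, ?_, ?_⟩
  · intro z hz
    have h1 := hs 2 hz
    have h2 : Submodule.span K (EllFilt.mon x y '' {i | i ≤ 2 ∧ i ≠ 1}) ≤ Submodule.span K {x, 1} := by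
      rw [Submodule.span_le]
      rintro _ ⟨i, ⟨hi, hi1⟩, rfl⟩
      apply Submodule.subset_span
      interval_cases i
      · simp [EllFilt.mon]
      · exact absurd rfl hi1
      · simp [EllFilt.mon]
    have h3 := h2 h1
    simp only [Submodule.mem_span_insert, Submodule.mem_span_singleton] at h3
    obtain ⟨α, _, ⟨β, rfl⟩, rfl⟩ := h3
    exact ⟨α, β, by simp only [Algebra.smul_def, mul_one]⟩
  · intro z hz
    have h1 := hs 3 hz
    have h2 : Submodule.span K (EllFilt.mon x y '' {i | i ≤ 3 ∧ i ≠ 1}) ≤ Submodule.span K {y, x, 1} := by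
      rw [Submodule.span_le]
      rintro _ ⟨i, ⟨hi, hi1⟩, rfl⟩
      apply Submodule.subset_span
      interval_cases i
      · simp [EllFilt.mon]
      · exact absurd rfl hi1
      · simp [EllFilt.mon]
      · simp [EllFilt.mon]
    have h3 := h2 h1
    simp only [Submodule.mem_span_insert, Submodule.mem_span_singleton] at h3
    obtain ⟨α, _, ⟨β, _, ⟨γ, rfl⟩, rfl⟩, rfl⟩ := h3
    exact ⟨α, β, γ, by simp only [Algebra.smul_def, mul_one]; ring⟩
  · -- six vectors spanning a space of dimension six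
    let v : Fin 6 → A := ![1, x, y, x ^ 2, x * y, x ^ 3]
    have hv : ∀ i, v i ∈ V 6 := by
      have e : ∀ i, ∃ j, j ≤ 6 ∧ j ≠ 1 ∧ v i = EllFilt.mon x y j := by
        intro i
        fin_cases i
        · exact ⟨0, by norm_num, by norm_num, by simp [v, EllFilt.mon]⟩
        · exact ⟨2, by norm_num, by norm_num, by simp [v, EllFilt.mon]⟩
        · exact ⟨3, by norm_num, by norm_num, by simp [v, EllFilt.mon]⟩
        · exact ⟨4, by norm_num, by norm_num, by simp [v, EllFilt.mon]⟩
        · exact ⟨5, by norm_num, by norm_num, by simp [v, EllFilt.mon]⟩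
        · exact ⟨6, by norm_num, by norm_num, by simp [v, EllFilt.mon]⟩
      intro i
      obtain ⟨j, h1, h2, h3⟩ := e i
      rw [h3]
      exact h6 j h1 h2
    have hV6 : V 6 = Submodule.span K (Set.range v) := by
      apply le_antisymm
      · refine (hs 6).trans ?_
        rw [Submodule.span_le]
        rintro _ ⟨i, ⟨hi, hi1⟩, rfl⟩
        apply Submodule.subset_span
        interval_cases i
        · exact ⟨0, by simp [v, EllFilt.mon]⟩
        · exact absurd rfl hi1
        · exact ⟨1, by simp [v, EllFilt.mon]⟩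
        · exact ⟨2, by simp [v, EllFilt.mon]⟩
        · exact ⟨3, by simp [v, EllFilt.mon]⟩
        · exact ⟨4, by simp [v, EllFilt.mon]⟩
        · exact ⟨5, by simp [v, EllFilt.mon]⟩
      · rw [Submodule.span_le]
        rintro _ ⟨i, rfl⟩
        exact hv i
    have hli : LinearIndependent K v := by
      rw [linearIndependent_iff_card_eq_finrank_span]
      rw [Set.finrank, ← hV6, hrk]
      rfl
    intro c₀ c₂ c₃ c₄ c₅ c₆ hc
    rw [Fintype.linearIndependent_iff] at hli
    have h7 := hli ![c₀, c₂, c₃, c₄, c₅, c₆] (by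
      simp only [Fin.sum_univ_succ, v, Algebra.smul_def]
      simp
      linear_combination hc)
    refine ⟨h7 0, h7 1, h7 2, h7 3, h7 4, h7 5⟩

variable (h : Gen V x y)

include h

theorem x_ne (β : K) : x ≠ algebraMap K A β := by
  intro hx
  have := h.indep (c₀ := -β) (c₂ := 1) (c₃ := 0) (c₄ := 0) (c₅ := 0) (c₆ := 0) (by
    simp only [map_neg, map_one, map_zero]
    linear_combination hx)
  exact one_ne_zero this.2.1

theorem y_ne (α β : K) : y ≠ algebraMap K A α * x + algebraMap K A β := by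
  intro hy
  have := h.indep (c₀ := -β) (c₂ := -α) (c₃ := 1) (c₄ := 0) (c₅ := 0) (c₆ := 0) (by
    simp only [map_neg, map_one, map_zero]
    linear_combination hy)
  exact one_ne_zero this.2.2.1

/-- **Uniqueness of short Weierstrass equations.** -/
theorem unique (h2 : (2 : K) ≠ 0) (h3 : (3 : K) ≠ 0) {a b a' b' : K}
    (he : y ^ 2 = x ^ 3 + algebraMap K A a * x + algebraMap K A b)
    {x' y' : A} (h' : Gen V x' y') (he' : y' ^ 2 = x' ^ 3 + algebraMap K A a' * x' + algebraMap K A b') :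
    ∃ α : K, α ≠ 0 ∧ a' = α ^ 2 * a ∧ b' = α ^ 3 * b := by
  obtain ⟨α, β, rfl⟩ := h.two _ h'.x_mem
  obtain ⟨γ, δ, ε, rfl⟩ := h.three _ h'.y_mem
  have hα : α ≠ 0 := by
    rintro rfl
    apply h'.x_ne β
    rw [map_zero, zero_mul, zero_add]
  have key := h.indep (c₀ := γ ^ 2 * b + ε ^ 2 - β ^ 3 - a' * β - b')
    (c₂ := γ ^ 2 * a + 2 * δ * ε - 3 * α * β ^ 2 - a' * α) (c₃ := 2 * γ * ε) (c₄ := δ ^ 2 - 3 * α ^ 2 * β)
    (c₅ := 2 * γ * δ) (c₆ := γ ^ 2 - α ^ 3) (by
      simp only [map_add, map_sub, map_mul, map_pow, map_ofNat]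
      linear_combination he' - (algebraMap K A γ) ^ 2 * he)
  obtain ⟨k0, k2, k3, k4, k5, k6⟩ := key
  have hγ : γ ≠ 0 := by
    rintro rfl
    have : α ^ 3 = 0 := by linear_combination -k6
    exact hα (pow_eq_zero_iff (by norm_num : (3:ℕ) ≠ 0) |>.1 this)
  have hε : ε = 0 := (mul_eq_zero.1 k3).resolve_left (mul_ne_zero h2 hγ)
  have hδ : δ = 0 := (mul_eq_zero.1 k5).resolve_left (mul_ne_zero h2 hγ)
  have hβ : β = 0 := by
    rw [hδ] at k4
    have : 3 * α ^ 2 * β = 0 := by linear_combination -k4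
    exact (mul_eq_zero.1 this).resolve_left (mul_ne_zero h3 (pow_ne_zero 2 hα))
  subst hε hδ hβ
  refine ⟨α, hα, ?_, by linear_combination (-1 : K) * k0 + b * k6⟩
  apply mul_right_cancel₀ hα
  linear_combination (-1 : K) * k2 + a * k6

end Gen

theorem Gen.jInv_eq {V : ℕ → Submodule K A} {x y : A} (h : Gen V x y) (h2 : (2 : K) ≠ 0) (h3 : (3 : K) ≠ 0)
    {a b a' b' : K} (he : y ^ 2 = x ^ 3 + algebraMap K A a * x + algebraMap K A b)
    {x' y' : A} (h' : Gen V x' y') (he' : y' ^ 2 = x' ^ 3 + algebraMap K A a' * x' + algebraMap K A b') :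
    jInv a' b' = jInv a b := by
  obtain ⟨α, hα, rfl, rfl⟩ := h.unique h2 h3 he h' he'
  exact jInv_scale hα

end K664.WeierFilt
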