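import Groth.Agent.Surf.K664.FieldFilt
import Groth.Agent.Surf.K664.LocBC
import Groth.Agent.Surf.K664.GraphCl
import Groth.Agent.Surf.K664.WeierGen
import Groth.Agent.Ega3B.ChiFib
import Groth.Agent.Fga.HodgeSec

/-!
# Pole filtrations of pointed families of curves of genus one over local rings

`E` smooth and proper of relative dimension one over a local Noetherian ring `R`, with a section `σ`, the closed fibre
a curve of genus one.
* `key`: the modules of functions with a pole of order at most `n` along `σ` are finite and compatible with base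
  change.
* `relFilt`: they form a filtration as in `RelFilt`.
-/

set_option autoImplicit false
universe u

open CategoryTheory CategoryTheory.Limits AlgebraicGeometry Opposite TopologicalSpace IsLocalRing
open Groth.Agent.Fdesc.LocGen Groth.Agent.Picfga.ZeroDef Groth.Agent.Picfga.ZeroDiv
open Groth.Agent Groth.Agent.Divis.EffCartier Groth.Agent.Divis.IdealComap Groth.Agent.CurvesB.HZero
open Groth.Agent.Grpsch.PicGrp K532.CurvePic K532.CurvePts Groth.Agent.Fga Groth.Agent.Fga.ZeroClass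
open Groth.Agent.Fga.JacFactor Groth.Agent.Picfga.ZeroHom Groth.Agent.Fga.JacSum

namespace K664.RelPole

open K664.PoleFilt K664.WeierFilt K664.FieldFilt

section section_

variable {E S E' S' : Scheme.{u}} {p : E ⟶ S} [SmoothOfRelativeDimension 1 p] [IsSeparated p]
  (σ : S ⟶ E) (hσ : σ ≫ p = 𝟙 S)

include hσ

omit [SmoothOfRelativeDimension 1 p] in
theorem isClosedImmersion_section : IsClosedImmersion σ := by
  have : IsClosedImmersion (σ ≫ p) := by rw [hσ]; infer_instance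
  exact IsClosedImmersion.of_comp σ p

theorem isEff_section : BlowUp.IsEffCartierIdeal σ.ker := by
  have hcl := isClosedImmersion_section σ hσ
  have h1 : Mor2.IsFinLocFreeOfDeg 1 (σ.ker.subschemeι ≫ p) := by
    refine K664.GraphCl.finloc_ker σ ?_
    rw [hσ]
    refine ⟨⟨inferInstance, inferInstance, inferInstance⟩, fun y => ?_⟩
    rw [Scheme.Hom.finrank_eq_one_of_isIso]
    rfl
  exact ((Groth.Agent.S1184.result p σ.ker).2 h1.1).1

omit [SmoothOfRelativeDimension 1 p] in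
/-- The section of a base change. -/
theorem ker_baseChange {j : E' ⟶ E} {p' : E' ⟶ S'} {w : S' ⟶ S} (H : IsPullback j p' p w) (σ' : S' ⟶ E')
    (h1 : σ' ≫ p' = 𝟙 S') (h2 : σ' ≫ j = w ≫ σ) : σ'.ker = σ.ker.comap j := by
  have hcl := isClosedImmersion_section σ hσ
  have h3 : IsPullback (σ' ≫ p') w w (σ ≫ p) := by
    rw [h1, hσ]
    exact IsPullback.of_id_fst
  have hsq : IsPullback σ' w j σ := IsPullback.of_right h3 h2 H.flip
  exact Picfga.SecGraph.ker_eq_comap_of_isPullback hsq.flip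

theorem isEff_comap {j : E' ⟶ E} {p' : E' ⟶ S'} {w : S' ⟶ S} (H : IsPullback j p' p w) :
    BlowUp.IsEffCartierIdeal (σ.ker.comap j) := by
  have hst := smoothOfRelativeDimension_isStableUnderBaseChange.{u} 1
  have h1 : SmoothOfRelativeDimension 1 p' :=
    MorphismProperty.of_isPullback (P := @SmoothOfRelativeDimension.{u} 1) H inferInstance
  have h2 : IsSeparated p' := MorphismProperty.of_isPullback H inferInstance
  have hw : (w ≫ σ) ≫ p = 𝟙 S' ≫ w := by rw [Category.assoc, hσ, Category.comp_id, Category.id_comp]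
  rw [← ker_baseChange σ hσ H (H.lift (w ≫ σ) (𝟙 _) hw) (H.lift_snd _ _ _) (H.lift_fst _ _ _)]
  exact isEff_section (p := p') _ (H.lift_snd _ _ _)

end section_

section transport

variable {R B : Type u} [CommRing R] [CommRing B] {A : Type u} {A' : Type u} [CommRing A] [Algebra R A]
  [CommRing A'] [Algebra B A'] {M : Submodule R A} {V : Submodule B A'} {N N' : Type u} [AddCommGroup N] [Module R N]
  [AddCommGroup N'] [Module B N'] (e : M ≃ₗ[R] N) (e' : V ≃ₗ[B] N') (φ : N → N') (ρ : A →+* A')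
  (hρ : ∀ a : A, a ∈ M → ρ a ∈ V) (h : ∀ a : M, e' ⟨ρ a.1, hρ a.1 a.2⟩ = φ (e a))

include h

theorem lift_of (hφ : Function.Surjective φ) {v : A'} (hv : v ∈ V) : ∃ a ∈ M, ρ a = v := by
  obtain ⟨x, hx⟩ := hφ (e' ⟨v, hv⟩)
  refine ⟨(e.symm x).1, (e.symm x).2, ?_⟩
  have h1 := h (e.symm x)
  rw [LinearEquiv.apply_symm_apply, hx] at h1
  exact congrArg Subtype.val (e'.injective h1)

theorem ker_of (I : Ideal R) (hφ : ∀ x, φ x = 0 → x ∈ I • (⊤ : Submodule R N)) {a : A} (ha : a ∈ M)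
    (h0 : ρ a = 0) : a ∈ I • M := by
  have h1 : φ (e ⟨a, ha⟩) = 0 := by
    rw [← h ⟨a, ha⟩]
    have : (⟨ρ a, hρ a ha⟩ : V) = 0 := Subtype.ext h0
    rw [this, map_zero]
  have h2 := hφ _ h1
  have h3 : e.symm (e ⟨a, ha⟩) ∈ (I • (⊤ : Submodule R N)).map e.symm.toLinearMap := Submodule.mem_map_of_mem h2
  rw [Submodule.map_smul'', LinearEquiv.symm_apply_apply] at h3
  have h4 : a ∈ (I • (⊤ : Submodule R N).map e.symm.toLinearMap).map M.subtype := ⟨_, h3, rfl⟩
  rw [Submodule.map_smul''] at h4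
  refine Submodule.smul_mono le_rfl ?_ h4
  rintro _ ⟨x, -, rfl⟩
  exact x.2

theorem span_of (hφ : Submodule.span B (Set.range φ) = ⊤) : V ≤ Submodule.span B (ρ '' (M : Set A)) := by
  intro v hv
  have h1 : e' ⟨v, hv⟩ ∈ Submodule.span B (Set.range φ) := by rw [hφ]; trivial
  have h2 : e'.symm (e' ⟨v, hv⟩) ∈ (Submodule.span B (Set.range φ)).map e'.symm.toLinearMap :=
    Submodule.mem_map_of_mem h1
  rw [LinearEquiv.symm_apply_apply, Submodule.map_span] at h2
  have h3 : v ∈ (Submodule.span B (e'.symm.toLinearMap '' Set.range φ)).map V.subtype := ⟨_, h2, rfl⟩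
  rw [Submodule.map_span] at h3
  refine Submodule.span_mono ?_ h3
  rintro _ ⟨_, ⟨_, ⟨x, rfl⟩, rfl⟩, rfl⟩
  refine ⟨(e.symm x).1, (e.symm x).2, ?_⟩
  have h4 := h (e.symm x)
  rw [LinearEquiv.apply_symm_apply] at h4
  change ρ (e.symm x).1 = (e'.symm (φ x)).1
  rw [← h4, LinearEquiv.symm_apply_apply]

end transport

section rel

variable {R : Type u} [CommRing R] [IsLocalRing R] [IsNoetherianRing R] {κ : Type u} [Field κ] [Algebra R κ]
  (hs : Function.Surjective (algebraMap R κ))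
  {E : Scheme.{u}} [E.Over (Spec (CommRingCat.of R))] [IsProper (E ↘ Spec (CommRingCat.of R))]
  [SmoothOfRelativeDimension 1 (E ↘ Spec (CommRingCat.of R))]
  {E₀ : Scheme.{u}} [E₀.Over (Spec (CommRingCat.of κ))] (j₀ : E₀ ⟶ E)
  (H₀ : IsPullback j₀ (E₀ ↘ Spec (CommRingCat.of κ)) (E ↘ Spec (CommRingCat.of R))
    (Spec.map (CommRingCat.ofHom (algebraMap R κ))))
  (hE₀ : Curve κ E₀ 1) (σ : Spec (CommRingCat.of R) ⟶ E)
  (hσ : σ ≫ (E ↘ Spec (CommRingCat.of R)) = 𝟙 (Spec (CommRingCat.of R)))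

/-- The point of the closed fibre. -/
noncomputable def pt₀ : KPt κ E₀ :=
  ⟨H₀.lift (Spec.map (CommRingCat.ofHom (algebraMap R κ)) ≫ σ) (𝟙 _)
    (by rw [Category.assoc, hσ, Category.comp_id, Category.id_comp]), H₀.lift_snd _ _ _⟩

omit [IsLocalRing R] [IsNoetherianRing R] [SmoothOfRelativeDimension 1 (E ↘ Spec (CommRingCat.of R))] in
theorem ker_pt₀ : (pt₀ j₀ H₀ σ hσ).1.ker = σ.ker.comap j₀ :=
  ker_baseChange σ hσ H₀ _ (H₀.lift_snd _ _ _) (H₀.lift_fst _ _ _)

include hE₀ in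
theorem vanish {n : ℕ} (hn : 1 ≤ n) {M : E₀.Modules} (hM : PicF.IsInvertible M)
    (hd : deg κ E₀ (mk M hM) = n) (p : ℕ) (hp : 1 ≤ p) : Subsingleton (Coh.HH E₀ M p) := by
  have h1 := hE₀.proper
  rcases Nat.lt_or_ge p 2 with h2 | h2
  · obtain rfl : p = 1 := by omega
    have h3 := h1_eq_zero hE₀ (c := mk M hM) (by rw [hd]; exact_mod_cast hn)
    rw [h_mk] at h3
    have h4 := finite_HH hE₀.isCurve hM 1
    exact Module.finrank_zero_iff.1 h3
  · refine Groth.Agent.Fga.HodgeSec.subsingleton_HH_of_support κ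
      (Groth.Agent.Fga.HodgeSec.isCoh_of_isInvertible hM) 1 ?_ p (by omega)
    exact (Topology.IsInducing.subtypeVal.topologicalKrullDim_le (Y := CohB1.support M)).trans hE₀.dim.le

include hs H₀ hE₀ hσ in
/-- **The modules of functions with poles.** -/
theorem key (n : ℕ) (hn : 1 ≤ n) :
    (poles R σ.ker n).FG ∧
    (∀ v ∈ poles κ (σ.ker.comap j₀) n, ∃ a ∈ poles R σ.ker n, rho (R := R) (B := κ) j₀ σ.ker a = v) ∧
    (∀ a ∈ poles R σ.ker n, rho (R := R) (B := κ) j₀ σ.ker a = 0 → a ∈ maximalIdeal R • poles R σ.ker n) ∧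
    ∀ (K : Type u) [Field K] [Algebra R K] (E' : Scheme.{u}) [E'.Over (Spec (CommRingCat.of K))] (j : E' ⟶ E)
      (_ : IsPullback j (E' ↘ Spec (CommRingCat.of K)) (E ↘ Spec (CommRingCat.of R))
        (Spec.map (CommRingCat.ofHom (algebraMap R K)))),
      poles K (σ.ker.comap j) n ≤
        Submodule.span K (rho (R := R) (B := K) j σ.ker '' (poles R σ.ker n : Set (Fn R σ.ker))) ∧
      Module.finrank K (poles K (σ.ker.comap j) n) = n := by
  have hI := isEff_section σ hσ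
  have hI₀ := isEff_comap σ hσ H₀
  obtain ⟨M, hM, s, hs'⟩ := exists_section_of_isEffCartier (isEff_pow hI n)
  obtain ⟨e, he⟩ := exists_linearEquiv (R := R) hI hM hs'
  -- pullbacks
  have hpull : ∀ {E' : Scheme.{u}} (j : E' ⟶ E),
      IsZeroIdeal ((Scheme.Modules.pullback j).obj M) (pullTop j s) ((σ.ker.comap j) ^ n) := by
    intro E' j
    rw [← comap_pow]
    exact isZeroIdeal_pullback j hM hs'
  have hM₀ := isInvertible_pullback j₀ hM
  obtain ⟨e₀, he₀⟩ := exists_linearEquiv (R := κ) hI₀ hM₀ (hpull j₀)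
  have hdeg : deg κ E₀ (mk _ hM₀) = n := by
    have h1 : (pt₀ j₀ H₀ σ hσ).1.ker = σ.ker.comap j₀ := ker_pt₀ j₀ H₀ σ hσ
    have h2 : deg κ E₀ (dcl (σ.ker.comap j₀) hI₀) = -1 := by
      have h3 : ∀ (J : E₀.IdealSheafData) (hJ : BlowUp.IsEffCartierIdeal J), (pt₀ j₀ H₀ σ hσ).1.ker = J →
          deg κ E₀ (dcl J hJ) = -1 := by
        rintro _ hJ rfl
        exact deg_pcl hE₀.isCurve (pt₀ j₀ H₀ σ hσ)
      exact h3 _ hI₀ h1
    rw [mk_eq_inv_dcl hM₀ _ (hpull j₀) (isEff_pow hI₀ n), dcl_pow hI₀, deg_inv hE₀.isCurve,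
      deg_pow hE₀.isCurve, h2]
    ring
  have hfl : Flat (E ↘ Spec (CommRingCat.of R)) := by
    have : Smooth (E ↘ Spec (CommRingCat.of R)) := SmoothOfRelativeDimension.smooth 1 _
    infer_instance
  have hfp : LocallyOfFinitePresentation (E ↘ Spec (CommRingCat.of R)) := by
    have : Smooth (E ↘ Spec (CommRingCat.of R)) := SmoothOfRelativeDimension.smooth 1 _
    infer_instance
  obtain ⟨b1, b2, b3, b4, b5⟩ := K664.LocBC.exists_bc κ hs M (Ega3B.ChiFib.isFP_of_isInvertible hM)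
    (Ega3B.ChiFib.isFlatOver_of_isInvertible _ hM) E₀ j₀ H₀ (vanish hE₀ hn hM₀ hdeg)
  have k₀ := pullMod_eq (R := R) (B := κ) j₀ σ.ker hI hI₀ hM e he e₀ he₀
  refine ⟨?_, ?_, ?_, ?_⟩
  · have h1 : Module.Finite R (poles R σ.ker n) := Module.Finite.equiv e.symm
    exact Module.Finite.iff_fg.1 h1
  · intro v hv
    exact lift_of e e₀ _ (rho (R := R) (B := κ) j₀ σ.ker) (fun a ha => rho_mem j₀ σ.ker hI hI₀ ha) k₀ b2 hv
  · intro a ha h0
    exact ker_of e e₀ _ (rho (R := R) (B := κ) j₀ σ.ker) (fun a ha => rho_mem j₀ σ.ker hI hI₀ ha) k₀ _ b3 ha h0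
  · intro K _ _ E' _ j H
    have hI' := isEff_comap σ hσ H
    obtain ⟨e', he'⟩ := exists_linearEquiv (R := K) hI' (isInvertible_pullback j hM) (hpull j)
    have k' := pullMod_eq (R := R) (B := K) j σ.ker hI hI' hM e he e' he'
    refine ⟨span_of e e' _ (rho (R := R) (B := K) j σ.ker) (fun a ha => rho_mem j σ.ker hI hI' ha) k' (b4 K E' j H), ?_⟩
    rw [e'.finrank_eq, b5 K E' j H, ← h_mk κ E₀ 0 hM₀]
    have := h0_eq_deg hE₀ (c := mk _ hM₀) (by rw [hdeg]; exact_mod_cast hn)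
    rw [hdeg] at this
    exact_mod_cast this

end rel

end K664.RelPole
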