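import Groth.Agent.Surf.K664.RelPole

/-!
# Short Weierstrass equations of pointed families of curves of genus one over local rings

* `relFilt`: the filtration by pole orders.
* `HasWeier K J a b`: the pointed curve over the field `K` with point `J` has the equation `y² = x³ + a x + b`.
* `exists_weier`: over a local ring with `6` invertible there is an equation with unit discriminant, compatible with
  base change to all fields.
* `HasWeier.jInv_eq`: the invariant is unique.
-/

set_option autoImplicit false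
universe u

open CategoryTheory CategoryTheory.Limits AlgebraicGeometry Opposite TopologicalSpace IsLocalRing
open Groth.Agent.Fdesc.LocGen Groth.Agent.Picfga.ZeroDef Groth.Agent.Picfga.ZeroDiv
open Groth.Agent Groth.Agent.Divis.EffCartier Groth.Agent.Divis.IdealComap Groth.Agent.CurvesB.HZero
open Groth.Agent.Grpsch.PicGrp K532.CurvePic K532.CurvePts Groth.Agent.Fga Groth.Agent.Fga.ZeroClass
open Groth.Agent.Fga.JacFactor Groth.Agent.Picfga.ZeroHom Groth.Agent.Fga.JacSum

namespace K664.RelPole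

open K664.PoleFilt K664.WeierFilt K664.FieldFilt

/-- The pointed curve has the short Weierstrass equation `y² = x³ + a x + b`. -/
def HasWeier (K : Type u) [Field K] {E : Scheme.{u}} [E.Over (Spec (CommRingCat.of K))] (J : E.IdealSheafData)
    (a b : K) : Prop :=
  ∃ x y : Fn K J, Gen (poles K J) x y ∧
    y ^ 2 = x ^ 3 + algebraMap K (Fn K J) a * x + algebraMap K (Fn K J) b

theorem HasWeier.jInv_eq {K : Type u} [Field K] {E : Scheme.{u}} [E.Over (Spec (CommRingCat.of K))]
    {J : E.IdealSheafData} {a b a' b' : K} (h2 : (2 : K) ≠ 0) (h3 : (3 : K) ≠ 0) (h : HasWeier K J a b)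
    (h' : HasWeier K J a' b') : jInv a' b' = jInv a b := by
  obtain ⟨x, y, g, e⟩ := h
  obtain ⟨x', y', g', e'⟩ := h'
  exact g.jInv_eq h2 h3 e g' e'

theorem map_mon' {A A' : Type*} [CommRing A] [CommRing A'] (ρ : A →+* A') (x y : A) (n : ℕ) :
    ρ (EllFilt.mon x y n) = EllFilt.mon (ρ x) (ρ y) n := by
  rw [EllFilt.mon, EllFilt.mon]
  split_ifs
  · rw [map_pow]
  · rw [map_mul, map_pow]

section rel

variable {R : Type u} [CommRing R] [IsLocalRing R] [IsNoetherianRing R] {κ : Type u} [Field κ] [Algebra R κ]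
  (hs : Function.Surjective (algebraMap R κ))
  {E : Scheme.{u}} [E.Over (Spec (CommRingCat.of R))] [IsProper (E ↘ Spec (CommRingCat.of R))]
  [SmoothOfRelativeDimension 1 (E ↘ Spec (CommRingCat.of R))]
  {E₀ : Scheme.{u}} [E₀.Over (Spec (CommRingCat.of κ))] (j₀ : E₀ ⟶ E)
  (H₀ : IsPullback j₀ (E₀ ↘ Spec (CommRingCat.of κ)) (E ↘ Spec (CommRingCat.of R))
    (Spec.map (CommRingCat.ofHom (algebraMap R κ))))
  (hE₀ : Curve κ E₀ 1) (σ : Spec (CommRingCat.of R) ⟶ E)
  (hσ : σ ≫ (E ↘ Spec (CommRingCat.of R)) = 𝟙 (Spec (CommRingCat.of R)))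

include H₀ hE₀ hσ in
omit [IsLocalRing R] [IsNoetherianRing R] [SmoothOfRelativeDimension 1 (E ↘ Spec (CommRingCat.of R))] in
theorem exists_ell : ∃ (_ : IsDomain (Fn κ (σ.ker.comap j₀))), EllFilt (poles κ (σ.ker.comap j₀)) ∧
    IsIntegrallyClosed (Fn κ (σ.ker.comap j₀)) := by
  have key : ∀ J : E₀.IdealSheafData, (pt₀ j₀ H₀ σ hσ).1.ker = J →
      ∃ (_ : IsDomain (Fn κ J)), EllFilt (poles κ J) ∧ IsIntegrallyClosed (Fn κ J) := by
    rintro _ rfl
    have h1 := hE₀.integral
    have h2 := nonempty_cU hE₀ (pt₀ j₀ H₀ σ hσ)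
    have h3 : IsDomain (Fn κ (pt₀ j₀ H₀ σ hσ).1.ker) :=
      inferInstanceAs (IsDomain Γ(E₀, cU (pt₀ j₀ H₀ σ hσ).1.ker))
    exact ⟨h3, ellFilt hE₀ (pt₀ j₀ H₀ σ hσ), hE₀.isIntegrallyClosed _⟩
  exact key _ (ker_pt₀ j₀ H₀ σ hσ)

include hs H₀ hE₀ hσ in
theorem relFilt [IsDomain (Fn κ (σ.ker.comap j₀))] (hell : EllFilt (poles κ (σ.ker.comap j₀))) :
    RelFilt (rho (R := R) (B := κ) j₀ σ.ker) (poles R σ.ker) (poles κ (σ.ker.comap j₀)) := by
  have hI := isEff_section σ hσ
  have hI₀ := isEff_comap σ hσ H₀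
  have hcs : CompactSpace E := QuasiCompact.compactSpace_of_compactSpace (E ↘ Spec (CommRingCat.of R))
  have comm : ∀ r : R, rho (R := R) (B := κ) j₀ σ.ker (algebraMap R (Fn R σ.ker) r) =
      algebraMap κ (Fn κ (σ.ker.comap j₀)) (algebraMap R κ r) := fun r =>
    rho_algebraMap (algebraMap R κ) j₀ σ.ker H₀.w r
  have hmap : ∀ {n : ℕ} {a : Fn R σ.ker}, a ∈ poles R σ.ker n →
      rho (R := R) (B := κ) j₀ σ.ker a ∈ poles κ (σ.ker.comap j₀) n := fun ha => rho_mem j₀ σ.ker hI hI₀ ha
  -- functions with at most a simple pole are constant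
  obtain ⟨f1, -, f3, -⟩ := key hs j₀ H₀ hE₀ σ hσ 1 le_rfl
  have hconst : ∀ a ∈ poles R σ.ker 1, ∃ r : R, a = algebraMap R (Fn R σ.ker) r := by
    have h1 : poles R σ.ker 1 ≤ Submodule.span R {1} := by
      refine Submodule.le_of_le_smul_of_le_jacobson_bot (I := maximalIdeal R) f1
        (IsLocalRing.maximalIdeal_le_jacobson _) ?_
      intro a ha
      obtain ⟨c, hc⟩ := hell.exists_const (hmap ha)
      obtain ⟨r, rfl⟩ := hs c
      have h2 : algebraMap R (Fn R σ.ker) r ∈ poles R σ.ker 1 := by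
        rw [Algebra.algebraMap_eq_smul_one]
        exact Submodule.smul_mem _ r (poles_mono (Nat.zero_le 1) one_mem_poles)
      have h3 := f3 (a - algebraMap R (Fn R σ.ker) r) (Submodule.sub_mem _ ha h2)
        (by rw [map_sub, hc, comm, sub_self])
      rw [show a = algebraMap R (Fn R σ.ker) r + (a - algebraMap R (Fn R σ.ker) r) by ring]
      refine Submodule.add_mem_sup ?_ h3
      rw [Algebra.algebraMap_eq_smul_one]
      exact Submodule.smul_mem _ r (Submodule.mem_span_singleton_self _)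
    intro a ha
    obtain ⟨r, hr⟩ := Submodule.mem_span_singleton.1 (h1 ha)
    exact ⟨r, by rw [Algebra.algebraMap_eq_smul_one, hr]⟩
  have hzero : poles R σ.ker 0 = Submodule.span R {1} := by
    apply le_antisymm
    · intro a ha
      obtain ⟨r, rfl⟩ := hconst a (poles_mono (Nat.zero_le 1) ha)
      rw [Algebra.algebraMap_eq_smul_one]
      exact Submodule.smul_mem _ r (Submodule.mem_span_singleton_self _)
    · rw [Submodule.span_singleton_le_iff_mem]
      exact one_mem_poles
  have hone : (1 : Fn R σ.ker) ∈ poles R σ.ker 0 := one_mem_poles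
  refine ⟨hell, hs, comm, ?_, hone, poles_mono, fun ha hb => mul_mem_poles ha hb, exists_mem_poles hI, hmap, ?_, ?_⟩
  · intro n
    rcases Nat.eq_zero_or_pos n with rfl | hn
    · rw [hzero]
      exact Submodule.fg_span_singleton 1
    · exact (key hs j₀ H₀ hE₀ σ hσ n hn).1
  · intro n v hv
    rcases Nat.eq_zero_or_pos n with rfl | hn
    · obtain ⟨c, rfl⟩ := hell.exists_const (poles_mono (Nat.zero_le 1) hv)
      obtain ⟨r, rfl⟩ := hs c
      refine ⟨algebraMap R (Fn R σ.ker) r, ?_, comm r⟩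
      rw [Algebra.algebraMap_eq_smul_one]
      exact Submodule.smul_mem _ r hone
    · exact (key hs j₀ H₀ hE₀ σ hσ n hn).2.1 v hv
  · intro n a ha h0
    rcases Nat.eq_zero_or_pos n with rfl | hn
    · obtain ⟨r, rfl⟩ := hconst a (poles_mono (Nat.zero_le 1) ha)
      rw [comm, map_eq_zero_iff _ (FaithfulSMul.algebraMap_injective κ _)] at h0
      have h1 : r ∈ maximalIdeal R := by
        rw [← K664.LocBC.ker_eq_maximalIdeal κ hs]
        exact h0
      rw [Algebra.algebraMap_eq_smul_one]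
      exact Submodule.smul_mem_smul h1 hone
    · exact (key hs j₀ H₀ hE₀ σ hσ n hn).2.2.1 a ha h0

include hs H₀ hE₀ hσ in
/-- **Short Weierstrass equations over local rings.** -/
theorem exists_weier (h2 : IsUnit (2 : R)) (h3 : IsUnit (3 : R)) : ∃ a b : R, IsUnit (4 * a ^ 3 + 27 * b ^ 2) ∧
    ∀ (K : Type u) [Field K] [Algebra R K] (E' : Scheme.{u}) [E'.Over (Spec (CommRingCat.of K))] (j : E' ⟶ E)
      (_ : IsPullback j (E' ↘ Spec (CommRingCat.of K)) (E ↘ Spec (CommRingCat.of R))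
        (Spec.map (CommRingCat.ofHom (algebraMap R K)))) (σ' : Spec (CommRingCat.of K) ⟶ E')
      (_ : σ' ≫ (E' ↘ Spec (CommRingCat.of K)) = 𝟙 (Spec (CommRingCat.of K)))
      (_ : σ' ≫ j = Spec.map (CommRingCat.ofHom (algebraMap R K)) ≫ σ),
      HasWeier K σ'.ker (algebraMap R K a) (algebraMap R K b) := by
  obtain ⟨hdom, hell, hic⟩ := exists_ell j₀ H₀ hE₀ σ hσ
  have hI := isEff_section σ hσ
  have F := relFilt hs j₀ H₀ hE₀ σ hσ hell
  obtain ⟨x, y, a, b, g, he⟩ := F.exists_short h2 h3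
  refine ⟨a, b, F.isUnit_disc h2 h3 g he, ?_⟩
  intro K _ _ E' _ j H σ' k1 k2
  rw [ker_baseChange σ hσ H σ' k1 k2]
  have hI' := isEff_comap σ hσ H
  have comm : ∀ r : R, rho (R := R) (B := K) j σ.ker (algebraMap R (Fn R σ.ker) r) =
      algebraMap K (Fn K (σ.ker.comap j)) (algebraMap R K r) := fun r =>
    rho_algebraMap (algebraMap R K) j σ.ker H.w r
  have hmap : ∀ {n : ℕ} {a : Fn R σ.ker}, a ∈ poles R σ.ker n →
      rho (R := R) (B := K) j σ.ker a ∈ poles K (σ.ker.comap j) n := fun ha => rho_mem j σ.ker hI hI' ha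
  have hspan : ∀ n, 1 ≤ n → poles K (σ.ker.comap j) n ≤ Submodule.span K
      (EllFilt.mon (rho (R := R) (B := K) j σ.ker x) (rho (R := R) (B := K) j σ.ker y) '' {i | i ≤ n ∧ i ≠ 1}) := by
    intro n hn
    refine ((key hs j₀ H₀ hE₀ σ hσ n hn).2.2.2 K E' j H).1.trans ?_
    rw [Submodule.span_le]
    rintro _ ⟨z, hz, rfl⟩
    have hz2 := F.le_span g n hz
    clear hz
    induction hz2 using Submodule.span_induction with
    | mem w hw =>
      obtain ⟨i, hi, rfl⟩ := hw
      rw [map_mon']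
      exact Submodule.subset_span ⟨i, hi, rfl⟩
    | zero => rw [map_zero]; exact Submodule.zero_mem _
    | add z w _ _ hz hw => rw [map_add]; exact Submodule.add_mem _ hz hw
    | smul r z _ hz =>
      rw [Algebra.smul_def, map_mul, comm, ← Algebra.smul_def]
      exact Submodule.smul_mem _ _ hz
  refine ⟨rho (R := R) (B := K) j σ.ker x, rho (R := R) (B := K) j σ.ker y, ?_, ?_⟩
  · refine Gen.of_span (hmap g.x_mem) (hmap g.y_mem) ?_ ((key hs j₀ H₀ hE₀ σ hσ 6 (by norm_num)).2.2.2 K E' j H).2 ?_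
    · intro n
      rcases Nat.eq_zero_or_pos n with rfl | hn
      · refine (poles_mono (Nat.zero_le 1)).trans ((hspan 1 le_rfl).trans (Submodule.span_mono ?_))
        rintro _ ⟨i, ⟨hi, hi1⟩, rfl⟩
        exact ⟨i, ⟨by omega, hi1⟩, rfl⟩
      · exact hspan n hn
    · intro i hi hi1
      rw [← map_mon']
      exact hmap (poles_mono hi (F.mon_mem g i hi1))
  · have := congrArg (rho (R := R) (B := K) j σ.ker) he
    simpa only [map_add, map_mul, map_pow, comm] using this

end rel

end K664.RelPole
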