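import Groth.Agent.Surf.K664.RelWeier

/-!
# The invariant of a family of curves of genus one

`g : Y ⟶ S` smooth and proper of relative dimension one with fibres of genus one, `Y` integral.  The family
`Y ×_S Y ⟶ Y` has the diagonal as a section.
* `exists_loc`: Weierstrass equations of this family over the local rings of `Y` at rational points, all inducing the
  same invariant at the generic point.
-/

set_option autoImplicit false
universe u

open CategoryTheory CategoryTheory.Limits AlgebraicGeometry Opposite TopologicalSpace IsLocalRing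
open Groth.Agent

namespace K664.UnivPt

open K664.PoleFilt K664.WeierFilt K664.FieldFilt K664.RelPole

section general

variable {Y S : Scheme.{u}} (g : Y ⟶ S)

/-- The family over `T` with the section defined by `h : T ⟶ Y`. -/
noncomputable def sec {T : Scheme.{u}} (h : T ⟶ Y) : T ⟶ pullback g (h ≫ g) :=
  pullback.lift h (𝟙 T) (by rw [Category.id_comp])

theorem sec_fst {T : Scheme.{u}} (h : T ⟶ Y) : sec g h ≫ pullback.fst g (h ≫ g) = h := pullback.lift_fst _ _ _

theorem sec_snd {T : Scheme.{u}} (h : T ⟶ Y) : sec g h ≫ pullback.snd g (h ≫ g) = 𝟙 T := pullback.lift_snd _ _ _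

theorem exists_lift {T T' X' : Scheme.{u}} (h : T ⟶ Y) (w : T' ⟶ T) (j : X' ⟶ Y) (r : X' ⟶ T')
    (H : IsPullback j r g (w ≫ h ≫ g)) :
    ∃ j' : X' ⟶ pullback g (h ≫ g), j' ≫ pullback.fst g (h ≫ g) = j ∧
      IsPullback j' r (pullback.snd g (h ≫ g)) w := by
  have hw : j ≫ g = (r ≫ w) ≫ h ≫ g := by rw [H.w, Category.assoc]
  refine ⟨pullback.lift j (r ≫ w) hw, pullback.lift_fst _ _ _, ?_⟩
  refine IsPullback.of_right (h₁₂ := pullback.fst g (h ≫ g)) (h₂₂ := h ≫ g) (v₁₃ := g) ?_
    (pullback.lift_snd _ _ _) (IsPullback.of_hasPullback g (h ≫ g))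
  rw [pullback.lift_fst]
  exact H

theorem sec_lift {T T' X' : Scheme.{u}} (h : T ⟶ Y) (w : T' ⟶ T) {j : X' ⟶ Y} {r : X' ⟶ T'}
    {j' : X' ⟶ pullback g (h ≫ g)} (hj : j' ≫ pullback.fst g (h ≫ g) = j)
    (H : IsPullback j' r (pullback.snd g (h ≫ g)) w) (x : T' ⟶ X') (hx : x ≫ r = 𝟙 T') (hxj : x ≫ j = w ≫ h) :
    x ≫ j' = w ≫ sec g h := by
  apply pullback.hom_ext
  · rw [Category.assoc, hj, hxj, Category.assoc, sec_fst]
  · rw [Category.assoc, H.w, ← Category.assoc, hx, Category.id_comp, Category.assoc, sec_snd, Category.comp_id]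

end general

section point

variable {k : Type u} [Field k] {Y : Scheme.{u}} [Y.Over (Spec (CommRingCat.of k))] (y : Spec (CommRingCat.of k) ⟶ Y)
  (hy : y ≫ (Y ↘ Spec (CommRingCat.of k)) = 𝟙 (Spec (CommRingCat.of k)))

/-- The local ring at the rational point. -/
abbrev LR : Type u := Y.presheaf.stalk (y (closedPoint k))

/-- Evaluation at the rational point. -/
noncomputable def evl : LR y →+* k := (Scheme.stalkClosedPointTo y).hom

/-- The constants. -/
noncomputable def cst : k →+* LR y :=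
  (Spec.preimage (Y.fromSpecStalk (y (closedPoint k)) ≫ (Y ↘ Spec (CommRingCat.of k)))).hom

omit [Y.Over (Spec (CommRingCat.of k))] in
theorem spec_evl : Spec.map (CommRingCat.ofHom (evl y)) ≫ Y.fromSpecStalk (y (closedPoint k)) = y :=
  Scheme.Spec_stalkClosedPointTo_fromSpecStalk y

theorem spec_cst : Spec.map (CommRingCat.ofHom (cst y)) = Y.fromSpecStalk (y (closedPoint k)) ≫
    (Y ↘ Spec (CommRingCat.of k)) := Spec.map_preimage _

include hy in
theorem evl_cst (c : k) : evl y (cst y c) = c := by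
  have h1 : CommRingCat.ofHom (cst y) ≫ CommRingCat.ofHom (evl y) = 𝟙 (CommRingCat.of k) := by
    apply Spec.map_injective
    rw [Spec.map_comp, spec_cst, ← Category.assoc, spec_evl, hy, Spec.map_id]
  exact congrArg (fun φ => φ.hom c) h1

include hy in
theorem evl_surjective : Function.Surjective (evl y) := fun c => ⟨cst y c, evl_cst y hy c⟩

end point

section loc

variable {k : Type u} [Field k] {Y S : Scheme.{u}} [Y.Over (Spec (CommRingCat.of k))] (g : Y ⟶ S) [IsProper g]
  [SmoothOfRelativeDimension 1 g] [IsLocallyNoetherian Y] [IsIntegral Y] (y : Spec (CommRingCat.of k) ⟶ Y)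
  (hy : y ≫ (Y ↘ Spec (CommRingCat.of k)) = 𝟙 (Spec (CommRingCat.of k)))

/-- The generic member of the family has the given equation. -/
def GenWeier (a b : Y.functionField) : Prop :=
  @HasWeier Y.functionField _ (pullback g (Y.fromSpecStalk (genericPoint Y) ≫ g)) ⟨pullback.snd _ _⟩
    (sec g (Y.fromSpecStalk (genericPoint Y))).ker a b

include hy in
/-- **Local equations.** -/
theorem exists_loc (h2 : (2 : k) ≠ 0) (h3 : (3 : k) ≠ 0) (X₀ : Scheme.{u}) [X₀.Over (Spec (CommRingCat.of k))]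
    (j : X₀ ⟶ Y) (H : IsPullback j (X₀ ↘ Spec (CommRingCat.of k)) g (y ≫ g)) (hX₀ : Curve k X₀ 1) :
    ∃ a b : LR y, IsUnit (4 * a ^ 3 + 27 * b ^ 2) ∧
      (∀ x₀ : Spec (CommRingCat.of k) ⟶ X₀, x₀ ≫ (X₀ ↘ Spec (CommRingCat.of k)) = 𝟙 _ → x₀ ≫ j = y →
        HasWeier k x₀.ker (evl y a) (evl y b)) ∧
      GenWeier g (algebraMap (LR y) Y.functionField a) (algebraMap (LR y) Y.functionField b) := by
  let R : Type u := LR y
  let _ : Algebra R k := (evl y).toAlgebra
  have hs : Function.Surjective (algebraMap R k) := evl_surjective y hy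
  have hN : IsNoetherianRing R := inferInstance
  let h : Spec (CommRingCat.of R) ⟶ Y := Y.fromSpecStalk (y (closedPoint k))
  have hw : Spec.map (CommRingCat.ofHom (algebraMap R k)) ≫ h = y := spec_evl y
  let _ : (pullback g (h ≫ g)).Over (Spec (CommRingCat.of R)) := ⟨pullback.snd g (h ≫ g)⟩
  have hst := smoothOfRelativeDimension_isStableUnderBaseChange.{u} 1
  have i1 : IsProper ((pullback g (h ≫ g)) ↘ Spec (CommRingCat.of R)) :=
    inferInstanceAs (IsProper (pullback.snd g (h ≫ g)))
  have i2 : SmoothOfRelativeDimension 1 ((pullback g (h ≫ g)) ↘ Spec (CommRingCat.of R)) :=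
    MorphismProperty.of_isPullback (P := @SmoothOfRelativeDimension.{u} 1) (IsPullback.of_hasPullback g (h ≫ g))
      inferInstance
  obtain ⟨j₀, hj₀, H₀⟩ := exists_lift g h (Spec.map (CommRingCat.ofHom (algebraMap R k))) j
    (X₀ ↘ Spec (CommRingCat.of k)) (by rw [← Category.assoc, hw]; exact H)
  have u2 : IsUnit (2 : R) := by
    have := (isUnit_iff_ne_zero.2 h2).map (cst y)
    rwa [map_ofNat] at this
  have u3 : IsUnit (3 : R) := by
    have := (isUnit_iff_ne_zero.2 h3).map (cst y)
    rwa [map_ofNat] at this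
  obtain ⟨a, b, hab, hw'⟩ := exists_weier hs j₀ H₀ hX₀ (sec g h) (sec_snd g h) u2 u3
  refine ⟨a, b, hab, ?_, ?_⟩
  · intro x₀ hx₀ hx₀j
    exact hw' k X₀ j₀ H₀ x₀ hx₀ (sec_lift g h _ hj₀ H₀ x₀ hx₀ (by rw [hw]; exact hx₀j))
  · let K : Type u := Y.functionField
    let η : Spec (CommRingCat.of K) ⟶ Y := Y.fromSpecStalk (genericPoint Y)
    have hη : Spec.map (CommRingCat.ofHom (algebraMap R K)) ≫ h = η :=
      Scheme.SpecMap_stalkSpecializes_fromSpecStalk (genericPoint_specializes _)
    let _ : (pullback g (η ≫ g)).Over (Spec (CommRingCat.of K)) := ⟨pullback.snd g (η ≫ g)⟩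
    obtain ⟨j₁, hj₁, H₁⟩ := exists_lift g h (Spec.map (CommRingCat.ofHom (algebraMap R K))) (pullback.fst g (η ≫ g))
      (pullback.snd g (η ≫ g)) (by rw [← Category.assoc, hη]; exact IsPullback.of_hasPullback g (η ≫ g))
    exact hw' K (pullback g (η ≫ g)) j₁ H₁ (sec g η) (sec_snd g η)
      (sec_lift g h _ hj₁ H₁ (sec g η) (sec_snd g η) (by rw [hη, sec_fst]))

end loc

end K664.UnivPt
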