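import Groth.Agent.Surf.K664.WeierFilt
import Mathlib.FieldTheory.IsAlgClosed.Basic
import Mathlib.Algebra.Polynomial.Div
import Mathlib.RingTheory.Ideal.Quotient.Operations

/-!
# Uniqueness of short Weierstrass equations

* `short_unique`: two short equations of the same filtered ring are related by `a' = α² a`, `b' = α³ b`.
* `jInv`, `jInv_eq`, `exists_scale`: the invariant of an equation.
* `exists_algEquiv`: filtered rings with the same equation are isomorphic.
-/

set_option autoImplicit false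
set_option linter.unusedSectionVars false

namespace K664.WeierFilt

open Polynomial

section inv

variable {κ : Type*} [Field κ]

/-- The invariant of the equation `y² = x³ + a x + b`. -/
noncomputable def jInv (a b : κ) : κ := a ^ 3 / (4 * a ^ 3 + 27 * b ^ 2)

theorem jInv_scale {a b α : κ} (hα : α ≠ 0) : jInv (α ^ 2 * a) (α ^ 3 * b) = jInv a b := by
  rw [jInv, jInv, show 4 * (α ^ 2 * a) ^ 3 + 27 * (α ^ 3 * b) ^ 2 = α ^ 6 * (4 * a ^ 3 + 27 * b ^ 2) by ring,
    show (α ^ 2 * a) ^ 3 = α ^ 6 * a ^ 3 by ring, mul_div_mul_left _ _ (pow_ne_zero 6 hα)]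

theorem exists_scale [IsAlgClosed κ] (h3 : (3 : κ) ≠ 0) {a b a' b' : κ}
    (hd : 4 * a ^ 3 + 27 * b ^ 2 ≠ 0) (hd' : 4 * a' ^ 3 + 27 * b' ^ 2 ≠ 0) (hj : jInv a b = jInv a' b') :
    ∃ α : κ, α ≠ 0 ∧ a' = α ^ 2 * a ∧ b' = α ^ 3 * b := by
  have h27 : (27 : κ) ≠ 0 := by
    have : (27 : κ) = 3 ^ 3 := by norm_num
    rw [this]; exact pow_ne_zero _ h3
  have h1 : a ^ 3 * b' ^ 2 = a' ^ 3 * b ^ 2 := by
    rw [jInv, jInv, div_eq_div_iff hd hd'] at hj
    have : (27 : κ) * (a ^ 3 * b' ^ 2 - a' ^ 3 * b ^ 2) = 0 := by linear_combination hj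
    exact sub_eq_zero.1 ((mul_eq_zero.1 this).resolve_left h27)
  by_cases ha : a = 0
  · have hb : b ≠ 0 := by
      rintro rfl
      exact hd (by rw [ha]; ring)
    have ha' : a' = 0 := by
      rw [ha] at h1
      have : a' ^ 3 * b ^ 2 = 0 := by rw [← h1]; ring
      exact pow_eq_zero_iff (by norm_num : (3:ℕ) ≠ 0) |>.1 ((mul_eq_zero.1 this).resolve_right (pow_ne_zero 2 hb))
    have hb' : b' ≠ 0 := by
      rintro rfl
      exact hd' (by rw [ha']; ring)
    obtain ⟨α, hα⟩ := IsAlgClosed.exists_pow_nat_eq (b' / b) (by norm_num : 0 < 3)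
    refine ⟨α, ?_, by rw [ha, ha']; ring, by rw [hα]; field_simp⟩
    rintro rfl
    rw [zero_pow (by norm_num)] at hα
    exact (div_ne_zero hb' hb) hα.symm
  · by_cases hb : b = 0
    · have hb' : b' = 0 := by
        rw [hb] at h1
        have : a ^ 3 * b' ^ 2 = 0 := by rw [h1]; ring
        exact pow_eq_zero_iff (by norm_num : (2:ℕ) ≠ 0) |>.1 ((mul_eq_zero.1 this).resolve_left (pow_ne_zero 3 ha))
      have ha' : a' ≠ 0 := by
        rintro rfl
        exact hd' (by rw [hb']; ring)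
      obtain ⟨α, hα⟩ := IsAlgClosed.exists_pow_nat_eq (a' / a) (by norm_num : 0 < 2)
      refine ⟨α, ?_, by rw [hα]; field_simp, by rw [hb, hb']; ring⟩
      rintro rfl
      rw [zero_pow (by norm_num)] at hα
      exact (div_ne_zero ha' ha) hα.symm
    · have ha' : a' ≠ 0 := by
        rintro rfl
        apply hd'
        have : a ^ 3 * b' ^ 2 = 0 := by rw [h1]; ring
        rw [pow_eq_zero_iff (by norm_num : (2:ℕ) ≠ 0) |>.1 ((mul_eq_zero.1 this).resolve_left (pow_ne_zero 3 ha))]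
        ring
      have hb' : b' ≠ 0 := by
        rintro rfl
        have : a' ^ 3 * b ^ 2 = 0 := by rw [← h1]; ring
        exact (mul_ne_zero (pow_ne_zero 3 ha') (pow_ne_zero 2 hb)) this
      refine ⟨(b' / b) / (a' / a), div_ne_zero (div_ne_zero hb' hb) (div_ne_zero ha' ha), ?_, ?_⟩
      · field_simp
        linear_combination (-1 : κ) * h1
      · field_simp
        linear_combination (-1 : κ) * h1

end inv

section field

variable {κ A : Type*} [Field κ] [CommRing A] [IsDomain A] [Algebra κ A]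

namespace EllFilt

variable {V : ℕ → Submodule κ A} (h : EllFilt V) {x y : A}

include h

/-- Elements of `V 2` and of `V 3`. -/
theorem exists_two_eq (hx : x ∈ V 2) (hx' : x ∉ V 1) (hy : y ∈ V 3) (hy' : y ∉ V 2) {z : A} (hz : z ∈ V 2) :
    ∃ α β : κ, z = algebraMap κ A α * x + algebraMap κ A β := by
  have h1 := h.le_span hx hx' hy hy' 2 hz
  have h2 : Submodule.span κ (mon x y '' {i | i ≤ 2 ∧ i ≠ 1}) ≤ Submodule.span κ {x, 1} := by
    rw [Submodule.span_le]
    rintro _ ⟨i, ⟨hi, hi1⟩, rfl⟩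
    apply Submodule.subset_span
    interval_cases i
    · simp [mon]
    · exact absurd rfl hi1
    · simp [mon]
  have h3 := h2 h1
  simp only [Submodule.mem_span_insert, Submodule.mem_span_singleton] at h3
  obtain ⟨α, _, ⟨β, rfl⟩, rfl⟩ := h3
  exact ⟨α, β, by simp only [Algebra.smul_def, mul_one]⟩

theorem exists_three_eq (hx : x ∈ V 2) (hx' : x ∉ V 1) (hy : y ∈ V 3) (hy' : y ∉ V 2) {z : A} (hz : z ∈ V 3) :
    ∃ α β γ : κ, z = algebraMap κ A α * y + algebraMap κ A β * x + algebraMap κ A γ := by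
  have h1 := h.le_span hx hx' hy hy' 3 hz
  have h2 : Submodule.span κ (mon x y '' {i | i ≤ 3 ∧ i ≠ 1}) ≤ Submodule.span κ {y, x, 1} := by
    rw [Submodule.span_le]
    rintro _ ⟨i, ⟨hi, hi1⟩, rfl⟩
    apply Submodule.subset_span
    interval_cases i
    · simp [mon]
    · exact absurd rfl hi1
    · simp [mon]
    · simp [mon]
  have h3 := h2 h1
  simp only [Submodule.mem_span_insert, Submodule.mem_span_singleton] at h3
  obtain ⟨α, _, ⟨β, _, ⟨γ, rfl⟩, rfl⟩, rfl⟩ := h3
  exact ⟨α, β, γ, by simp only [Algebra.smul_def, mul_one]; ring⟩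

/-- **Uniqueness of short Weierstrass equations.** -/
theorem short_unique (h2 : (2 : κ) ≠ 0) (h3 : (3 : κ) ≠ 0) (hx : x ∈ V 2) (hx' : x ∉ V 1) (hy : y ∈ V 3)
    (hy' : y ∉ V 2) {a b a' b' : κ} (he : y ^ 2 = x ^ 3 + algebraMap κ A a * x + algebraMap κ A b)
    {x' y' : A} (kx : x' ∈ V 2) (kx' : x' ∉ V 1) (ky : y' ∈ V 3) (ky' : y' ∉ V 2)
    (he' : y' ^ 2 = x' ^ 3 + algebraMap κ A a' * x' + algebraMap κ A b') :
    ∃ α : κ, α ≠ 0 ∧ a' = α ^ 2 * a ∧ b' = α ^ 3 * b := by
  obtain ⟨α, β, rfl⟩ := h.exists_two_eq hx hx' hy hy' kx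
  obtain ⟨γ, δ, ε, rfl⟩ := h.exists_three_eq hx hx' hy hy' ky
  have hα : α ≠ 0 := by
    rintro rfl
    apply kx'
    rw [map_zero, zero_mul, zero_add]
    exact h.algebraMap_mem 1 β
  have key := h.eq_zero_of_comb hx hx' hy hy' (c₀ := γ ^ 2 * b + ε ^ 2 - β ^ 3 - a' * β - b')
    (c₂ := γ ^ 2 * a + 2 * δ * ε - 3 * α * β ^ 2 - a' * α) (c₃ := 2 * γ * ε) (c₄ := δ ^ 2 - 3 * α ^ 2 * β)
    (c₅ := 2 * γ * δ) (c₆ := γ ^ 2 - α ^ 3) (by
      simp only [map_add, map_sub, map_mul, map_pow, map_ofNat]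
      linear_combination he' - (algebraMap κ A γ) ^ 2 * he)
  obtain ⟨k0, k2, k3, k4, k5, k6⟩ := key
  have hγ : γ ≠ 0 := by
    rintro rfl
    have : α ^ 3 = 0 := by linear_combination -k6
    exact hα (pow_eq_zero_iff (by norm_num : (3:ℕ) ≠ 0) |>.1 this)
  have hε : ε = 0 := (mul_eq_zero.1 k3).resolve_left (mul_ne_zero h2 hγ)
  have hδ : δ = 0 := (mul_eq_zero.1 k5).resolve_left (mul_ne_zero h2 hγ)
  have hβ : β = 0 := by
    rw [hδ] at k4
    have : 3 * α ^ 2 * β = 0 := by linear_combination -k4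
    exact (mul_eq_zero.1 this).resolve_left (mul_ne_zero h3 (pow_ne_zero 2 hα))
  subst hε hδ hβ
  refine ⟨α, hα, ?_, by linear_combination (-1 : κ) * k0 + b * k6⟩
  apply mul_right_cancel₀ hα
  linear_combination (-1 : κ) * k2 + a * k6

theorem aeval_mem (hx : x ∈ V 2) (p : κ[X]) {m : ℕ} (hm : p.natDegree ≤ m) : aeval x p ∈ V (2 * m) := by
  rw [aeval_eq_sum_range]
  refine Submodule.sum_mem _ fun i hi => (V (2 * m)).smul_mem _ ?_
  have : i ≤ m := by
    rw [Finset.mem_range] at hi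
    omega
  exact h.mono (by omega) (h.pow_mem hx i)

theorem aeval_notMem (hx : x ∈ V 2) (hx' : x ∉ V 1) (p : κ[X]) (hm : 1 ≤ p.natDegree) :
    aeval x p ∉ V (2 * p.natDegree - 1) := by
  intro hcon
  have h1 := p.eraseLead_add_C_mul_X_pow
  have h2 : aeval x p.eraseLead ∈ V (2 * p.natDegree - 1) := by
    have h3 := h.aeval_mem hx p.eraseLead (eraseLead_natDegree_le p)
    exact h.mono (by omega) h3
  have h4 : p.leadingCoeff • x ^ p.natDegree ∈ V (2 * p.natDegree - 1) := by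
    have h5 := congrArg (aeval x) h1
    rw [map_add, map_mul, aeval_C, map_pow, aeval_X, ← Algebra.smul_def] at h5
    have h6 := (V (2 * p.natDegree - 1)).sub_mem hcon h2
    rwa [← h5, add_sub_cancel_left] at h6
  have h7 := (V (2 * p.natDegree - 1)).smul_mem p.leadingCoeff⁻¹ h4
  have h8 : p.leadingCoeff ≠ 0 := by
    rw [Ne, leadingCoeff_eq_zero]
    rintro rfl
    simp at hm
  rw [smul_smul, inv_mul_cancel₀ h8, one_smul] at h7
  exact h.pow_notMem hx' _ hm h7

theorem aeval_mul_notMem (hx : x ∈ V 2) (hx' : x ∉ V 1) (hy' : y ∉ V 2) {p : κ[X]} (hp : p ≠ 0) :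
    aeval x p * y ∉ V (2 * p.natDegree + 2) := by
  rcases Nat.eq_zero_or_pos p.natDegree with h0 | h0
  · rw [h0]
    obtain ⟨c, rfl⟩ := natDegree_eq_zero.1 h0
    intro hcon
    have hc : c ≠ 0 := by rintro rfl; exact hp (map_zero _)
    rw [aeval_C, ← Algebra.smul_def] at hcon
    have := (V 2).smul_mem c⁻¹ hcon
    rw [smul_smul, inv_mul_cancel₀ hc, one_smul] at this
    exact hy' this
  · have := h.deg (h.aeval_notMem hx hx' p h0) hy'
    rwa [show 2 * p.natDegree - 1 + 2 + 1 = 2 * p.natDegree + 2 by omega] at this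

/-- Independence. -/
theorem eq_zero_of_aeval (hx : x ∈ V 2) (hx' : x ∉ V 1) (hy : y ∈ V 3) (hy' : y ∉ V 2) {p q : κ[X]}
    (he : aeval x p + aeval x q * y = 0) : p = 0 ∧ q = 0 := by
  have hq : q = 0 := by
    by_contra hq
    have h1 := h.aeval_mul_notMem hx hx' hy' hq
    have h2 : aeval x q * y ∈ V (2 * q.natDegree + 3) := h.mul (h.aeval_mem hx q le_rfl) hy
    rcases Nat.lt_or_ge p.natDegree (q.natDegree + 2) with h3 | h3
    · apply h1
      rw [eq_neg_of_add_eq_zero_right he]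
      exact (V _).neg_mem (h.mono (by omega) (h.aeval_mem hx p le_rfl))
    · have h4 := h.aeval_notMem hx hx' p (by omega)
      apply h4
      rw [eq_neg_of_add_eq_zero_left he]
      exact (V _).neg_mem (h.mono (by omega) h2)
  subst hq
  refine ⟨?_, rfl⟩
  rw [map_zero, zero_mul, add_zero] at he
  by_contra hp
  rcases Nat.eq_zero_or_pos p.natDegree with h0 | h0
  · obtain ⟨c, rfl⟩ := natDegree_eq_zero.1 h0
    rw [aeval_C, map_eq_zero_iff _ (FaithfulSMul.algebraMap_injective κ A)] at he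
    exact hp (by rw [he, map_zero])
  · apply h.aeval_notMem hx hx' p h0
    rw [he]
    exact Submodule.zero_mem _

omit [IsDomain A] h in
/-- The evaluation of polynomials in two variables. -/
noncomputable def ev (x y : A) : κ[X][X] →+* A := eval₂RingHom (aeval x : κ[X] →ₐ[κ] A).toRingHom y

omit [IsDomain A] h in
theorem ev_C (x y : A) (p : κ[X]) : ev x y (C p) = aeval x p := by
  simp [ev]

omit [IsDomain A] h in
theorem ev_X (x y : A) : ev (κ := κ) x y X = y := by
  simp [ev]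

theorem ev_surjective (hx : x ∈ V 2) (hx' : x ∉ V 1) (hy : y ∈ V 3) (hy' : y ∉ V 2) :
    Function.Surjective (ev (κ := κ) x y) := by
  intro z
  obtain ⟨n, hn⟩ := h.top z
  have h1 := h.le_span hx hx' hy hy' n hn
  clear hn
  induction h1 using Submodule.span_induction with
  | mem w hw =>
    obtain ⟨i, -, rfl⟩ := hw
    rw [mon]
    split_ifs
    · exact ⟨C (X ^ (i / 2)), by rw [ev_C, map_pow, aeval_X]⟩
    · exact ⟨C (X ^ ((i - 3) / 2)) * X, by rw [map_mul, ev_C, ev_X, map_pow, aeval_X]⟩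
  | zero => exact ⟨0, map_zero _⟩
  | add z w _ _ hz hw =>
    obtain ⟨p, rfl⟩ := hz
    obtain ⟨q, rfl⟩ := hw
    exact ⟨p + q, map_add _ _ _⟩
  | smul c z _ hz =>
    obtain ⟨p, rfl⟩ := hz
    exact ⟨C (C c) * p, by rw [map_mul, ev_C, aeval_C, Algebra.smul_def]⟩

/-- The Weierstrass polynomial. -/
noncomputable def W (a b : κ) : κ[X][X] := X ^ 2 - C (X ^ 3 + C a * X + C b)

omit h in
theorem monic_W (a b : κ) : (W a b).Monic := monic_X_pow_sub_C _ two_ne_zero

theorem ker_ev (hx : x ∈ V 2) (hx' : x ∉ V 1) (hy : y ∈ V 3) (hy' : y ∉ V 2) {a b : κ}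
    (he : y ^ 2 = x ^ 3 + algebraMap κ A a * x + algebraMap κ A b) :
    RingHom.ker (ev (κ := κ) x y) = Ideal.span {W a b} := by
  have h0 : ev x y (W a b) = 0 := by
    rw [W, map_sub, map_pow, ev_X, ev_C, he]
    simp
  ext p
  rw [RingHom.mem_ker, Ideal.mem_span_singleton]
  constructor
  · intro hp
    have h1 := modByMonic_add_div p (W a b)
    rw [← modByMonic_eq_zero_iff_dvd (monic_W a b)]
    set r := p %ₘ W a b with hr
    have h2 : ev x y r = 0 := by
      have := congrArg (ev x y) h1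
      rw [map_add, map_mul, h0, zero_mul, add_zero, hp] at this
      exact this
    have hdeg : r.natDegree < 2 := by
      have h3 : (W a b).natDegree = 2 := natDegree_X_pow_sub_C
      rw [← h3]
      refine natDegree_modByMonic_lt p (monic_W a b) ?_
      intro h4
      rw [h4, natDegree_one] at h3
      omega
    have h5 : r = C (r.coeff 0) + C (r.coeff 1) * X := by
      ext1 n
      match n with
      | 0 => simp
      | 1 => simp
      | n + 2 =>
        rw [coeff_eq_zero_of_natDegree_lt (by omega)]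
        simp
    rw [h5, map_add, map_mul, ev_C, ev_C, ev_X] at h2
    obtain ⟨e1, e2⟩ := h.eq_zero_of_aeval hx hx' hy hy' h2
    rw [h5, e1, e2]
    simp
  · rintro ⟨q, rfl⟩
    rw [map_mul, h0, zero_mul]

end EllFilt

variable {A' : Type*} [CommRing A'] [IsDomain A'] [Algebra κ A']

/-- **Filtered rings with the same equation are isomorphic.** -/
theorem exists_algEquiv {V : ℕ → Submodule κ A} (h : EllFilt V) {V' : ℕ → Submodule κ A'} (h' : EllFilt V')
    {x y : A} (hx : x ∈ V 2) (hx' : x ∉ V 1) (hy : y ∈ V 3) (hy' : y ∉ V 2) {a b : κ}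
    (he : y ^ 2 = x ^ 3 + algebraMap κ A a * x + algebraMap κ A b)
    {x' y' : A'} (kx : x' ∈ V' 2) (kx' : x' ∉ V' 1) (ky : y' ∈ V' 3) (ky' : y' ∉ V' 2)
    (he' : y' ^ 2 = x' ^ 3 + algebraMap κ A' a * x' + algebraMap κ A' b) :
    ∃ e : A ≃ₐ[κ] A', e x = x' ∧ e y = y' := by
  let φ := EllFilt.ev (κ := κ) x y
  let ψ := EllFilt.ev (κ := κ) x' y'
  have h1 := h.ev_surjective hx hx' hy hy'
  have h2 := h'.ev_surjective kx kx' ky ky'
  have h3 : RingHom.ker φ = RingHom.ker ψ := by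
    rw [h.ker_ev hx hx' hy hy' he, h'.ker_ev kx kx' ky ky' he']
  let e : A ≃+* A' := (RingHom.quotientKerEquivOfSurjective h1).symm.trans
    ((Ideal.quotEquivOfEq h3).trans (RingHom.quotientKerEquivOfSurjective h2))
  have he : ∀ p, e (φ p) = ψ p := by
    intro p
    have h4 : (RingHom.quotientKerEquivOfSurjective h1).symm (φ p) = Ideal.Quotient.mk _ p := by
      rw [RingEquiv.symm_apply_eq]
      rfl
    change (RingHom.quotientKerEquivOfSurjective h2) ((Ideal.quotEquivOfEq h3)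
      ((RingHom.quotientKerEquivOfSurjective h1).symm (φ p))) = ψ p
    rw [h4]
    rfl
  refine ⟨AlgEquiv.ofRingEquiv (f := e) fun c => ?_, ?_, ?_⟩
  · have h5 : algebraMap κ A c = φ (C (C c)) := by
      change _ = EllFilt.ev x y _
      rw [EllFilt.ev_C, aeval_C]
    rw [h5, he]
    change EllFilt.ev x' y' _ = _
    rw [EllFilt.ev_C, aeval_C]
  · change e x = x'
    have h5 : x = φ (C X) := by
      change _ = EllFilt.ev x y _
      rw [EllFilt.ev_C, aeval_X]
    rw [h5, he]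
    change EllFilt.ev x' y' _ = _
    rw [EllFilt.ev_C, aeval_X]
  · change e y = y'
    have h5 : y = φ X := by
      change _ = EllFilt.ev x y _
      rw [EllFilt.ev_X]
    rw [h5, he]
    change EllFilt.ev x' y' _ = _
    rw [EllFilt.ev_X]

/-- Over an algebraically closed field, the invariant determines the ring. -/
theorem nonempty_algEquiv [IsAlgClosed κ] (h3 : (3 : κ) ≠ 0)
    {V : ℕ → Submodule κ A} (h : EllFilt V) {V' : ℕ → Submodule κ A'} (h' : EllFilt V')
    {x y : A} (hx : x ∈ V 2) (hx' : x ∉ V 1) (hy : y ∈ V 3) (hy' : y ∉ V 2) {a b : κ}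
    (he : y ^ 2 = x ^ 3 + algebraMap κ A a * x + algebraMap κ A b)
    {x' y' : A'} (kx : x' ∈ V' 2) (kx' : x' ∉ V' 1) (ky : y' ∈ V' 3) (ky' : y' ∉ V' 2) {a' b' : κ}
    (he' : y' ^ 2 = x' ^ 3 + algebraMap κ A' a' * x' + algebraMap κ A' b')
    (hd : 4 * a ^ 3 + 27 * b ^ 2 ≠ 0) (hd' : 4 * a' ^ 3 + 27 * b' ^ 2 ≠ 0) (hj : jInv a b = jInv a' b') :
    Nonempty (A ≃ₐ[κ] A') := by
  obtain ⟨α, hα, rfl, rfl⟩ := exists_scale h3 hd hd' hj
  obtain ⟨γ, hγ⟩ := IsAlgClosed.exists_pow_nat_eq (α ^ 3) (by norm_num : 0 < 2)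
  have hγ0 : γ ≠ 0 := by
    rintro rfl
    rw [zero_pow (by norm_num)] at hγ
    exact pow_ne_zero 3 hα hγ.symm
  have sm : ∀ (n : ℕ) (c : κ) (z : A), c ≠ 0 → (algebraMap κ A c * z ∈ V n ↔ z ∈ V n) := by
    intro n c z hc
    rw [← Algebra.smul_def]
    constructor
    · intro h1
      have := (V n).smul_mem c⁻¹ h1
      rwa [smul_smul, inv_mul_cancel₀ hc, one_smul] at this
    · exact (V n).smul_mem c
  obtain ⟨e, -, -⟩ := exists_algEquiv h h' (x := algebraMap κ A α * x) (y := algebraMap κ A γ * y)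
    ((sm 2 α x hα).2 hx) (fun h1 => hx' ((sm 1 α x hα).1 h1)) ((sm 3 γ y hγ0).2 hy)
    (fun h1 => hy' ((sm 2 γ y hγ0).1 h1)) (a := α ^ 2 * a) (b := α ^ 3 * b) (by
      have h1 : algebraMap κ A γ ^ 2 = algebraMap κ A α ^ 3 := by rw [← map_pow, hγ, map_pow]
      simp only [map_mul, map_pow]
      rw [mul_pow, h1, he]
      ring) kx kx' ky ky' he'
  exact ⟨e⟩

end field

end K664.WeierFilt
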